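import Cfsg.Agent.H56.ChevAut.Roots
import Cfsg.Agent.H37.Twist.Fixed

/-!
The split Tits system of a twisted group seen inside the Chevalley group: membership, the longest
element, the Sylow subgroup.
-/
set_option autoImplicit false

namespace Cfsg.Agent.H56.TwAut

open Cfsg.Lie Cfsg.Agent.H37 Cfsg.Agent.H37.NormalForm Cfsg.Agent.H37.RootSys Cfsg.Agent.H37.Twist Cfsg.Agent.H56.ChevAut

variable {D : ChevalleyDatum} {K : Type*} [Field K] [Finite K] {Q : Chev.Data D K} {E : Endo Q}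
  {W' : Type*} [Group W'] {Φ : Fold E W'} (Md : Model Φ)

/-- An element of the twisted group as an element of the Chevalley group. -/
def lift (g : ↥Md.T) : ↥(D.group K) := ⟨g.1, Md.le_group g.2⟩

/-- `lift` as a homomorphism. -/
def liftHom : ↥Md.T →* ↥(D.group K) := Subgroup.inclusion Md.le_group

omit [Finite K] in
theorem lift_mul (g h : ↥Md.T) : lift Md (g * h) = lift Md g * lift Md h := rfl

omit [Finite K] in
theorem lift_inv (g : ↥Md.T) : lift Md g⁻¹ = (lift Md g)⁻¹ := rfl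

omit [Finite K] in
theorem lift_injective : Function.Injective (lift Md) := fun _ _ h =>
  Subtype.ext (congrArg (fun x : ↥(D.group K) => (x : GL D.Idx K)) h)

theorem lift_iso (x : ↥(fixedPts E.σ)) : lift Md (Md.iso x) = x := Subtype.ext (Md.coe_iso x)

theorem iso_symm_coe (g : ↥Md.T) : ((Md.iso.symm g : ↥(fixedPts E.σ)) : ↥(D.group K)) = lift Md g := by
  conv_rhs => rw [← Md.iso.apply_symm_apply g, lift_iso]

theorem mem_map_iso (L : Subgroup ↥(D.group K)) (g : ↥Md.T) :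
    g ∈ (L.subgroupOf (fixedPts E.σ)).map Md.iso.toMonoidHom ↔ lift Md g ∈ L := by
  rw [Subgroup.mem_map_equiv, Subgroup.mem_subgroupOf, iso_symm_coe]

theorem mem_U {g : ↥Md.T} : g ∈ Md.tw.U ↔ lift Md g ∈ Q.amb.U := mem_map_iso Md _ g

theorem mem_H {g : ↥Md.T} : g ∈ Md.tw.H ↔ lift Md g ∈ Q.amb.H := mem_map_iso Md _ g

theorem mem_Uw {a : W'} {g : ↥Md.T} : g ∈ Md.tw.Uw a ↔ lift Md g ∈ Q.sys.Uw (Φ.ι a) :=
  mem_map_iso Md _ g

theorem lift_n (a : W') : ∃ k ∈ Q.amb.H, lift Md (Md.tw.n a) = k * Q.amb.n (Φ.ι a) := by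
  obtain ⟨k, hk, e⟩ := Md.rep_spec (Φ.ι a)
  exact ⟨k, hk, (lift_iso Md _).trans e⟩

theorem H_conj_U_iff {k : ↥(D.group K)} (hk : k ∈ Q.amb.H) {u : ↥(D.group K)} :
    k * u * k⁻¹ ∈ Q.amb.U ↔ u ∈ Q.amb.U := by
  refine ⟨fun h => ?_, fun h => Q.amb.H_conj_U k hk u h⟩
  simpa [mul_assoc] using Q.amb.H_conj_U _ (inv_mem hk) _ h

theorem mem_Vopp' {g : ↥Md.T} :
    g ∈ Vopp Md.tw Md.w0 ↔ lift Md g ∈ Vopp Q.amb Q.X.w0 := by
  rw [mem_Vopp, mem_Vopp, mem_U]
  obtain ⟨k, hk, e⟩ := lift_n Md Md.w0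
  rw [Md.ι_w0] at e
  rw [lift_mul, lift_mul, lift_inv, e]
  have hj := Q.amb.n_conj_H' Q.X.w0 hk
  constructor
  · intro h
    have := (H_conj_U_iff (Q := Q) hj).2 h
    convert this using 1
    group
  · intro h
    refine (H_conj_U_iff (Q := Q) hj).1 ?_
    convert h using 1
    group

theorem inv_w0_mul (w : Q.X.M.Group) :
    Q.X.good.inv (Q.X.w0 * w) + Q.X.good.inv w = D.nroots / 2 := by
  classical
  have hev := Q.X.good.even
  rw [← Sys.card_flip, ← Sys.card_flip, ← Finset.card_union_of_disjoint, ← Sys.card_posSet (D := D)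
    (by omega)]
  · congr 1
    ext r
    rw [Finset.mem_union, Sys.mem_flip, Sys.mem_flip, mem_posSet]
    constructor
    · rintro (⟨h1, h2, -⟩ | ⟨h1, h2, -⟩) <;> exact ⟨h1, h2⟩
    · rintro ⟨h1, h2⟩
      rcases Nat.lt_or_ge (Q.X.good.hom w ⟨r, h1⟩).val (D.nroots / 2) with h | h
      · exact Or.inr ⟨h1, h2, h⟩
      · refine Or.inl ⟨h1, h2, ?_⟩
        rw [map_mul, Equiv.Perm.mul_apply]
        exact Q.X.w0_neg (Fin.isLt _) h
  · rw [Finset.disjoint_left]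
    intro r hr hr'
    obtain ⟨h1, h2, h3⟩ := Sys.mem_flip.1 hr
    obtain ⟨_, _, h4⟩ := Sys.mem_flip.1 hr'
    rw [map_mul, Equiv.Perm.mul_apply] at h3
    generalize hy : Q.X.good.hom w ⟨r, h1⟩ = y at h3 h4
    have hneg := Q.X.good.hom_neg Q.X.w0 y
    have := Q.X.w0_neg (show D.nroots - 1 - y.val < D.nroots by omega) (by omega)
    rw [hneg] at this
    omega

theorem tw_opp : Opp Md.tw Md.w0 := by
  refine ⟨Md.tw_Uw_w0, fun a ha => ?_⟩
  by_contra hne
  have hc : Md.w0 * a ≠ 1 := by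
    intro e
    refine hne ?_
    have h2 : Md.w0 * Md.w0 = 1 := by
      refine Φ.ι_inj ?_
      rw [map_mul, map_one, Md.ι_w0]
      have := inv_w0_mul (Q := Q) Q.X.w0
      have h0 : Q.X.good.inv Q.X.w0 = D.nroots / 2 := by
        have := inv_w0_mul (Q := Q) 1
        rwa [mul_one, Q.X.good.inv_one, add_zero] at this
      exact Q.X.good.eq_one_of_inv_eq_zero (by omega)
    calc a = Md.w0 * Md.w0 * a := by rw [h2, one_mul]
      _ = Md.w0 := by rw [mul_assoc, e, mul_one]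
  obtain ⟨j, hj⟩ := Φ.desc _ hc
  have h1 := inv_w0_mul (Q := Q) (Φ.ι (a * Φ.gens j))
  have h2 := inv_w0_mul (Q := Q) (Φ.ι a)
  simp only [map_mul, Md.ι_w0, mul_assoc] at hj h1 h2
  set g := Φ.ι (Φ.gens j)
  set b := Φ.ι a
  have hadd : Q.X.good.inv (b * g) = Q.X.good.inv b + Q.X.good.inv g := by omega
  obtain ⟨v, hv, hfix, hv1⟩ := Md.base_ne j
  -- `a` keeps the roots made negative by the generator
  have hkeep : ∀ r ∈ Sys.flip Q.X.good g, r ∈ Sys.keep Q.X.good b := by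
    intro r hr
    obtain ⟨h3, h4, h5⟩ := Sys.mem_flip.1 hr
    refine Sys.mem_keep.2 ⟨h3, h4, ?_⟩
    by_contra hcon
    have hrb : r ∈ Sys.flip Q.X.good b := Sys.mem_flip.2 ⟨h3, h4, by omega⟩
    set m := Q.sys.rep g
    have hrange := Q.sys.range_splitMap b g m ⟨1, one_mem _, (one_mul _).symm⟩ hadd
    have hx : Q.sys.x r 1 ∈ Q.sys.Uw b := x_mem_XS (Finset.mem_coe.2 hrb) 1
    have hin : m⁻¹ * Q.sys.x r 1 * m ∈ Q.sys.U := by
      have hmem : Q.sys.splitMap b g m (⟨1, one_mem _⟩, ⟨_, hx⟩) ∈ Q.sys.Uw (b * g) := by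
        have : Q.sys.splitMap b g m (⟨1, one_mem _⟩, ⟨_, hx⟩)
            ∈ Set.range (Q.sys.splitMap b g m) := ⟨_, rfl⟩
        rwa [hrange] at this
      have := Q.sys.Uw_le _ hmem
      simpa [Sys.splitMap] using this
    obtain ⟨k, hk, ek⟩ := Q.amb.n_inv g
    have hgg : g⁻¹ = g := by
      rw [← map_inv, inv_eq_of_mul_eq_one_right (Φ.sq_gens j)]
    rw [hgg] at ek
    obtain ⟨t, et⟩ := Q.sys.rep_conj g r h3 1
    have e2 : m⁻¹ * Q.sys.x r 1 * m = k * (Q.sys.x (Q.X.good.hom g ⟨r, h3⟩).val t) * k⁻¹ := by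
      rw [← et]
      calc m⁻¹ * Q.sys.x r 1 * m = m⁻¹ * Q.sys.x r 1 * m⁻¹⁻¹ := by rw [inv_inv]
        _ = k * m * Q.sys.x r 1 * (k * m)⁻¹ := by rw [show m⁻¹ = k * m from ek]
        _ = _ := by simp only [m]; group
    obtain ⟨t', et'⟩ := Q.sys.h_conj k hk _ (Fin.isLt _) t
    rw [et'] at e2
    -- a positive root element conjugate to a negative one
    have hneg : Q.sys.x (Q.X.good.hom g ⟨r, h3⟩).val t' ∈ Vopp Q.amb Q.X.w0 := by
      rw [mem_Vopp]
      obtain ⟨k0, hk0, ek0⟩ := Q.amb.n_inv Q.X.w0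
      have hw : Q.X.w0⁻¹ = Q.X.w0 := by
        refine inv_eq_of_mul_eq_one_right (Q.X.good.eq_one_of_inv_eq_zero ?_)
        have := inv_w0_mul (Q := Q) Q.X.w0
        have := inv_w0_mul (Q := Q) 1
        rw [mul_one, Q.X.good.inv_one, add_zero] at this
        omega
      rw [hw] at ek0
      set y := Q.X.good.hom g ⟨r, h3⟩ with hy
      obtain ⟨t'', et''⟩ := Q.sys.rep_conj Q.X.w0 y.val y.isLt t'
      have : (Q.amb.n Q.X.w0)⁻¹ * Q.sys.x y.val t' * Q.amb.n Q.X.w0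
          = k0 * (Q.sys.rep Q.X.w0 * Q.sys.x y.val t' * (Q.sys.rep Q.X.w0)⁻¹) * k0⁻¹ := by
        conv_lhs => rw [show Q.amb.n Q.X.w0 = ((Q.amb.n Q.X.w0)⁻¹)⁻¹ from (inv_inv _).symm, ek0]
        show _ = k0 * (Q.amb.n Q.X.w0 * _ * (Q.amb.n Q.X.w0)⁻¹) * k0⁻¹
        group
      rw [this, et'']
      refine Q.amb.H_conj_U _ hk0 _ (Q.sys.x_mem_U (Fin.isLt _) ?_ _)
      have hev := Q.X.good.even
      have := Q.X.w0_neg (show D.nroots - 1 - y.val < D.nroots by omega) (by omega)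
      rw [Q.X.good.hom_neg Q.X.w0 y] at this
      simp only [Fin.eta] at *
      omega
    have h6 : Q.sys.x (Q.X.good.hom g ⟨r, h3⟩).val t' = 1 := by
      have hop : Opp Q.amb Q.X.w0 := ⟨Q.Uw_w0, fun w hw => Twist.Model.eq_w0 fun s hs hp => by
        by_contra hh
        obtain ⟨u, eu⟩ := Q.sys.rep_conj w s hs 1
        exact Q.sys.x_one_ne hs hp (hw _ (Q.sys.x_mem_U hs hp 1) (by
          show Q.sys.rep w * Q.sys.x s 1 * (Q.sys.rep w)⁻¹ ∈ _
          rw [eu]; exact Q.sys.x_mem_U (Fin.isLt _) (by omega) u))⟩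
      exact U_inter_V Q.amb hop (e2 ▸ hin) hneg
    rw [h6] at e2
    exact Q.sys.x_one_ne h3 h4 (by
      calc Q.sys.x r 1 = m * (m⁻¹ * Q.sys.x r 1 * m) * m⁻¹ := by group
        _ = 1 := by rw [e2, mul_one, mul_inv_cancel])
  have hvU : v ∈ XS Q.sys.x (↑(Sys.keep Q.X.good b) : Set ℕ) :=
    XS_mono (fun r hr => Finset.mem_coe.2 (hkeep r (Finset.mem_coe.1 hr))) hv
  refine hv1 (congrArg Subtype.val (lift_iso Md ⟨v, hfix⟩) |>.symm.trans ?_ |> fun h =>
    Subtype.ext h)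
  rw [ha (Md.iso ⟨v, hfix⟩) ((mem_U Md).2 (by rw [lift_iso]; exact Q.sys.Uw_le _ hv)) ?_]
  · rfl
  · obtain ⟨k, hk, e⟩ := lift_n Md a
    rw [mem_U, lift_mul, lift_mul, lift_inv, e, lift_iso]
    have h9 := Q.amb.H_conj_U k hk _ (Q.sys.keep_conj b hvU)
    change k * (Q.amb.n b * v * (Q.amb.n b)⁻¹) * k⁻¹ ∈ Q.amb.U at h9
    convert h9 using 1
    simp only [b]
    group

theorem isPGroup_U : IsPGroup (ringChar K) Md.tw.U := by
  haveI := Fintype.ofFinite K
  haveI := ringChar.charP K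
  obtain ⟨m, hp, hcard⟩ := FiniteField.card K (ringChar K)
  have hdvd : Nat.card Md.tw.U ∣ ringChar K ^ ((m : ℕ) * (D.nroots / 2)) := by
    have h1 : Nat.card Md.tw.U ∣ Nat.card Q.amb.U :=
      Subgroup.card_dvd_of_injective
        (((liftHom Md).comp Md.tw.U.subtype).codRestrict Q.amb.U fun g => (mem_U Md).1 g.2)
        fun a b e => Subtype.ext (lift_injective Md (congrArg Subtype.val e))
    rwa [Q.card_U, Nat.card_eq_fintype_card (α := K), hcard, ← pow_mul] at h1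
  obtain ⟨i, -, hi⟩ := (Nat.dvd_prime_pow hp).1 hdvd
  exact IsPGroup.of_card hi

theorem index_U : ¬ ringChar K ∣ Md.tw.U.index := by
  haveI := Fintype.ofFinite K
  haveI := ringChar.charP K
  obtain ⟨m, hp, hcard⟩ := FiniteField.card K (ringChar K)
  haveI := Q.X.good.finite
  haveI : Finite W' := Finite.of_injective Φ.ι Φ.ι_inj
  haveI := Fintype.ofFinite W'
  have hq : Nat.card K = ringChar K ^ (m : ℕ) := by rw [Nat.card_eq_fintype_card, hcard]
  set p := ringChar K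
  have hsum : ¬ p ∣ ∑ w, Nat.card (Md.tw.Uw w) := by
    classical
    intro h
    rw [← Finset.add_sum_erase _ _ (Finset.mem_univ (1 : W'))] at h
    have hrest : p ∣ ∑ w ∈ (Finset.univ : Finset W').erase 1, Nat.card (Md.tw.Uw w) := by
      refine Finset.dvd_sum fun w hw => hp.dvd_of_dvd_pow (n := Md.e) ?_
      rw [Md.card_tw_Uw, hq, ← pow_mul]
      refine dvd_pow_self _ (Nat.mul_ne_zero m.ne_zero fun h0 => ?_)
      refine Finset.ne_of_mem_erase hw (Φ.ι_inj ?_)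
      rw [Q.X.good.eq_one_of_inv_eq_zero h0, map_one]
    have h1 := (Nat.dvd_add_left hrest).1 h
    rw [Md.tw.Uw_one, Subgroup.card_bot] at h1
    exact hp.ne_one (Nat.dvd_one.1 h1)
  have hH : ¬ p ∣ Nat.card Md.tw.H := by
    intro h
    have h0 : Nat.card Md.tw.H ∣ Nat.card Q.amb.H :=
      Subgroup.card_dvd_of_injective
        (((liftHom Md).comp Md.tw.H.subtype).codRestrict Q.amb.H fun g => (mem_H Md).1 g.2)
        fun a b e => Subtype.ext (lift_injective Md (congrArg Subtype.val e))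
    have hdvd : Nat.card Q.amb.H ∣ (Nat.card K - 1) ^ D.rank := by
      rw [Q.card_H, Q.K.diagonalSubgroup_eq K]
      refine dvd_trans (Subgroup.card_range_dvd _) ?_
      rw [Nat.card_fun, Nat.card_units, Nat.card_eq_fintype_card (α := Fin D.rank), Fintype.card_fin]
    have h1 := hp.dvd_of_dvd_pow ((h.trans h0).trans hdvd)
    have hp' : p ∣ Nat.card K := hq ▸ dvd_pow_self _ m.ne_zero
    have h2 : 1 ≤ Nat.card K := Nat.one_le_iff_ne_zero.2 Nat.card_pos.ne'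
    have := Nat.dvd_sub hp' h1
    rw [show Nat.card K - (Nat.card K - 1) = 1 by omega] at this
    exact hp.ne_one (Nat.dvd_one.1 this)
  have hidx : Md.tw.U.index = Nat.card Md.tw.H * ∑ w, Nat.card (Md.tw.Uw w) := by
    have h1 := Md.tw.U.card_mul_index
    rw [Md.tw.toNormalForm.card_eq, mul_assoc] at h1
    exact mul_left_cancel₀ Nat.card_pos.ne' h1
  rw [hidx, hp.dvd_mul, not_or]
  exact ⟨hH, hsum⟩

theorem exists_inner (θ : ↥Md.T ≃* ↥Md.T) : ∃ g,
    Fix (θ.trans (MulAut.conj g)) Md.tw.U ∧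
      Fix (θ.trans (MulAut.conj g)) (Vopp Md.tw Md.w0) := by
  haveI := Fintype.ofFinite K
  haveI := ringChar.charP K
  haveI : Fact (ringChar K).Prime := ⟨CharP.char_is_prime K _⟩
  exact exists_normalize _ (tw_opp Md) (isPGroup_U Md) (index_U Md) θ

end Cfsg.Agent.H56.TwAut
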