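import Cfsg.Agent.H56.TwAut.F4Roots
import Cfsg.Agent.H56.ChevAut.Counts

/-!
The automorphisms of `²F₄(q)`: every one is inner · field.
-/
set_option autoImplicit false
set_option maxRecDepth 100000

namespace Cfsg.Agent.H56.TwAut.F4

open Cfsg.Lie Cfsg.Agent.H37 Cfsg.Agent.H37.RootSys Cfsg.Agent.H37.Twist Cfsg.Agent.H56.ChevAut
open Cfsg.Agent.H37.Twist.F4

/-- An additive map fixing `1` which carries every multiplication to a multiplication is a field
automorphism. -/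
theorem exists_ringAut {F : Type*} [Field F] [Finite F] {a : F → F}
    (hadd : ∀ s t, a (s + t) = a s + a t) (h1 : a 1 = 1)
    (hsc : ∀ s : F, s ≠ 0 → ∃ r, ∀ t, a (s * t) = r * a t) :
    ∃ f : RingAut F, ∀ t, f t = a t := by
  have h0 : a 0 = 0 := map_zero (AddMonoidHom.mk' a hadd)
  have hmul : ∀ s t, a (s * t) = a s * a t := by
    intro s t
    by_cases hs : s = 0
    · subst hs; rw [zero_mul, h0, zero_mul]
    obtain ⟨r, hr⟩ := hsc s hs
    have e := hr 1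
    rw [mul_one, h1, mul_one] at e
    rw [hr, e]
  have hinj : Function.Injective a := by
    refine (injective_iff_map_eq_zero (AddMonoidHom.mk' a hadd)).2 fun t e => ?_
    by_contra ht
    have e2 := hmul t t⁻¹
    rw [mul_inv_cancel₀ ht, h1, show a t = 0 from e, zero_mul] at e2
    exact one_ne_zero e2
  exact ⟨RingEquiv.ofBijective (RingHom.mk' ⟨⟨a, h1⟩, hmul⟩ hadd)
    (Finite.injective_iff_bijective.1 hinj), fun _ => rfl⟩

variable {K : Type*} [Field K] [Fintype K] [CharP K 2] {φ : K →+* K} {m : ℕ}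

/-- The two characters. -/
def lamH (m : ℕ) (p : Kˣ × Kˣ) : Kˣ × Kˣ := (chi0 p, mu m p)

variable (hφ : ∀ t, φ t = t ^ 2 ^ m) (hK : Fintype.card K = 2 ^ (2 * m + 1))

omit [Fintype K] [CharP K 2] in
theorem chi0_mul (p q : Kˣ × Kˣ) : chi0 (p * q) = chi0 p * chi0 q := by
  simp only [chi0, Prod.fst_mul, Prod.snd_mul, mul_pow, mul_inv]
  exact mul_mul_mul_comm _ _ _ _

omit [Fintype K] [CharP K 2] in
theorem mu_mul (p q : Kˣ × Kˣ) : mu m (p * q) = mu m p * mu m q := by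
  simp only [mu, Prod.fst_mul, Prod.snd_mul, mul_pow, mul_inv]
  simp only [mul_assoc, mul_comm, mul_left_comm]

include hK in
omit [CharP K 2] in
theorem lamH_bij : Function.Bijective (lamH (K := K) m) := by
  refine Finite.injective_iff_bijective.1 fun p q h => ?_
  have h1 : chi0 (p * q⁻¹) = 1 ∧ mu m (p * q⁻¹) = 1 := by
    have ha := chi0_mul (p * q⁻¹) q
    have hb := mu_mul (m := m) (p * q⁻¹) q
    rw [inv_mul_cancel_right] at ha hb
    rw [show chi0 p = chi0 q from congrArg Prod.fst h] at ha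
    rw [show mu m p = mu m q from congrArg Prod.snd h] at hb
    exact ⟨mul_eq_right.1 ha.symm, mul_eq_right.1 hb.symm⟩
  obtain ⟨⟨a, b⟩, hab⟩ : ∃ r, p * q⁻¹ = r := ⟨_, rfl⟩
  rw [hab] at h1
  obtain ⟨h1, h2⟩ := h1
  have hb : b = a ^ 2 := (mul_inv_eq_one.1 h1).symm
  subst hb
  simp only [mu] at h2
  set x := a ^ 2 ^ m with hx
  rw [pow_right_comm a 2 (2 ^ m), ← hx, mul_right_comm, mul_inv_eq_one] at h2
  have h3 : a ^ 3 = x ^ 4 := by
    have : (a ^ 2) ^ 2 * a⁻¹ = a ^ 3 := by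
      rw [mul_inv_eq_iff_eq_mul, ← pow_succ, ← pow_mul]
    rw [← this, h2, ← pow_mul]
  have hxe : (x ^ 2 ^ m) ^ 2 = a := by
    rw [← pow_mul]; exact units_theta hK a
  have hx3 : x ^ 3 = a ^ 2 := by
    have := congrArg (· ^ 2 ^ m) h3
    change (a ^ 3) ^ 2 ^ m = (x ^ 4) ^ 2 ^ m at this
    rw [pow_right_comm a 3, ← hx, pow_right_comm x 4] at this
    rw [this, show (4 : ℕ) = 2 * 2 from rfl, pow_mul, hxe]
  have h5 : a ^ 9 = a ^ 8 := by
    rw [show (9 : ℕ) = 3 * 3 from rfl, pow_mul, h3, ← pow_mul,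
      show 4 * 3 = 3 * 4 from rfl, pow_mul, hx3, ← pow_mul]
  rw [pow_succ] at h5
  have ha : a = 1 := mul_eq_left.1 h5
  rw [← mul_inv_eq_one, hab, ha, one_pow]
  rfl

include hφ hK in
omit [CharP K 2] in
theorem exists_phi_ne (hm : 1 ≤ m) : ∃ t : K, φ t ≠ t := by
  classical
  by_contra hcon
  push Not at hcon
  have h : ∀ t : K, t ^ 2 = t := fun t => by
    have := hK ▸ (FiniteField.pow_card t)
    have e : (φ (φ t)) ^ 2 = t := by
      rw [hφ, hφ, ← pow_mul, ← pow_mul, show 2 ^ m * (2 ^ m * 2) = 2 ^ (2 * m + 1) by ring, this]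
    rwa [hcon, hcon] at e
  have hc : Fintype.card K ≤ 2 := by
    have hsub : (Finset.univ : Finset K) ⊆ {0, 1} := fun t _ => by
      have : t * (t - 1) = 0 := by linear_combination h t
      rcases mul_eq_zero.1 this with h' | h'
      · simp [h']
      · simp [sub_eq_zero.1 h']
    exact (Finset.card_le_card hsub).trans Finset.card_le_two
  rw [hK] at hc
  have : 2 ^ 2 ≤ 2 ^ (2 * m + 1) := Nat.pow_le_pow_right two_pos (by omega)
  omega

include hφ hK in
omit [CharP K 2] in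
theorem tphi_surj (c : K) : ∃ t, t * φ t = c := by
  have hinj : Function.Injective fun t : K => t * φ t := by
    have h1 : ∀ t : K, t * φ t = 1 → t = 1 := fun t ht => by
      have ht0 : t ≠ 0 := fun e => by rw [e, zero_mul] at ht; exact zero_ne_one ht
      have e1 : φ t = t⁻¹ := eq_inv_of_mul_eq_one_right ht
      have e2 : φ (φ t) = t := by rw [e1, map_inv₀, e1, inv_inv]
      have e3 : φ (φ t) ^ 2 = t := by
        rw [hφ, hφ, ← pow_mul, ← pow_mul, show 2 ^ m * (2 ^ m * 2) = 2 ^ (2 * m + 1) by ring, ← hK,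
          FiniteField.pow_card]
      rw [e2, sq] at e3
      exact (mul_eq_left₀ ht0).1 e3
    intro t u h
    simp only at h
    by_cases hu : u = 0
    · subst hu
      rw [zero_mul, mul_eq_zero, map_eq_zero, or_self] at h
      exact h
    have := h1 (t * u⁻¹) (by
      rw [map_mul, map_inv₀, mul_mul_mul_comm, h, mul_mul_mul_comm, mul_inv_cancel₀ hu,
        mul_inv_cancel₀ ((map_ne_zero φ).2 hu), one_mul])
    exact eq_of_mul_inv_eq_one this
  exact Finite.injective_iff_surjective.1 hinj c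

theorem hel_mul (p q : Kˣ × Kˣ) : hel hφ hK (p * q) = hel hφ hK p * hel hφ hK q :=
  lift_injective _ (by
    rw [lift_mul, lift_hel, lift_hel, lift_hel, ← map_mul, ← hc_mul]
    rfl)

theorem w0_comm' (i : Fin 2) :
    (fold φ).gens i * (Md hφ hK).w0 = (Md hφ hK).w0 * (fold φ).gens i :=
  (fold φ).ι_inj (by rw [map_mul, map_mul, Model.ι_w0]; exact w0_comm _)

variable {θ : MulAut (GT hφ hK)} (hU : Fix θ (Md hφ hK).tw.U)
  (hV : Fix θ (Vopp (Md hφ hK).tw (Md hφ hK).w0))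

include hU in
theorem pi_gens (i : Fin 2) :
    piFun (Md hφ hK).tw θ ((fold φ).gens i) = (fold φ).gens i := by
  haveI : Finite (GT hφ hK) := Subtype.finite
  set A := (Md hφ hK).tw
  obtain ⟨j, hj⟩ : ∃ j : Fin 2, (fold φ).gens j = piFun A θ ((fold φ).gens i) :=
    pi_mem_S A (fix_B A hU) ⟨i, rfl⟩
  have hc : Nat.card (A.Uw ((fold φ).gens j)) = Nat.card (A.Uw ((fold φ).gens i)) :=
    hj ▸ Flip.card_Uw_pi (A := A) hU ((fold φ).gens i)
  have e : Nat.card K ^ (if i = 0 then 2 else 4) = Nat.card K ^ (if j = 0 then 2 else 4) := by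
    rw [← card_Uw hφ hK i, ← card_Uw hφ hK j, hc]
  have e2 := Nat.pow_right_injective (Finite.one_lt_card (α := K)) e
  have key : ∀ i j : Fin 2, (if i = 0 then 2 else 4) = (if j = 0 then 2 else 4) → j = i := by decide
  rw [← hj, key i j e2]

include hU hV in
theorem fix_gens (i : Fin 2) {x : GT hφ hK}
    (hx : x ∈ (Md hφ hK).tw.Uw ((fold φ).gens i)) :
    θ x ∈ (Md hφ hK).tw.Uw ((fold φ).gens i) := by
  haveI : Finite (GT hφ hK) := Subtype.finite
  exact (flip_tw hφ hK).fix_Uw (s := (fold φ).gens i) ⟨i, rfl⟩ (w0_comm' hφ hK i) hU hV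
    (pi_gens hφ hK hU i) hx

include hU hV in
/-- The images of the two root groups. -/
theorem exists_params : ∀ t : K, (∃ a, θ (x0 hφ hK t) = x0 hφ hK a) ∧
    ∀ c, ∃ a d, θ (x1 hφ hK t c) = x1 hφ hK a d := fun t =>
  ⟨exists_x0 hφ hK (fix_gens hφ hK hU hV 0 (x0_mem hφ hK t)), fun c =>
    exists_x1 hφ hK (fix_gens hφ hK hU hV 1 (x1_mem hφ hK t c))⟩

include hU hV in
theorem top_first {c a d : K} (h : θ (x1 hφ hK 0 c) = x1 hφ hK a d) : a = 0 := by
  obtain ⟨s, hs⟩ := tphi_surj hφ hK c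
  have e : x1 hφ hK s 0 * x1 hφ hK s 0 = x1 hφ hK 0 c := by
    rw [x1_mul]
    congr 1
    · linear_combination s * two_eq (K := K)
    · linear_combination hs
  obtain ⟨a', d', e'⟩ := (exists_params hφ hK hU hV s).2 0
  rw [← e, map_mul, e', x1_mul] at h
  rw [← (x1_inj hφ hK h).1]
  linear_combination a' * two_eq (K := K)

include hU hV in
/-- The first layer depends only on the first coordinate. -/
theorem first_eq {t c a d a' d' : K} (h : θ (x1 hφ hK t c) = x1 hφ hK a d)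
    (h' : θ (x1 hφ hK t 0) = x1 hφ hK a' d') : a = a' := by
  obtain ⟨z, w, e⟩ := (exists_params hφ hK hU hV 0).2 c
  have hz := top_first hφ hK hU hV e
  have e2 : x1 hφ hK t c = x1 hφ hK t 0 * x1 hφ hK 0 c := by
    rw [x1_mul]; simp
  rw [e2, map_mul, h', e, hz, x1_mul] at h
  rw [← (x1_inj hφ hK h).1, add_zero]

/-- `θ` is normalised at the two root groups. -/
structure Param (θ : MulAut (GT hφ hK)) (a0 a1 : K → K) : Prop where
  h0 : ∀ t, θ (x0 hφ hK t) = x0 hφ hK (a0 t)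
  h1 : ∀ t, ∃ d, θ (x1 hφ hK t 0) = x1 hφ hK (a1 t) d

include hU hV in
theorem exists_Param : ∃ a0 a1, Param hφ hK θ a0 a1 := by
  choose a0 h0 using fun t => (exists_params hφ hK hU hV t).1
  choose a1 d1 h1 using fun t => (exists_params hφ hK hU hV t).2 0
  exact ⟨a0, a1, h0, fun t => ⟨_, h1 t⟩⟩

variable {a0 a1 : K → K} (P : Param hφ hK θ a0 a1)

include P in
theorem a0_add (s t : K) : a0 (s + t) = a0 s + a0 t :=
  x0_inj hφ hK (by rw [← P.h0, ← x0_add, map_mul, P.h0, P.h0, x0_add])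

include hU hV P in
theorem a1_add (s t : K) : a1 (s + t) = a1 s + a1 t := by
  obtain ⟨d, hd⟩ := P.h1 s
  obtain ⟨d', hd'⟩ := P.h1 t
  obtain ⟨d'', hd''⟩ := P.h1 (s + t)
  have e := congrArg θ (x1_mul hφ hK s 0 t 0)
  rw [map_mul, hd, hd', x1_mul] at e
  exact (first_eq hφ hK hU hV e.symm hd'').symm

include P in
theorem a0_ne : a0 1 ≠ 0 := fun e => one_ne_zero (x0_inj hφ hK (θ.injective (by
  rw [P.h0, e, x0_zero, map_one])))

include hU hV P in
theorem a1_ne : a1 1 ≠ 0 := by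
  intro e
  obtain ⟨d, hd⟩ := P.h1 1
  rw [e] at hd
  obtain ⟨s, hs⟩ := tphi_surj hφ hK d
  obtain ⟨w, hw⟩ := P.h1 0
  have e1 := congrArg θ (x1_mul hφ hK 1 0 1 0)
  rw [map_mul, hd, x1_mul] at e1
  have h2 : ((0 : K) + 0) = 0 ∧ d + d + 0 * φ 0 = 0 :=
    ⟨add_zero _, by rw [zero_mul]; linear_combination d * two_eq (K := K)⟩
  rw [h2.1, h2.2, x1_zero, ← map_one θ] at e1
  have e3 := (x1_inj hφ hK ((x1_zero hφ hK).trans (θ.injective e1))).2
  simp at e3

include hU hV P in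
/-- How the torus moves. -/
theorem torus_params (p : Kˣ × Kˣ) : ∃ p', θ (hel hφ hK p) = hel hφ hK p' ∧
    (∀ t, a0 ((chi0 p : K) * t) = (chi0 p' : K) * a0 t) ∧
    ∀ t, a1 ((mu m p : K) * t) = (mu m p' : K) * a1 t := by
  obtain ⟨p', hp'⟩ :=
    exists_hel hφ hK ((flip_tw hφ hK).fix_H hU hV (hel_mem hφ hK p))
  refine ⟨p', hp', fun t => x0_inj hφ hK ?_, fun t => ?_⟩
  · rw [← P.h0, ← (hel_x0 hφ hK p t).1, map_mul, map_mul, map_inv, hp', P.h0,
      (hel_x0 hφ hK p' _).1]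
  · obtain ⟨d, hd⟩ := P.h1 t
    obtain ⟨d', hd'⟩ := P.h1 ((mu m p : K) * t)
    have e := congrArg θ (hel_x1 hφ hK p t 0)
    rw [map_mul, map_mul, map_inv, hp', hd, hel_x1, mul_zero] at e
    exact (first_eq hφ hK hU hV e.symm hd').symm

include hU hV P in
theorem exists_fields (h01 : a0 1 = 1) (h11 : a1 1 = 1) :
    ∃ f0 f1 : RingAut K, (∀ t, f0 t = a0 t) ∧ (∀ t, f1 t = a1 t) ∧
      ∀ p, ∃ p', θ (hel hφ hK p) = hel hφ hK p' ∧
        (chi0 p' : K) = f0 (chi0 p : K) ∧ (mu m p' : K) = f1 (mu m p : K) := by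
  obtain ⟨f0, hf0⟩ := exists_ringAut (a0_add hφ hK P) h01 fun s hs => by
    obtain ⟨p, hp⟩ := (lamH_bij hK).2 (Units.mk0 s hs, 1)
    obtain ⟨p', -, h, -⟩ := torus_params hφ hK hU hV P p
    rw [show chi0 p = Units.mk0 s hs from congrArg Prod.fst hp, Units.val_mk0] at h
    exact ⟨_, h⟩
  obtain ⟨f1, hf1⟩ := exists_ringAut (a1_add hφ hK hU hV P) h11 fun s hs => by
    obtain ⟨p, hp⟩ := (lamH_bij hK).2 (1, Units.mk0 s hs)
    obtain ⟨p', -, -, h⟩ := torus_params hφ hK hU hV P p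
    rw [show mu m p = Units.mk0 s hs from congrArg Prod.snd hp, Units.val_mk0] at h
    exact ⟨_, h⟩
  refine ⟨f0, f1, hf0, hf1, fun p => ?_⟩
  obtain ⟨p', h, h0, h1⟩ := torus_params hφ hK hU hV P p
  have e0 := h0 1
  have e1 := h1 1
  rw [mul_one, h01, mul_one] at e0
  rw [mul_one, h11, mul_one] at e1
  exact ⟨p', h, by rw [hf0, e0], by rw [hf1, e1]⟩

theorem normal_H {n h : GT hφ hK} {w : DihedralGroup 8} (hh : h ∈ (Md hφ hK).tw.H)
    (hn : n = h * (Md hφ hK).tw.n w) {k : GT hφ hK} (hk : k ∈ (Md hφ hK).tw.H) :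
    n * k * n⁻¹ ∈ (Md hφ hK).tw.H := by
  rw [hn, show h * (Md hφ hK).tw.n w * k * (h * (Md hφ hK).tw.n w)⁻¹
    = h * ((Md hφ hK).tw.n w * k * ((Md hφ hK).tw.n w)⁻¹) * h⁻¹ by group]
  exact mul_mem (mul_mem hh ((Md hφ hK).tw.n_conj_H w k hk)) (inv_mem hh)

include hU hV in
theorem image_normal_H {n : GT hφ hK}
    (hn : ∀ k ∈ (Md hφ hK).tw.H, n * k * n⁻¹ ∈ (Md hφ hK).tw.H) {k : GT hφ hK}
    (hk : k ∈ (Md hφ hK).tw.H) : θ n * k * (θ n)⁻¹ ∈ (Md hφ hK).tw.H := by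
  have hk' := (flip_tw hφ hK).fix_H (θ := θ.symm) hU.symm hV.symm hk
  have := (flip_tw hφ hK).fix_H hU hV (hn _ hk')
  rwa [map_mul, map_mul, map_inv, MulEquiv.apply_symm_apply] at this

include hU hV in
/-- The first representative is fixed. -/
theorem fix_nP (hm : 1 ≤ m) (h01 : θ (x0 hφ hK 1) = x0 hφ hK 1) :
    θ (nP hφ hK) = nP hφ hK := by
  set A := (Md hφ hK).tw
  set s := (fold φ).gens (0 : Fin 2)
  have hs : s ∈ A.S := ⟨(0 : Fin 2), rfl⟩
  haveI : Finite (GT hφ hK) := Subtype.finite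
  obtain ⟨h1, hh1, e1⟩ : ∃ h ∈ A.H, nP hφ hK = h * A.n s := by
    have e : nP hφ hK = Nd hφ hK 1 := by rw [nP, Nd, inv_one]
    rw [e]; exact Nd_mem hφ hK one_ne_zero
  have hy : ∀ x ∈ A.Uw s, ∃ t, A.n s * x * (A.n s)⁻¹ = y0 hφ hK t := by
    intro x hx
    obtain ⟨t, rfl⟩ := exists_x0 hφ hK hx
    obtain ⟨p, hp⟩ := exists_hel hφ hK (inv_mem hh1)
    refine ⟨((chi0 p)⁻¹ : Kˣ) * t, ?_⟩
    rw [← (hel_x0 hφ hK p t).2, ← hp, ← nP_conj_x0 hφ hK t, e1]
    group
  -- the image of `y(1)`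
  obtain ⟨b, hb⟩ : ∃ b, θ (y0 hφ hK 1) = y0 hφ hK b := by
    have hg : y0 hφ hK 1 ∈ Vopp A (Md hφ hK).w0 ∧
        (y0 hφ hK 1 ∈ A.B ∨ y0 hφ hK 1 ∈ Cell A s) := by
      have hp := ((flip_tw hφ hK).V_inter_min hs).2 ⟨_, x0_mem hφ hK 1, rfl⟩
      rw [← nP_conj_x0 hφ hK 1, e1, show h1 * A.n s * x0 hφ hK 1 * (h1 * A.n s)⁻¹
        = h1 * (A.n s * x0 hφ hK 1 * (A.n s)⁻¹) * h1⁻¹ by group]
      refine ⟨H_conj_Vopp hh1 hp.1, ?_⟩
      rcases hp.2 with h | h
      · exact Or.inl (mul_mem (mul_mem (A.H_le_B hh1) h) (inv_mem (A.H_le_B hh1)))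
      · exact Or.inr (mul_mem_Cell A (A.H_le_B hh1) h (inv_mem (A.H_le_B hh1)))
    have hB := fix_B A hU
    have hπ : piFun A θ s = s := pi_gens hφ hK hU 0
    obtain ⟨x, hx, e⟩ := ((flip_tw hφ hK).V_inter_min hs (g := θ (y0 hφ hK 1))).1
      ⟨(hV _).2 hg.1, hg.2.imp (hB _).2 fun h => hπ ▸ pi_cell A hB h⟩
    obtain ⟨t, ht⟩ := hy x hx
    exact ⟨t, e.trans ht⟩
  have hb0 : b ≠ 0 := fun e => by
    have e0 : y0 hφ hK 0 = 1 := lift_injective _ (by
      show xe 14 (φ 0) * xe 23 0 = 1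
      rw [map_zero, xe_zero (by decide), xe_zero (by decide), one_mul])
    rw [e, e0, ← map_one θ] at hb
    exact one_ne_zero (y0_inj hφ hK ((θ.injective hb).trans e0.symm))
  set d := b⁻¹ with hd
  obtain ⟨h2, hh2, e2⟩ := Nd_mem hφ hK (d := d) (inv_ne_zero hb0)
  have ey : θ (nP hφ hK) = x0 hφ hK (1 + d) * (h2 * A.n s) * x0 hφ hK (1 + d) := by
    have hdd : x0 hφ hK d * x0 hφ hK d = 1 := by
      rw [x0_add, show d + d = 0 by linear_combination d * two_eq (K := K), x0_zero]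
    rw [← e2, nP, map_mul, map_mul, h01, hb, Nd, hd, inv_inv, ← hd]
    calc x0 hφ hK 1 * y0 hφ hK b * x0 hφ hK 1
        = x0 hφ hK 1 * (x0 hφ hK d * x0 hφ hK d) * y0 hφ hK b *
            (x0 hφ hK d * x0 hφ hK d) * x0 hφ hK 1 := by rw [hdd, mul_one, mul_one]
      _ = x0 hφ hK 1 * x0 hφ hK d * (x0 hφ hK d * y0 hφ hK b * x0 hφ hK d) *
            (x0 hφ hK d * x0 hφ hK 1) := by group
      _ = _ := by rw [x0_add, x0_add, add_comm d 1]
  have hfix : ∀ k ∈ A.H, k * x0 hφ hK (1 + d) * k⁻¹ = x0 hφ hK (1 + d) := fun k hk =>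
    (flip_tw hφ hK).nf_fixed (u := x0 hφ hK (1 + d)) (h := h2) (w := s)
      (A.Uw_le _ (x0_mem hφ hK _)) hh2 (x0_mem hφ hK _) (fun k' hk' => by
        have := image_normal_H hφ hK hU hV (fun k hk => normal_H hφ hK hh1 e1 hk) hk'
        rwa [ey, ← mul_assoc (x0 hφ hK (1 + d)) h2] at this) hk
  obtain ⟨t, ht⟩ := exists_phi_ne hφ hK hm
  have ht0 : t ≠ 0 := fun e => ht (by rw [e, map_zero])
  have ht1 : t ≠ 1 := fun e => ht (by rw [e, map_one])
  obtain ⟨p, hp⟩ := (lamH_bij hK).2 (Units.mk0 t ht0, 1)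
  have h5 := x0_inj hφ hK ((hel_x0 hφ hK p (1 + d)).1.symm.trans (hfix _ (hel_mem hφ hK p)))
  rw [show chi0 p = Units.mk0 t ht0 from congrArg Prod.fst hp, Units.val_mk0] at h5
  have h6 : (t - 1) * (1 + d) = 0 := by linear_combination h5
  have hd1 : d = 1 := by
    have := (mul_eq_zero.1 h6).resolve_left (sub_ne_zero.2 ht1)
    linear_combination this - two_eq (K := K)
  have hb1 : b = 1 := inv_eq_one.1 (hd ▸ hd1)
  rw [nP, map_mul, map_mul, h01, hb, hb1]

include hU hV P in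
theorem fields_eq (hm : 1 ≤ m) (h01 : a0 1 = 1) (h11 : a1 1 = 1) :
    ∃ f : RingAut K, (∀ t, f t = a0 t) ∧ (∀ t, f t = a1 t) := by
  obtain ⟨f0, f1, hf0, hf1, hH⟩ := exists_fields hφ hK hU hV P h01 h11
  have hn := fix_nP hφ hK hU hV hm (by rw [P.h0, h01])
  refine ⟨f0, hf0, fun t => ?_⟩
  rw [← hf1]
  by_cases ht : t = 0
  · subst ht; rw [map_zero, map_zero]
  obtain ⟨⟨a, b⟩, hp⟩ := (lamH_bij hK).2 (Units.mk0 t ht, 1)
  obtain ⟨⟨a', b'⟩, hp', h0, h1⟩ := hH (a, b)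
  obtain ⟨q, hq, -, h1'⟩ := hH (b * a⁻¹, b)
  have e := congrArg θ (nP_conj_hel hφ hK a b)
  rw [map_mul, map_mul, map_inv, hn, hp', hq, nP_conj_hel] at e
  have hq' : lamH (K := K) m q = lamH m (b' * a'⁻¹, b') := by
    obtain ⟨p, -, rfl⟩ : ∃ p, hel hφ hK q = hel hφ hK p ∧ p = (b' * a'⁻¹, b') := ⟨_, e.symm, rfl⟩
    have e1 := congrArg (lift (Md hφ hK)) e
    rw [lift_hel, lift_hel] at e1
    have e2 := tG_injective e1
    rw [show q = (b' * a'⁻¹, b') from
      (Prod.ext (congrFun e2 (3 : Fin 4)) (congrFun e2 (2 : Fin 4))).symm]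
  have key : ∀ a b : Kˣ, mu m (b * a⁻¹, b) = chi0 (a, b) * mu m (a, b) := fun a b => by
    simp only [mu, chi0]
    rw [sq a]
    simp only [mul_inv, inv_inv, mul_assoc, mul_comm, mul_left_comm, mul_inv_cancel_left]
  rw [show mu m q = mu m (b' * a'⁻¹, b') from congrArg Prod.snd hq', key,
    key, Units.val_mul, Units.val_mul, h0, h1, map_mul] at h1'
  have hchi : chi0 (a, b) = Units.mk0 t ht := congrArg Prod.fst hp
  have hmu : mu m (a, b) = 1 := congrArg Prod.snd hp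
  rw [hchi, hmu, Units.val_mk0, Units.val_one, map_one, mul_one, mul_one] at h1'
  exact h1'

include hU hV P in
/-- A normalised automorphism with trivial field parts is trivial. -/
theorem eq_one (hm : 1 ≤ m) (h0 : ∀ t, a0 t = t) (h1 : ∀ t, a1 t = t) : θ = 1 := by
  set A := (Md hφ hK).tw
  have hx0 : ∀ t, θ (x0 hφ hK t) = x0 hφ hK t := fun t => by rw [P.h0, h0]
  have hn := fix_nP hφ hK hU hV hm (hx0 1)
  have hy0 : ∀ t, θ (y0 hφ hK t) = y0 hφ hK t := fun t => by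
    rw [← nP_conj_x0 hφ hK t, map_mul, map_mul, map_inv, hn, hx0]
  have hH : ∀ p, θ (hel hφ hK p) = hel hφ hK p := fun p => by
    obtain ⟨p', e, e0, e1⟩ := torus_params hφ hK hU hV P p
    rw [e]
    congr 1
    refine (lamH_bij hK).1 (Prod.ext (Units.ext ?_) (Units.ext ?_))
    · have := e0 1; rw [mul_one, h0, h0, mul_one] at this; exact this.symm
    · have := e1 1; rw [mul_one, h1, h1, mul_one] at this; exact this.symm
  -- the second layer
  have htop : ∀ c, θ (x1 hφ hK 0 c) = x1 hφ hK 0 c := by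
    intro c
    obtain ⟨s, hs⟩ := tphi_surj hφ hK c
    have e : x1 hφ hK s 0 * x1 hφ hK s 0 = x1 hφ hK 0 c := by
      rw [x1_mul]
      congr 1
      · linear_combination s * two_eq (K := K)
      · linear_combination hs
    obtain ⟨d, hd⟩ := P.h1 s
    rw [h1] at hd
    rw [← e, map_mul, hd, x1_mul, x1_mul]
    congr 1
    linear_combination d * two_eq (K := K)
  choose d hd using P.h1
  simp only [h1] at hd
  have hall : ∀ t c, θ (x1 hφ hK t c) = x1 hφ hK t (d t + c) := fun t c => by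
    have e2 : x1 hφ hK t c = x1 hφ hK t 0 * x1 hφ hK 0 c := by rw [x1_mul]; simp
    rw [e2, map_mul, hd, htop, x1_mul]
    simp
  have hdadd : ∀ s t, d (s + t) = d s + d t := fun s t => by
    have e := congrArg θ (x1_mul hφ hK s 0 t 0)
    rw [map_mul, hd, hd, x1_mul, hall] at e
    have := (x1_inj hφ hK e).2
    linear_combination -this
  have hdsc : ∀ t, d t = t * φ t * d 1 := by
    intro t
    by_cases ht : t = 0
    · subst ht
      rw [zero_mul, zero_mul]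
      exact map_zero (AddMonoidHom.mk' d hdadd)
    obtain ⟨p, hp⟩ := (lamH_bij hK).2 (1, Units.mk0 t ht)
    have hmu : (mu m p : K) = t := congrArg Units.val (congrArg Prod.snd hp)
    have e := congrArg θ (hel_x1 hφ hK p 1 0)
    rw [map_mul, map_mul, map_inv, hH, hd, hel_x1, hall, hmu, mul_one, mul_zero, add_zero] at e
    exact (x1_inj hφ hK e).2.symm
  have hd1 : d 1 = 0 := by
    obtain ⟨t, ht⟩ := exists_phi_ne hφ hK hm
    have e := hdadd 1 t
    rw [hdsc (1 + t), hdsc t, map_add, map_one] at e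
    have e2 : (t + φ t) * d 1 = 0 := by linear_combination e
    refine (mul_eq_zero.1 e2).resolve_left fun h => ht ?_
    linear_combination h - t * two_eq (K := K)
  have hx1 : ∀ t c, θ (x1 hφ hK t c) = x1 hφ hK t c := fun t c => by
    rw [hall, hdsc, hd1, mul_zero, zero_add]
  -- the negative class
  set n0 := A.n (Md hφ hK).w0 with hn0
  set k := n0⁻¹ * θ n0 with hk0
  have hkH : k ∈ A.H := (flip_tw hφ hK).fix_n0 hU hV
  have hy1 : ∀ t c, θ (y1 hφ hK t c) = k⁻¹ * y1 hφ hK t c * k := by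
    intro t c
    obtain ⟨t', c', e⟩ := exists_x1 hφ hK (w0_conj_y1 hφ hK t c)
    rw [← hn0] at e
    have ey : y1 hφ hK t c = n0⁻¹ * x1 hφ hK t' c' * n0 := by rw [← e]; group
    rw [ey, map_mul, map_mul, map_inv, hx1, show θ n0 = n0 * k by rw [hk0, mul_inv_cancel_left]]
    group
  obtain ⟨j, hj⟩ := exists_hel hφ hK (inv_mem hkH)
  have hy1' : ∀ t c, θ (y1 hφ hK t c) = hel hφ hK j * y1 hφ hK t c * (hel hφ hK j)⁻¹ :=
    fun t c => by rw [hy1, ← hj, inv_inv]
  obtain ⟨hn, hhn, en⟩ := n1_mem hφ hK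
  set s1 := (fold φ).gens (1 : Fin 2)
  set J := hel hφ hK j
  set X := x1 hφ hK 1 0 with hX
  set X' := x1 hφ hK 1 1 with hX'
  have hXX : X * X' = 1 := by
    rw [hX, hX', x1_mul, ← x1_zero hφ hK, map_one]
    congr 1 <;> linear_combination two_eq (K := K)
  have hX'X : X' * X = 1 := by
    exact mul_eq_one_comm.1 hXX
  have ev : y1 hφ hK 0 1 = X' * n1 hφ hK * X := by
    rw [n1, ← hX, ← hX', show X' * (X * y1 hφ hK 0 1 * X') * X
      = (X' * X) * y1 hφ hK 0 1 * (X' * X) by group, hX'X, one_mul, mul_one]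
  set hn' := J * hn * (A.n s1 * J⁻¹ * (A.n s1)⁻¹)
  have hJ : J ∈ A.H := hel_mem hφ hK j
  have eimg : θ (n1 hφ hK) = X * (J * X' * J⁻¹) * hn' * A.n s1 * (J * X * J⁻¹ * X') := by
    conv_lhs => rw [n1, ← hX, ← hX', map_mul, map_mul, hX, hX', hx1, hx1, ← hX, ← hX', hy1', ev, en]
    simp only [hn', A]
    group
  have hvmem : J * X * J⁻¹ * X' ∈ A.Uw s1 :=
    mul_mem ((flip_tw hφ hK).H_conj_Uw _ hJ (x1_mem hφ hK 1 0)) (x1_mem hφ hK 1 1)
  have hfix : ∀ q ∈ A.H, q * (J * X * J⁻¹ * X') * q⁻¹ = J * X * J⁻¹ * X' := fun q hq =>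
    (flip_tw hφ hK).nf_fixed (u := X * (J * X' * J⁻¹)) (h := hn') (w := s1)
      (mul_mem (A.Uw_le _ (x1_mem hφ hK 1 0))
        (A.H_conj_U _ hJ _ (A.Uw_le _ (x1_mem hφ hK 1 1))))
      (mul_mem (mul_mem hJ hhn) (A.n_conj_H _ _ (inv_mem hJ))) hvmem (fun q' hq' => by
        have := image_normal_H hφ hK hU hV (fun k hk => normal_H hφ hK hhn en hk) hq'
        rwa [eimg] at this) hq
  have hJ1 : mu m j = 1 := by
    obtain ⟨t, ht⟩ := exists_phi_ne hφ hK hm
    have ht0 : t ≠ 0 := fun e => ht (by rw [e, map_zero])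
    have ht1 : t ≠ 1 := fun e => ht (by rw [e, map_one])
    obtain ⟨q, hq⟩ := (lamH_bij hK).2 (1, Units.mk0 t ht0)
    have e := hfix _ (hel_mem hφ hK q)
    rw [hX, hX', hel_x1, x1_mul, hel_x1] at e
    have e1 := (x1_inj hφ hK e).1
    rw [show mu m q = Units.mk0 t ht0 from congrArg Prod.snd hq, Units.val_mk0, mul_one] at e1
    have e2 : (t - 1) * ((mu m j : K) + 1) = 0 := by linear_combination e1
    refine Units.ext ?_
    rw [Units.val_one]
    linear_combination (mul_eq_zero.1 e2).resolve_left (sub_ne_zero.2 ht1) - two_eq (K := K)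
  have hy1'' : ∀ t c, θ (y1 hφ hK t c) = y1 hφ hK t c := fun t c => by
    rw [hy1', hel_y1 hφ hK j hJ1]
  refine MulEquiv.ext fun g => ?_
  have htop := gen hφ hK (MonoidHom.eqLocus θ.toMonoidHom (MonoidHom.id _)) hx0 hy0 hx1 hy1''
  exact (htop ▸ Subgroup.mem_top g : g ∈ MonoidHom.eqLocus θ.toMonoidHom (MonoidHom.id _))

omit θ hU hV P in
theorem field_gens (f : RingAut K) : ∀ t c : K,
    (su K).fieldOf f (lift (Md hφ hK) (x0 hφ hK t)) = lift (Md hφ hK) (x0 hφ hK (f t)) ∧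
    (su K).fieldOf f (lift (Md hφ hK) (y0 hφ hK t)) = lift (Md hφ hK) (y0 hφ hK (f t)) ∧
    (su K).fieldOf f (lift (Md hφ hK) (x1 hφ hK t c)) = lift (Md hφ hK) (x1 hφ hK (f t) (f c)) ∧
    (su K).fieldOf f (lift (Md hφ hK) (y1 hφ hK t c)) = lift (Md hφ hK) (y1 hφ hK (f t) (f c)) := by
  intro t c
  have e : ∀ r, r < chevF4.nroots → ∀ u : K, (su K).fieldOf f (xe r u) = xe r (f u) :=
    fun r hr u => (su K).fieldOf_xG f hr u
  have hφf : ∀ u, φ (f u) = f (φ u) := fun u => by rw [hφ, hφ, map_pow]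
  refine ⟨?_, ?_, ?_, ?_⟩
  · show (su K).fieldOf f (xe 33 (φ t) * xe 24 t) = xe 33 (φ (f t)) * xe 24 (f t)
    rw [map_mul, e _ (by decide), e _ (by decide), hφf]
  · show (su K).fieldOf f (xe 14 (φ t) * xe 23 t) = xe 14 (φ (f t)) * xe 23 (f t)
    rw [map_mul, e _ (by decide), e _ (by decide), hφf]
  · rw [lift_x1, lift_x1]
    simp only [pr, four, pc, map_mul ((su K).fieldOf f)]
    rw [e _ (by decide), e _ (by decide), e _ (by decide), e _ (by decide)]
    simp only [hφf, map_add, map_mul, map_pow]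
  · rw [lift_y1, lift_y1]
    simp only [pr, four, nc, map_mul ((su K).fieldOf f)]
    rw [e _ (by decide), e _ (by decide), e _ (by decide), e _ (by decide)]
    simp only [hφf, map_add, map_mul, map_pow]

omit θ hU hV P in
theorem field_le (f : RingAut K) :
    (Md hφ hK).TG.map ((su K).fieldOf f).toMonoidHom = (Md hφ hK).TG := by
  refine Subgroup.eq_of_le_of_card_ge ?_
    (Nat.card_congr (Subgroup.equivMapOfInjective _ _ ((su K).fieldOf f).injective).toEquiv).le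
  rw [Subgroup.map_le_iff_le_comap]
  have h := gen hφ hK (((Md hφ hK).TG.comap ((su K).fieldOf f).toMonoidHom).comap
    (liftHom (Md hφ hK)))
    (fun t => by
      show (su K).fieldOf f (lift (Md hφ hK) (x0 hφ hK t)) ∈ (Md hφ hK).TG
      rw [(field_gens hφ hK f t 0).1]; exact (x0 hφ hK (f t)).2)
    (fun t => by
      show (su K).fieldOf f (lift (Md hφ hK) (y0 hφ hK t)) ∈ (Md hφ hK).TG
      rw [(field_gens hφ hK f t 0).2.1]; exact (y0 hφ hK (f t)).2)
    (fun t c => by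
      show (su K).fieldOf f (lift (Md hφ hK) (x1 hφ hK t c)) ∈ (Md hφ hK).TG
      rw [(field_gens hφ hK f t c).2.2.1]; exact (x1 hφ hK (f t) (f c)).2)
    (fun t c => by
      show (su K).fieldOf f (lift (Md hφ hK) (y1 hφ hK t c)) ∈ (Md hφ hK).TG
      rw [(field_gens hφ hK f t c).2.2.2]; exact (y1 hφ hK (f t) (f c)).2)
  intro g hg
  exact (h ▸ Subgroup.mem_top (⟨g.1, hg⟩ : GT hφ hK) :
    (⟨g.1, hg⟩ : GT hφ hK) ∈ ((Md hφ hK).TG.comap ((su K).fieldOf f).toMonoidHom).comap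
      (liftHom (Md hφ hK)))

/-- The field automorphisms of `²F₄(q)`. -/
noncomputable def field (f : RingAut K) : MulAut (GT hφ hK) :=
  (Subgroup.subgroupOfEquivOfLe (Md hφ hK).le_group).symm.trans
    (((((su K).fieldOf f).subgroupMap (Md hφ hK).TG).trans
      (MulEquiv.subgroupCongr (field_le hφ hK f))).trans
        (Subgroup.subgroupOfEquivOfLe (Md hφ hK).le_group))

omit θ hU hV P in
theorem lift_field (f : RingAut K) (g : GT hφ hK) :
    lift (Md hφ hK) (field hφ hK f g) = (su K).fieldOf f (lift (Md hφ hK) g) := rfl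

omit θ hU hV P in
theorem field_std (f : RingAut K) : Fix (field hφ hK f) (Md hφ hK).tw.U ∧
    Fix (field hφ hK f) (Vopp (Md hφ hK).tw (Md hφ hK).w0) := by
  refine ⟨fun g => ?_, fun g => ?_⟩
  · rw [mem_U, mem_U, lift_field]
    exact ((su K).field_std f).1 _
  · rw [mem_Vopp', mem_Vopp', lift_field]
    exact ((su K).field_std f).2 _

omit θ hU hV P in
theorem field_x (f : RingAut K) (t c : K) :
    field hφ hK f (x0 hφ hK t) = x0 hφ hK (f t) ∧
      field hφ hK f (x1 hφ hK t c) = x1 hφ hK (f t) (f c) :=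
  ⟨lift_injective _ (field_gens hφ hK f t c).1, lift_injective _ (field_gens hφ hK f t c).2.2.1⟩

omit θ hU hV P in
include hφ hK in
/-- `|Out ²F₄(q)| = |Aut K|`. -/
theorem card_out (hm : 1 ≤ m) :
    Nat.card (Cfsg.Out ↥(twistedF4 K (2 ^ m))) = Nat.card (RingAut K) := by
  haveI : Finite (GT hφ hK) := Subtype.finite
  refine (flip_tw hφ hK).card_out_of_std (exists_inner (Md hφ hK)) (field hφ hK)
    (field_std hφ hK) (fun θ hU hV => ?_) fun f f' h hh e => ?_
  · obtain ⟨a0, a1, P⟩ := exists_Param hφ hK hU hV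
    obtain ⟨p, hp⟩ := (lamH_bij hK).2 ((Units.mk0 _ (a0_ne hφ hK P))⁻¹,
      (Units.mk0 _ (a1_ne hφ hK hU hV P))⁻¹)
    obtain ⟨hp0, hp1⟩ := fix_conj_H (w₀ := (Md hφ hK).w0) (hel_mem hφ hK p)
    set η : MulAut (GT hφ hK) := θ.trans (MulAut.conj (hel hφ hK p)) with hη
    have hηU : Fix η (Md hφ hK).tw.U := hU.trans hp0
    have hηV : Fix η (Vopp (Md hφ hK).tw (Md hφ hK).w0) := hV.trans hp1
    have Q : Param hφ hK η (fun t => (chi0 p : K) * a0 t) fun t => (mu m p : K) * a1 t := by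
      refine ⟨fun t => ?_, fun t => ?_⟩
      · rw [hη, MulEquiv.trans_apply, MulAut.conj_apply, P.h0, (hel_x0 hφ hK p _).1]
      · obtain ⟨d, hd⟩ := P.h1 t
        exact ⟨_, by rw [hη, MulEquiv.trans_apply, MulAut.conj_apply, hd, hel_x1]⟩
    obtain ⟨f, hf0, hf1⟩ := fields_eq hφ hK hηU hηV Q hm
      (by rw [show chi0 p = _ from congrArg Prod.fst hp, Units.val_inv_eq_inv_val, Units.val_mk0,
        inv_mul_cancel₀ (a0_ne hφ hK P)])
      (by rw [show mu m p = _ from congrArg Prod.snd hp, Units.val_inv_eq_inv_val, Units.val_mk0,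
        inv_mul_cancel₀ (a1_ne hφ hK hU hV P)])
    obtain ⟨fU, fV⟩ := field_std hφ hK f
    have R : Param hφ hK (η.trans (field hφ hK f).symm) id id := by
      refine ⟨fun t => ?_, fun t => ?_⟩
      · rw [MulEquiv.trans_apply, MulEquiv.symm_apply_eq, Q.h0, ← hf0, id_eq, (field_x hφ hK f t 0).1]
      · obtain ⟨d, hd⟩ := Q.h1 t
        refine ⟨f.symm d, ?_⟩
        rw [MulEquiv.trans_apply, MulEquiv.symm_apply_eq, hd, ← hf1, id_eq, (field_x hφ hK f _ _).2,
          RingEquiv.apply_symm_apply]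
    have h1 := eq_one hφ hK (hηU.trans fU.symm) (hηV.trans fV.symm) R hm (fun _ => rfl) fun _ => rfl
    refine ⟨(hel hφ hK p)⁻¹, f, MulEquiv.ext fun z => ?_⟩
    have e := congrArg (fun g : MulAut (GT hφ hK) => field hφ hK f (g z)) h1
    simp only [MulEquiv.trans_apply, MulEquiv.apply_symm_apply, MulAut.one_apply] at e
    rw [MulAut.mul_apply, MulAut.conj_apply, ← e, hη, MulEquiv.trans_apply, MulAut.conj_apply]
    group
  · obtain ⟨p, rfl⟩ := exists_hel hφ hK hh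
    have key : ∀ t, f t = (chi0 p : K) * f' t := fun t => x0_inj hφ hK (by
      rw [← (field_x hφ hK f t 0).1, e, MulAut.mul_apply, (field_x hφ hK f' t 0).1,
        MulAut.conj_apply, (hel_x0 hφ hK p _).1])
    have h1 := key 1
    rw [map_one, map_one, mul_one] at h1
    exact RingEquiv.ext fun t => by rw [key t, ← h1, one_mul]

end Cfsg.Agent.H56.TwAut.F4
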