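import Cfsg.Agent.H56.TwAut.Twisted
import Cfsg.Agent.H56.ChevAut.Counts
import Cfsg.Agent.H37.Twist.E6

/-!
The automorphisms of `²E₆(q)`.
-/
set_option autoImplicit false
set_option maxRecDepth 100000

namespace Cfsg.Agent.H56.TwAut.E6

open Cfsg.Lie Cfsg.Agent.H37 Cfsg.Agent.H37.RootSys Cfsg.Agent.H37.Twist Cfsg.Agent.H56.ChevAut
  Cfsg.Agent.H37.Twist.E6

variable {K : Type*} [Field K] [Fintype K] {φ : K →+* K} {q : ℕ}

/-- The data of the Chevalley group. -/
noncomputable def su (K : Type*) [Field K] : Setup chevE6 K :=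
  ⟨QE K, facts_E6, Chev.sup_of_check Chev.supB_E6⟩

/-- The orbit of a node. -/
def ow : Fin chevE6.rank → Fin 4 := (![0, 3, 1, 2, 1, 0] : Fin 6 → Fin 4)

/-- The orbits. -/
def O : Fin 4 → List (Fin chevE6.rank) :=
  (![[0, 5], [2, 4], [3], [1]] : Fin 4 → List (Fin 6))

/-- The first node of an orbit. -/
def hd : Fin 4 → Fin chevE6.rank := (![0, 2, 3, 1] : Fin 4 → Fin 6)

/-- The position in the orbit. -/
def pw : Fin chevE6.rank → ℕ := (![0, 0, 0, 0, 1, 1] : Fin 6 → ℕ)

theorem mem_O : ∀ (a : Fin chevE6.rank) (i : Fin 4), a ∈ O i ↔ ow a = i :=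
  show ∀ (a : Fin 6) (i : Fin 4),
    a ∈ ((![[0, 5], [2, 4], [3], [1]] : Fin 4 → List (Fin 6)) i) ↔
      (![0, 3, 1, 2, 1, 0] : Fin 6 → Fin 4) a = i by decide

theorem orth_ok : ∀ i : Fin 4,
    (decide (O i).Nodup &&
      ((O i).all fun a => (O i).all fun b => (a == b) || orthSB chevE6 a.val b.val)) = true := by
  intro i
  exact (show ∀ i : Fin 4, (decide (O i).Nodup &&
    ((O i).all fun a => (O i).all fun b => (a == b) || orthSB chevE6 a.val b.val)) = true by
      decide +kernel) i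

theorem flip_ok : ∀ a : Fin chevE6.rank, chevE6.simple a.val ∈ orbL (ow a).val ∧
    Weyl.certE6.act (Chev.longWord Weyl.certE6 6) (chevE6.neg (chevE6.simple a.val))
      ∈ orbL (ow a).val := by
  intro a
  exact of_decide_eq_true ((show ∀ a : Fin 6, decide (chevE6.simple a.val ∈ orbL (ow a).val ∧
    Weyl.certE6.act (Chev.longWord Weyl.certE6 6) (chevE6.neg (chevE6.simple a.val))
      ∈ orbL (ow a).val) = true by decide +kernel) a)

theorem word_eq : ∀ i : Fin 4, H37.Fold.dataE6.word i.val = (O i).map fun a => a.val := by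
  intro i
  exact of_decide_eq_true ((show ∀ i : Fin 4,
    decide (H37.Fold.dataE6.word i.val = (O i).map fun a => a.val) = true by decide +kernel) i)

theorem orbL_inj : ∀ i j : Fin 4, orbL i.val = orbL j.val → i = j := by decide

theorem cartan_vals : chevE6.cartan 0 (chevE6.simple 2) = -1 ∧
    chevE6.cartan 5 (chevE6.simple 2) = 0 ∧ chevE6.cartan 2 (chevE6.simple 3) = -1 ∧
    chevE6.cartan 4 (chevE6.simple 3) = -1 ∧ chevE6.cartan 3 (chevE6.simple 1) = -1 := by
  decide +kernel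

theorem xs_eq (a : Fin chevE6.rank) (t : K) : (su K).xs a t = xe (chevE6.simple a.val) t := rfl

theorem ys_eq (a : Fin chevE6.rank) (t : K) :
    (su K).ys a t = xe (chevE6.neg (chevE6.simple a.val)) t := rfl

variable (hφ : ∀ t, φ t = t ^ q) (hK : Fintype.card K = q ^ 2)

/-- The subfields of the parameters. -/
def kf (φ : K →+* K) : Fin 4 → Subfield K :=
  ![⊤, ⊤, RingHom.eqLocusField φ (RingHom.id K), RingHom.eqLocusField φ (RingHom.id K)]

omit [Fintype K] in
include hφ in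
theorem mem_fix {t : K} : t ∈ RingHom.eqLocusField φ (RingHom.id K) ↔ t ^ q = t := by
  rw [← hφ]; rfl

include hφ hK in
theorem card_fix : Nat.card (RingHom.eqLocusField φ (RingHom.id K)) = q := by
  rw [← (card_pow_eq_self (two_le hK) (sub_dvd hK)).2]
  exact Nat.card_congr (Equiv.subtypeEquivRight fun t => mem_fix hφ)

theorem card_top : Nat.card (⊤ : Subfield K) = Nat.card K :=
  Nat.card_congr Subfield.topEquiv.toEquiv

omit [Fintype K] in
theorem px_two (a b : Fin chevE6.rank) (p : Fin chevE6.rank → K) :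
    px (su K) [a, b] p = xe (chevE6.simple a.val) (p a) * xe (chevE6.simple b.val) (p b) := by
  simp only [px, List.map_cons, List.map_nil, List.prod_cons, List.prod_nil, mul_one, xs_eq]

omit [Fintype K] in
theorem py_two (a b : Fin chevE6.rank) (p : Fin chevE6.rank → K) :
    py (su K) [a, b] p = xe (chevE6.neg (chevE6.simple a.val)) (p a) *
      xe (chevE6.neg (chevE6.simple b.val)) (p b) := by
  simp only [py, List.map_cons, List.map_nil, List.prod_cons, List.prod_nil, mul_one, ys_eq]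

omit [Fintype K] in
theorem px_one (a : Fin chevE6.rank) (p : Fin chevE6.rank → K) :
    px (su K) [a] p = xe (chevE6.simple a.val) (p a) := by
  simp only [px, List.map_cons, List.map_nil, List.prod_cons, List.prod_nil, mul_one, xs_eq]

omit [Fintype K] in
theorem py_one (a : Fin chevE6.rank) (p : Fin chevE6.rank → K) :
    py (su K) [a] p = xe (chevE6.neg (chevE6.simple a.val)) (p a) := by
  simp only [py, List.map_cons, List.map_nil, List.prod_cons, List.prod_nil, mul_one, ys_eq]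

omit [Fintype K] in
/-- The root elements of the orbits as generating words. -/
theorem elems (t : K) :
    px (su K) (O 0) (fun a => t ^ q ^ pw a) = xe e6p1 t * xe e6p6 (t ^ q) ∧
    px (su K) (O 1) (fun a => t ^ q ^ pw a) = xe e6p3 t * xe e6p5 (t ^ q) ∧
    px (su K) (O 2) (fun a => t ^ q ^ pw a) = xe e6p4 t ∧
    px (su K) (O 3) (fun a => t ^ q ^ pw a) = xe e6p2 t ∧
    py (su K) (O 0) (fun a => t ^ q ^ pw a) = xe e6m1 t * xe e6m6 (t ^ q) ∧
    py (su K) (O 1) (fun a => t ^ q ^ pw a) = xe e6m3 t * xe e6m5 (t ^ q) ∧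
    py (su K) (O 2) (fun a => t ^ q ^ pw a) = xe e6m4 t ∧
    py (su K) (O 3) (fun a => t ^ q ^ pw a) = xe e6m2 t := by
  obtain ⟨s0, s1, s2, s3, s4, s5⟩ := simple_ok
  obtain ⟨n0, n5, n2, n4, n3, n1⟩ := neg_ok
  refine ⟨(px_two _ _ _).trans ?_, (px_two _ _ _).trans ?_, (px_one _ _).trans ?_,
    (px_one _ _).trans ?_, (py_two _ _ _).trans ?_, (py_two _ _ _).trans ?_, (py_one _ _).trans ?_,
    (py_one _ _).trans ?_⟩
  · show xe (chevE6.simple 0) (t ^ q ^ 0) * xe (chevE6.simple 5) (t ^ q ^ 1) = _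
    rw [s0, s5, pow_zero, pow_one, pow_one]; rfl
  · show xe (chevE6.simple 2) (t ^ q ^ 0) * xe (chevE6.simple 4) (t ^ q ^ 1) = _
    rw [s2, s4, pow_zero, pow_one, pow_one]; rfl
  · show xe (chevE6.simple 3) (t ^ q ^ 0) = _
    rw [s3, pow_zero, pow_one]; rfl
  · show xe (chevE6.simple 1) (t ^ q ^ 0) = _
    rw [s1, pow_zero, pow_one]; rfl
  · show xe (chevE6.neg (chevE6.simple 0)) (t ^ q ^ 0) * xe (chevE6.neg (chevE6.simple 5)) (t ^ q ^ 1) = _
    rw [s0, s5, n0, n5, pow_zero, pow_one, pow_one]; rfl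
  · show xe (chevE6.neg (chevE6.simple 2)) (t ^ q ^ 0) * xe (chevE6.neg (chevE6.simple 4)) (t ^ q ^ 1) = _
    rw [s2, s4, n2, n4, pow_zero, pow_one, pow_one]; rfl
  · show xe (chevE6.neg (chevE6.simple 3)) (t ^ q ^ 0) = _
    rw [s3, n3, pow_zero, pow_one]; rfl
  · show xe (chevE6.neg (chevE6.simple 1)) (t ^ q ^ 0) = _
    rw [s1, n1, pow_zero, pow_one]; rfl

include hφ in
theorem gen_mem (L : Subgroup (GL chevE6.Idx K))
    (hx : ∀ i, ∀ t ∈ kf φ i, (px (su K) (O i) fun a => t ^ q ^ pw a).1 ∈ L)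
    (hy : ∀ i, ∀ t ∈ kf φ i, (py (su K) (O i) fun a => t ^ q ^ pw a).1 ∈ L) :
    twistedE6 K q ≤ L := by
  refine (Subgroup.closure_le _).2 ?_
  rintro g ⟨w, hw, hg⟩
  rw [SetLike.mem_coe,
    show g = (QE K).K.wU K w from Units.ext (hg.trans ((QE K).K.coe_wU K w).symm)]
  rcases hw with ⟨t, ht, r, hr, rfl⟩ | ⟨t, ⟨r, s⟩, hr, rfl⟩
  · have h : (QE K).K.wU K [(r, t)] = (xe r t : ↥(chevE6.group K)).1 := by
      rw [Chevalley.Cert.wU_cons, Chevalley.Cert.wU_nil, mul_one]; rfl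
    rw [h]
    obtain ⟨-, -, e2, e3, -, -, f2, f3⟩ := elems (q := q) t
    have hm : t ∈ kf φ 2 := (mem_fix hφ).2 ht
    fin_cases hr
    · have := hx 3 t hm; rwa [e3] at this
    · have := hy 3 t hm; rwa [f3] at this
    · have := hx 2 t hm; rwa [e2] at this
    · have := hy 2 t hm; rwa [f2] at this
  · have h : (QE K).K.wU K [(r, t), (s, t ^ q)]
        = (xe r t * xe s (t ^ q) : ↥(chevE6.group K)).1 := by
      rw [Chevalley.Cert.wU_cons, Chevalley.Cert.wU_cons, Chevalley.Cert.wU_nil, mul_one]; rfl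
    rw [h]
    obtain ⟨e0, e1, -, -, f0, f1, -, -⟩ := elems (q := q) t
    have hm : t ∈ kf φ 0 := trivial
    fin_cases hr
    · have := hx 0 t hm; rwa [e0] at this
    · have := hy 0 t hm; rwa [f0] at this
    · have := hx 1 t hm; rwa [e1] at this
    · have := hy 1 t hm; rwa [f1] at this

include hφ in
theorem elems_mem (i : Fin 4) (t : K) (ht : t ∈ kf φ i) :
    (px (su K) (O i) fun a => t ^ q ^ pw a).1 ∈ twistedE6 K q ∧
      (py (su K) (O i) fun a => t ^ q ^ pw a).1 ∈ twistedE6 K q := by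
  obtain ⟨e0, e1, e2, e3, f0, f1, f2, f3⟩ := elems (q := q) t
  fin_cases i
  · exact ⟨e0.symm ▸ pair_mem (by simp) t, f0.symm ▸ pair_mem (by simp) t⟩
  · exact ⟨e1.symm ▸ pair_mem (by simp) t, f1.symm ▸ pair_mem (by simp) t⟩
  · have h := (mem_fix hφ).1 ht
    exact ⟨e2.symm ▸ single_mem (by simp) h, f2.symm ▸ single_mem (by simp) h⟩
  · have h := (mem_fix hφ).1 ht
    exact ⟨e3.symm ▸ single_mem (by simp) h, f3.symm ▸ single_mem (by simp) h⟩

theorem flip_eq (φ : K →+* K) (i : Fin 4) :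
    Sys.flip (QE K).X.good ((fold φ).ι ((fold φ).gens i)) = (orbL i.val).toFinset := by
  rw [ι_gen]
  exact (orb φ i).flip_set

/-- `²E₆(q)` with its root groups. -/
noncomputable def spec : Spec (S := su K) (model hφ hK) q where
  ow := ow
  O := O
  mem_O := mem_O
  orth i := by
    have h := orth_ok i
    simp only [Bool.and_eq_true, decide_eq_true_eq, List.all_eq_true, Bool.or_eq_true,
      beq_iff_eq] at h
    exact ⟨h.1, fun a ha b hb hne => (h.2 a ha b hb).resolve_left hne⟩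
  hd := hd
  hd_mem := show ∀ i : Fin 4, hd i ∈ O i by decide
  pw := pw
  pw_hd := show ∀ i : Fin 4, pw (hd i) = 0 by decide
  k := kf φ
  k_map f i t ht := by
    fin_cases i
    · trivial
    · trivial
    all_goals
      refine (mem_fix hφ).2 ?_
      rw [← map_pow, (mem_fix hφ).1 ht]
  card_k i := by
    refine Eq.trans ?_ (congrArg (Nat.card K ^ ·) (inv_ι φ i)).symm
    have hK' : Nat.card K = q ^ 2 := by rw [Nat.card_eq_fintype_card, hK]
    show Nat.card (kf φ i) ^ 2 = Nat.card K ^ (orbL i.val).length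
    fin_cases i
    · exact congrArg (· ^ 2) card_top
    · exact congrArg (· ^ 2) card_top
    · exact (congrArg (· ^ 2) (card_fix hφ hK)).trans (hK'.symm.trans (pow_one _).symm)
    · exact (congrArg (· ^ 2) (card_fix hφ hK)).trans (hK'.symm.trans (pow_one _).symm)
  e_pos := two_ne_zero
  add_pow t u := by rw [← hφ, ← hφ, ← hφ, map_add]
  word_eq := word_eq
  gens_inj i j h := orbL_inj i j <| by
    have e : (orbL i.val).toFinset = (orbL j.val).toFinset := by
      rw [← flip_eq φ i, ← flip_eq φ j, h]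
    revert e
    revert i j
    intro i j h e
    exact (show ∀ i j : Fin 4, (orbL i.val).toFinset = (orbL j.val).toFinset →
      orbL i.val = orbL j.val by decide) i j e
  x_mem i t ht := (elems_mem hφ i t ht).1
  y_mem i t ht := (elems_mem hφ i t ht).2
  gen := gen_mem hφ
  flip_mem a := by
    show _ ∈ Sys.flip (QE K).X.good ((fold φ).ι ((fold φ).gens (ow a)))
    rw [flip_eq, List.mem_toFinset]
    exact (flip_ok a).1
  w0_flip a h := by
    show _ ∈ Sys.flip (QE K).X.good ((fold φ).ι ((fold φ).gens (ow a)))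
    rw [flip_eq, List.mem_toFinset]
    have h2 := (QE K).X.extra
    simp only [Chev.extraB, Bool.and_eq_true, List.all_eq_true, decide_eq_true_eq] at h2
    show ((QE K).X.good.hom (Chev.TypeData.w0 (QE K).X) ⟨_, h⟩).val ∈ _
    rw [Chev.TypeData.w0, (QE K).X.good.hom_wOf_val h2.1.1.2]
    exact (flip_ok a).2
  faith := faith hφ

include hK in
theorem norm_surj {u : K} (hu0 : u ≠ 0) (hu : u ^ q = u) : ∃ t : K, t ≠ 0 ∧ t ^ (q + 1) = u := by
  classical
  have hq := two_le hK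
  have hN : Fintype.card Kˣ = (q + 1) * (q - 1) := by
    rw [Fintype.card_units, hK, ← Nat.sq_sub_sq, one_pow]
  have hker : Nat.card (powMonoidHom (q + 1) : Kˣ →* Kˣ).ker = q + 1 := by
    rw [IsCyclic.card_powMonoidHom_ker, Nat.card_eq_fintype_card, hN]
    exact Nat.gcd_eq_right (Dvd.intro _ rfl)
  have hrange : (powMonoidHom (q + 1) : Kˣ →* Kˣ).range = (powMonoidHom (q - 1) : Kˣ →* Kˣ).ker := by
    refine Subgroup.eq_of_le_of_card_ge ?_ ?_
    · rintro _ ⟨t, rfl⟩
      rw [MonoidHom.mem_ker, powMonoidHom_apply, powMonoidHom_apply, ← pow_mul, ← hN,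
        pow_card_eq_one]
    · rw [IsCyclic.card_powMonoidHom_ker, Nat.card_eq_fintype_card, hN,
        Nat.gcd_eq_right (Dvd.intro_left _ rfl)]
      have := Subgroup.card_mul_index (powMonoidHom (q + 1) : Kˣ →* Kˣ).ker
      rw [Subgroup.index_ker, hker, Nat.card_eq_fintype_card (α := Kˣ), hN] at this
      exact (Nat.eq_of_mul_eq_mul_left (by omega) this).ge
  have hmem : Units.mk0 u hu0 ∈ (powMonoidHom (q + 1) : Kˣ →* Kˣ).range := by
    rw [hrange, MonoidHom.mem_ker, powMonoidHom_apply]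
    refine mul_right_cancel (b := Units.mk0 u hu0) ?_
    rw [← pow_succ, one_mul, show q - 1 + 1 = q by omega]
    exact Units.ext hu
  obtain ⟨t, ht⟩ := hmem
  exact ⟨t, t.ne_zero, by rw [← Units.val_pow_eq_pow_val]; exact congrArg Units.val ht⟩

theorem f4_rel : (CoxeterMatrix.F₄.simple 1 * CoxeterMatrix.F₄.simple 2) ^ 2 ≠ 1 ∧
    (CoxeterMatrix.F₄.simple 0 * CoxeterMatrix.F₄.simple 2) ^ 2 = 1 ∧
    (CoxeterMatrix.F₄.simple 0 * CoxeterMatrix.F₄.simple 3) ^ 2 = 1 ∧
    (CoxeterMatrix.F₄.simple 1 * CoxeterMatrix.F₄.simple 3) ^ 2 = 1 := by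
  refine ⟨fun h => ?_, ?_, ?_, ?_⟩
  · have e : Weyl.wOf CoxeterMatrix.F₄ [1, 2, 1, 2] = 1 := by
      rw [Weyl.wOf]
      simp only [List.map_cons, List.map_nil, List.prod_cons, List.prod_nil, mul_one]
      rw [show Weyl.gen CoxeterMatrix.F₄ 1 = CoxeterMatrix.F₄.simple 1 from Sigma.gen_fin 1,
        show Weyl.gen CoxeterMatrix.F₄ 2 = CoxeterMatrix.F₄.simple 2 from Sigma.gen_fin 2, ← h,
        pow_two]
      group
    obtain ⟨r, hr⟩ : ∃ r : Fin chevF4.nroots, Weyl.certF4.act [1, 2, 1, 2] r.val ≠ r.val := by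
      decide +kernel
    have h2 := Weyl.goodF4.hom_wOf_val (w := [1, 2, 1, 2]) (by decide) r
    rw [e, map_one] at h2
    exact hr h2.symm
  · have := CoxeterMatrix.F₄.toCoxeterSystem.simple_mul_simple_pow 0 2
    rw [show CoxeterMatrix.F₄ 0 2 = 2 by decide] at this
    exact this
  · have := CoxeterMatrix.F₄.toCoxeterSystem.simple_mul_simple_pow 0 3
    rw [show CoxeterMatrix.F₄ 0 3 = 2 by decide] at this
    exact this
  · have := CoxeterMatrix.F₄.toCoxeterSystem.simple_mul_simple_pow 1 3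
    rw [show CoxeterMatrix.F₄ 1 3 = 2 by decide] at this
    exact this

include hφ hK in
theorem card_k_ne : Nat.card (kf φ 0) ≠ Nat.card (kf φ 2) := by
  show Nat.card (⊤ : Subfield K) ≠ Nat.card (RingHom.eqLocusField φ (RingHom.id K))
  rw [card_top, card_fix hφ hK, Nat.card_eq_fintype_card, hK, sq]
  have := two_le hK
  intro h
  exact absurd (Nat.le_of_eq h) (Nat.not_le.2 (lt_mul_left (by omega) (by omega)))

theorem rigid : (spec hφ hK).frames.Rigid := by
  suffices ∀ σ : Fin 4 → Fin 4, Function.Injective σ →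
      (∀ i, Nat.card (kf φ i) = Nat.card (kf φ (σ i))) →
      (∀ i j m, (CoxeterMatrix.F₄.simple i * CoxeterMatrix.F₄.simple j) ^ m = 1 ↔
        (CoxeterMatrix.F₄.simple (σ i) * CoxeterMatrix.F₄.simple (σ j)) ^ m = 1) →
      ∀ i, σ i = i from fun σ => this σ
  intro σ hσ hcard hord
  have hrel := f4_rel
  have h02 := card_k_ne hφ hK
  have hc : ∀ i : Fin 4, (σ i = 0 ∨ σ i = 1) ↔ (i = 0 ∨ i = 1) := by
    intro i
    have h := hcard i
    generalize σ i = j at h
    fin_cases i <;> fin_cases j <;>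
      first
      | exact absurd h h02
      | exact absurd h.symm h02
      | simp
  have key : ∀ a b : Fin 4, (CoxeterMatrix.F₄.simple a * CoxeterMatrix.F₄.simple b) ^ 2 = 1 →
      (CoxeterMatrix.F₄.simple (σ a) * CoxeterMatrix.F₄.simple (σ b)) ^ 2 = 1 :=
    fun a b h => (hord a b 2).1 h
  have h2 := key 0 2 hrel.2.1
  have h3 := key 0 3 hrel.2.2.1
  have h4 := key 1 3 hrel.2.2.2
  have c0 := hc 0
  have c1 := hc 1
  have c2 := hc 2
  have c3 := hc 3
  have i01 : σ 0 ≠ σ 1 := fun e => absurd (hσ e) (by decide)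
  have i23 : σ 2 ≠ σ 3 := fun e => absurd (hσ e) (by decide)
  revert h2 h3 h4 c0 c1 c2 c3 i01 i23
  generalize e0 : σ 0 = a0
  generalize e1 : σ 1 = a1
  generalize e2 : σ 2 = a2
  generalize e3 : σ 3 = a3
  intro h2 h3 h4 c0 c1 c2 c3 i01 i23
  have : a0 = 0 ∧ a1 = 1 ∧ a2 = 2 ∧ a3 = 3 := by
    fin_cases a0 <;> fin_cases a1 <;> fin_cases a2 <;> fin_cases a3 <;>
      first
      | exact ⟨rfl, rfl, rfl, rfl⟩
      | exact absurd h2 hrel.1
      | exact absurd h3 hrel.1
      | exact absurd h4 hrel.1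
      | simp at c0 c1 c2 c3 i01 i23
  intro i
  fin_cases i
  · exact e0.trans this.1
  · exact e1.trans this.2.1
  · exact e2.trans this.2.2.1
  · exact e3.trans this.2.2.2

theorem chi_vals (t : K) :
    (spec hφ hK).chi (0 : Fin 4) (1 : Fin 4) t = t⁻¹ ∧
    (spec hφ hK).chi (1 : Fin 4) (2 : Fin 4) t = (t ^ (q + 1))⁻¹ ∧
    (spec hφ hK).chi (2 : Fin 4) (3 : Fin 4) t = t⁻¹ := by
  obtain ⟨c1, c2, c3, c4, c5⟩ := cartan_vals
  refine ⟨?_, ?_, ?_⟩
  · show [(t ^ q ^ 0) ^ chevE6.cartan 0 (chevE6.simple 2),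
      (t ^ q ^ 1) ^ chevE6.cartan 5 (chevE6.simple 2)].prod = _
    rw [c1, c2]; simp
  · show [(t ^ q ^ 0) ^ chevE6.cartan 2 (chevE6.simple 3),
      (t ^ q ^ 1) ^ chevE6.cartan 4 (chevE6.simple 3)].prod = _
    rw [c3, c4]; simp [pow_succ, mul_comm]
  · show [(t ^ q ^ 0) ^ chevE6.cartan 3 (chevE6.simple 1)].prod = _
    rw [c5]; simp

theorem glue (s : ∀ i, (spec hφ hK).k i ≃+* (spec hφ hK).k i)
    (hs : ∀ i j (t : (spec hφ hK).k i), t ≠ 0 → ∀ c : (spec hφ hK).k j,
      (c : K) = (spec hφ hK).chi i j t → (s j c : K) = (spec hφ hK).chi i j (s i t)) :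
    ∃ f : RingAut K, ∀ i (t : (spec hφ hK).k i), (s i t : K) = f t := by
  let f : RingAut K :=
    (Subfield.topEquiv (K := K)).symm.trans ((s (0 : Fin 4)).trans Subfield.topEquiv)
  have h0 : ∀ t : (spec hφ hK).k (0 : Fin 4), (s (0 : Fin 4) t : K) = f t := fun t => rfl
  have h1 : ∀ t : (spec hφ hK).k (1 : Fin 4), (s (1 : Fin 4) t : K) = f t := by
    intro t
    by_cases ht : t = 0
    · subst ht; simp
    have ht' : (t : K) ≠ 0 := fun e => ht (Subtype.ext e)
    have h := hs (0 : Fin 4) (1 : Fin 4) ⟨(t : K)⁻¹, trivial⟩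
      (fun e => ht' (inv_eq_zero.1 (congrArg Subtype.val e))) t
      ((inv_inv (t : K)).symm.trans (chi_vals hφ hK _).1.symm)
    rw [(chi_vals hφ hK _).1, h0] at h
    rw [h, map_inv₀, inv_inv]
  have h2 : ∀ t : (spec hφ hK).k (2 : Fin 4), (s (2 : Fin 4) t : K) = f t := by
    intro t
    by_cases ht : t = 0
    · subst ht; simp
    have ht' : (t : K) ≠ 0 := fun e => ht (Subtype.ext e)
    obtain ⟨u, hu0, hu⟩ := norm_surj hK (inv_ne_zero ht')
      (by rw [inv_pow, (mem_fix hφ).1 t.2])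
    have h := hs (1 : Fin 4) (2 : Fin 4) ⟨u, trivial⟩
      (fun e => hu0 (congrArg Subtype.val e)) t
      ((inv_inv (t : K)).symm.trans ((congrArg (·⁻¹) hu.symm).trans (chi_vals hφ hK _).2.1.symm))
    rw [(chi_vals hφ hK _).2.1, h1] at h
    rw [h, ← map_pow, hu, map_inv₀, inv_inv]
  have h3 : ∀ t : (spec hφ hK).k (3 : Fin 4), (s (3 : Fin 4) t : K) = f t := by
    intro t
    by_cases ht : t = 0
    · subst ht; simp
    have ht' : (t : K) ≠ 0 := fun e => ht (Subtype.ext e)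
    have hm : (t : K)⁻¹ ∈ (spec hφ hK).k (2 : Fin 4) := Subfield.inv_mem _ t.2
    have h := hs (2 : Fin 4) (3 : Fin 4) ⟨(t : K)⁻¹, hm⟩
      (fun e => ht' (inv_eq_zero.1 (congrArg Subtype.val e))) t
      ((inv_inv (t : K)).symm.trans (chi_vals hφ hK _).2.2.symm)
    rw [(chi_vals hφ hK _).2.2, h2] at h
    rw [h, map_inv₀, inv_inv]
  refine ⟨f, fun i t => ?_⟩
  fin_cases i
  · exact h0 t
  · exact h1 t
  · exact h2 t
  · exact h3 t

theorem faithful (f f' : RingAut K) (h : ∀ i (t : (spec hφ hK).k i), f (t : K) = f' t) : f = f' :=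
  RingEquiv.ext fun t => h (0 : Fin 4) ⟨t, trivial⟩

include hφ hK in
theorem card_out {p f : ℕ} [Fact p.Prime] [CharP K p] (hq : q = p ^ f) (hf : 1 ≤ f) :
    Nat.card (Cfsg.Out ↥(twistedE6 K q)) = 2 * Nat.gcd 3 (q + 1) * f := by
  have hq2 := two_le hK
  have h := Auts.card_out (Spec.auts (spec hφ hK) (rigid hφ hK) (glue hφ hK) (faithful hφ hK))
  have hA : Nat.card (RingAut K) = 2 * f :=
    ChevAut.card_ringAut (p := p) (f := 2 * f) (by omega)
      (by rw [hK, hq, ← pow_mul, mul_comm])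
  have hH : Nat.gcd 3 (q + 1) * Nat.card ↥(model hφ hK).tw.H = (q - 1) ^ 4 * (q + 1) ^ 2 := by
    rw [(model hφ hK).tw_H, ← (model hφ hK).card_inf_eq]
    exact Twist.E6.card_H hφ hK
  have hu : ∀ L : Subfield K, Nat.card Lˣ = Nat.card L - 1 := fun L => Nat.card_units L
  have hC : Nat.card (∀ i : Fin 4, (kf φ i)ˣ) = (q - 1) ^ 4 * (q + 1) ^ 2 := by
    rw [Nat.card_pi, Fin.prod_univ_four, hu, hu, hu, hu]
    show (Nat.card (⊤ : Subfield K) - 1) * (Nat.card (⊤ : Subfield K) - 1) *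
      (Nat.card (RingHom.eqLocusField φ (RingHom.id K)) - 1) *
      (Nat.card (RingHom.eqLocusField φ (RingHom.id K)) - 1) = _
    rw [card_top, card_fix hφ hK, Nat.card_eq_fintype_card, hK,
      show q ^ 2 - 1 = (q + 1) * (q - 1) by rw [← Nat.sq_sub_sq, one_pow]]
    ring
  change Nat.card (Cfsg.Out ↥(twistedE6 K q)) * Nat.card ↥(model hφ hK).tw.H =
    Nat.card (RingAut K) * Nat.card (∀ i : Fin 4, (kf φ i)ˣ) at h
  rw [hA, hC, ← hH] at h
  refine Nat.eq_of_mul_eq_mul_right (Nat.card_pos (α := ↥(model hφ hK).tw.H)) (h.trans ?_)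
  ring

end Cfsg.Agent.H56.TwAut.E6
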