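import Cfsg.Agent.H56.TwAut.Twisted
import Cfsg.Agent.H56.TwAut.Common
import Cfsg.Agent.H56.ChevAut.Counts
import Cfsg.Agent.H37.Twist.D4

/-!
The automorphisms of `³D₄(q)`.
-/
set_option autoImplicit false
set_option maxRecDepth 100000

namespace Cfsg.Agent.H56.TwAut.D4

open Cfsg.Lie Cfsg.Agent.H37 Cfsg.Agent.H37.RootSys Cfsg.Agent.H37.Twist Cfsg.Agent.H56.ChevAut
  Cfsg.Agent.H37.Twist.D4

variable {K : Type*} [Field K] [Fintype K] {φ : K →+* K} {q : ℕ}

/-- The data of the Chevalley group. -/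
noncomputable def su (K : Type*) [Field K] : Setup chevD4 K :=
  ⟨Chev.dataD4 K, facts_D4, Chev.sup_of_check Chev.supB_D4⟩

/-- The orbit of a node. -/
def ow : Fin chevD4.rank → Fin 2 := (![0, 1, 0, 0] : Fin 4 → Fin 2)

/-- The orbits. -/
def O : Fin 2 → List (Fin chevD4.rank) := (![[0, 2, 3], [1]] : Fin 2 → List (Fin 4))

/-- The first node of an orbit. -/
def hd : Fin 2 → Fin chevD4.rank := (![0, 1] : Fin 2 → Fin 4)

/-- The position in the orbit. -/
def pw : Fin chevD4.rank → ℕ := (![0, 0, 1, 2] : Fin 4 → ℕ)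

theorem mem_O : ∀ (a : Fin chevD4.rank) (i : Fin 2), a ∈ O i ↔ ow a = i :=
  show ∀ (a : Fin 4) (i : Fin 2),
    a ∈ ((![[0, 2, 3], [1]] : Fin 2 → List (Fin 4)) i) ↔
      (![0, 1, 0, 0] : Fin 4 → Fin 2) a = i by decide

theorem orth_ok : ∀ i : Fin 2,
    (decide (O i).Nodup &&
      ((O i).all fun a => (O i).all fun b => (a == b) || orthSB chevD4 a.val b.val)) = true := by
  intro i
  exact (show ∀ i : Fin 2, (decide (O i).Nodup &&
    ((O i).all fun a => (O i).all fun b => (a == b) || orthSB chevD4 a.val b.val)) = true by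
      decide +kernel) i

theorem flip_ok : ∀ a : Fin chevD4.rank, chevD4.simple a.val ∈ orbL (ow a).val ∧
    Weyl.certD4.act (Chev.longWord Weyl.certD4 4) (chevD4.neg (chevD4.simple a.val))
      ∈ orbL (ow a).val := by
  intro a
  exact of_decide_eq_true ((show ∀ a : Fin 4, decide (chevD4.simple a.val ∈ orbL (ow a).val ∧
    Weyl.certD4.act (Chev.longWord Weyl.certD4 4) (chevD4.neg (chevD4.simple a.val))
      ∈ orbL (ow a).val) = true by decide +kernel) a)

theorem word_eq : ∀ i : Fin 2, H37.Fold.dataD4.word i.val = (O i).map fun a => a.val := by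
  intro i
  exact of_decide_eq_true ((show ∀ i : Fin 2,
    decide (H37.Fold.dataD4.word i.val = (O i).map fun a => a.val) = true by decide +kernel) i)

theorem simple_vals : chevD4.simple 0 = 18 ∧ chevD4.simple 1 = 14 ∧ chevD4.simple 2 = 13 ∧
    chevD4.simple 3 = 12 ∧ chevD4.neg 18 = 5 ∧ chevD4.neg 14 = 9 ∧ chevD4.neg 13 = 10 ∧
    chevD4.neg 12 = 11 := by decide +kernel

theorem cartan_vals : chevD4.cartan 0 (chevD4.simple 1) = -1 ∧
    chevD4.cartan 2 (chevD4.simple 1) = -1 ∧ chevD4.cartan 3 (chevD4.simple 1) = -1 := by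
  decide +kernel

/-- The subfields of the parameters. -/
def kf (φ : K →+* K) : Fin 2 → Subfield K := ![⊤, RingHom.eqLocusField φ (RingHom.id K)]

omit [Fintype K] in
/-- The root elements of the orbits as generating words. -/
theorem elems (t : K) :
    px (su K) (O 0) (fun a => t ^ q ^ pw a) = xe d4p1 t * xe d4p3 (t ^ q) * xe d4p4 (t ^ q ^ 2) ∧
    px (su K) (O 1) (fun a => t ^ q ^ pw a) = xe d4p2 t ∧
    py (su K) (O 0) (fun a => t ^ q ^ pw a) = xe d4m1 t * xe d4m3 (t ^ q) * xe d4m4 (t ^ q ^ 2) ∧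
    py (su K) (O 1) (fun a => t ^ q ^ pw a) = xe d4m2 t := by
  obtain ⟨s0, s1, s2, s3, n0, n1, n2, n3⟩ := simple_vals
  refine ⟨?_, ?_, ?_, ?_⟩
  · show xe (chevD4.simple 0) (t ^ q ^ 0) * (xe (chevD4.simple 2) (t ^ q ^ 1) *
      (xe (chevD4.simple 3) (t ^ q ^ 2) * 1)) = _
    rw [s0, s2, s3, pow_zero, pow_one, pow_one, mul_one, ← mul_assoc]; rfl
  · show xe (chevD4.simple 1) (t ^ q ^ 0) * 1 = _
    rw [s1, pow_zero, pow_one, mul_one]; rfl
  · show xe (chevD4.neg (chevD4.simple 0)) (t ^ q ^ 0) * (xe (chevD4.neg (chevD4.simple 2))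
      (t ^ q ^ 1) * (xe (chevD4.neg (chevD4.simple 3)) (t ^ q ^ 2) * 1)) = _
    rw [s0, s2, s3, n0, n2, n3, pow_zero, pow_one, pow_one, mul_one, ← mul_assoc]; rfl
  · show xe (chevD4.neg (chevD4.simple 1)) (t ^ q ^ 0) * 1 = _
    rw [s1, n1, pow_zero, pow_one, mul_one]; rfl

variable (hφ : ∀ t, φ t = t ^ q) (hK : Fintype.card K = q ^ 3)

include hφ in
theorem gen_mem (L : Subgroup (GL chevD4.Idx K))
    (hx : ∀ i, ∀ t ∈ kf φ i, (px (su K) (O i) fun a => t ^ q ^ pw a).1 ∈ L)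
    (hy : ∀ i, ∀ t ∈ kf φ i, (py (su K) (O i) fun a => t ^ q ^ pw a).1 ∈ L) :
    twistedD4 K q ≤ L := by
  refine (Subgroup.closure_le _).2 ?_
  rintro g ⟨w, hw, hg⟩
  rw [SetLike.mem_coe,
    show g = (Chev.dataD4 K).K.wU K w from
      Units.ext (hg.trans ((Chev.dataD4 K).K.coe_wU K w).symm)]
  rcases hw with ⟨t, ht, r, hr, rfl⟩ | ⟨t, ⟨r, s, u⟩, hr, rfl⟩
  · have h : (Chev.dataD4 K).K.wU K [(r, t)] = (xe r t : ↥(chevD4.group K)).1 := by
      rw [Chevalley.Cert.wU_cons, Chevalley.Cert.wU_nil, mul_one]; rfl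
    rw [h]
    obtain ⟨-, e1, -, f1⟩ := elems (q := q) t
    have hm : t ∈ kf φ 1 := (mem_fix hφ).2 ht
    fin_cases hr
    · have := hx 1 t hm; rwa [e1] at this
    · have := hy 1 t hm; rwa [f1] at this
  · have h : (Chev.dataD4 K).K.wU K [(r, t), (s, t ^ q), (u, t ^ q ^ 2)]
        = (xe r t * xe s (t ^ q) * xe u (t ^ q ^ 2) : ↥(chevD4.group K)).1 := by
      rw [Chevalley.Cert.wU_cons, Chevalley.Cert.wU_cons, Chevalley.Cert.wU_cons,
        Chevalley.Cert.wU_nil, mul_one, ← mul_assoc]; rfl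
    rw [h]
    obtain ⟨e0, -, f0, -⟩ := elems (q := q) t
    have hm : t ∈ kf φ 0 := trivial
    fin_cases hr
    · have := hx 0 t hm; rwa [e0] at this
    · have := hy 0 t hm; rwa [f0] at this

include hφ in
theorem elems_mem (i : Fin 2) (t : K) (ht : t ∈ kf φ i) :
    (px (su K) (O i) fun a => t ^ q ^ pw a).1 ∈ twistedD4 K q ∧
      (py (su K) (O i) fun a => t ^ q ^ pw a).1 ∈ twistedD4 K q := by
  obtain ⟨e0, e1, f0, f1⟩ := elems (q := q) t
  fin_cases i
  · have h1 := triple_mem (q := q) (a := d4p1) (b := d4p3) (c := d4p4) (by simp) t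
    have h2 := triple_mem (q := q) (a := d4m1) (b := d4m3) (c := d4m4) (by simp) t
    rw [← pow_mul, ← pow_two] at h1 h2
    exact ⟨e0.symm ▸ h1, f0.symm ▸ h2⟩
  · have h := (mem_fix hφ).1 ht
    exact ⟨e1.symm ▸ single_mem (by simp) h, f1.symm ▸ single_mem (by simp) h⟩

theorem flip_eq (φ : K →+* K) (i : Fin 2) :
    Sys.flip (Chev.dataD4 K).X.good ((fold φ).ι ((fold φ).gens i)) = (orbL i.val).toFinset := by
  rw [ι_gen]
  exact (orb φ i).flip_set

/-- `³D₄(q)` with its root groups. -/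
noncomputable def spec : Spec (S := su K) (model hφ hK) q where
  ow := ow
  O := O
  mem_O := mem_O
  orth i := by
    have h := orth_ok i
    simp only [Bool.and_eq_true, decide_eq_true_eq, List.all_eq_true, Bool.or_eq_true,
      beq_iff_eq] at h
    exact ⟨h.1, fun a ha b hb hne => (h.2 a ha b hb).resolve_left hne⟩
  hd := hd
  hd_mem := show ∀ i : Fin 2, hd i ∈ O i by decide
  pw := pw
  pw_hd := show ∀ i : Fin 2, pw (hd i) = 0 by decide
  k := kf φ
  k_map f i t ht := by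
    fin_cases i
    · trivial
    · refine (mem_fix hφ).2 ?_
      rw [← map_pow, (mem_fix hφ).1 ht]
  card_k i := by
    refine Eq.trans ?_ (congrArg (Nat.card K ^ ·) (inv_ι φ i)).symm
    have hK' : Nat.card K = q ^ 3 := by rw [Nat.card_eq_fintype_card, hK]
    show Nat.card (kf φ i) ^ 3 = Nat.card K ^ (orbL i.val).length
    fin_cases i
    · exact congrArg (· ^ 3) card_top
    · exact (congrArg (· ^ 3) (card_fix hφ three_ne_zero hK)).trans
        (hK'.symm.trans (pow_one _).symm)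
  e_pos := three_ne_zero
  add_pow t u := by rw [← hφ, ← hφ, ← hφ, map_add]
  word_eq := word_eq
  gens_inj i j h := (show ∀ i j : Fin 2, (orbL i.val).toFinset = (orbL j.val).toFinset → i = j by
    decide) i j (by rw [← flip_eq φ i, ← flip_eq φ j, h])
  x_mem i t ht := (elems_mem hφ i t ht).1
  y_mem i t ht := (elems_mem hφ i t ht).2
  gen := gen_mem hφ
  flip_mem a := by
    show _ ∈ Sys.flip (Chev.dataD4 K).X.good ((fold φ).ι ((fold φ).gens (ow a)))
    rw [flip_eq, List.mem_toFinset]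
    exact (flip_ok a).1
  w0_flip a h := by
    show _ ∈ Sys.flip (Chev.dataD4 K).X.good ((fold φ).ι ((fold φ).gens (ow a)))
    rw [flip_eq, List.mem_toFinset]
    have h2 := (Chev.dataD4 K).X.extra
    simp only [Chev.extraB, Bool.and_eq_true, List.all_eq_true, decide_eq_true_eq] at h2
    show ((Chev.dataD4 K).X.good.hom (Chev.TypeData.w0 (Chev.dataD4 K).X) ⟨_, h⟩).val ∈ _
    rw [Chev.TypeData.w0, (Chev.dataD4 K).X.good.hom_wOf_val h2.1.1.2]
    exact (flip_ok a).2
  faith := faith hφ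

include hφ hK in
theorem card_k_ne : Nat.card (kf φ 0) ≠ Nat.card (kf φ 1) := by
  show Nat.card (⊤ : Subfield K) ≠ Nat.card (RingHom.eqLocusField φ (RingHom.id K))
  rw [card_top, card_fix hφ three_ne_zero hK, Nat.card_eq_fintype_card, hK]
  have hq := two_le_of_card three_ne_zero hK
  have : q * 1 < q * (q * q) := Nat.mul_lt_mul_of_pos_left (by nlinarith) (by omega)
  rw [pow_succ, pow_two]
  linarith

theorem rigid : (spec hφ hK).frames.Rigid := by
  suffices ∀ σ : Fin 2 → Fin 2,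
      (∀ i, Nat.card (kf φ i) = Nat.card (kf φ (σ i))) → ∀ i, σ i = i from
    fun σ _ hc _ => this σ hc
  intro σ hcard i
  have h := hcard i
  have h01 := card_k_ne hφ hK
  generalize σ i = j at h ⊢
  fin_cases i <;> fin_cases j <;>
    first
    | rfl
    | exact absurd h h01
    | exact absurd h.symm h01

theorem chi_val (t : K) :
    (spec hφ hK).chi (0 : Fin 2) (1 : Fin 2) t = (t ^ (q ^ 2 + q + 1))⁻¹ := by
  obtain ⟨c1, c2, c3⟩ := cartan_vals
  show [(t ^ q ^ 0) ^ chevD4.cartan 0 (chevD4.simple 1),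
    (t ^ q ^ 1) ^ chevD4.cartan 2 (chevD4.simple 1),
    (t ^ q ^ 2) ^ chevD4.cartan 3 (chevD4.simple 1)].prod = _
  rw [c1, c2, c3]
  simp [pow_add, mul_comm, mul_left_comm]

theorem glue (s : ∀ i, (spec hφ hK).k i ≃+* (spec hφ hK).k i)
    (hs : ∀ i j (t : (spec hφ hK).k i), t ≠ 0 → ∀ c : (spec hφ hK).k j,
      (c : K) = (spec hφ hK).chi i j t → (s j c : K) = (spec hφ hK).chi i j (s i t)) :
    ∃ f : RingAut K, ∀ i (t : (spec hφ hK).k i), (s i t : K) = f t := by
  let f : RingAut K :=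
    (Subfield.topEquiv (K := K)).symm.trans ((s (0 : Fin 2)).trans Subfield.topEquiv)
  have h0 : ∀ t : (spec hφ hK).k (0 : Fin 2), (s (0 : Fin 2) t : K) = f t := fun t => rfl
  have h1 : ∀ t : (spec hφ hK).k (1 : Fin 2), (s (1 : Fin 2) t : K) = f t := by
    intro t
    by_cases ht : t = 0
    · subst ht; simp
    have ht' : (t : K) ≠ 0 := fun e => ht (Subtype.ext e)
    have hN : (q ^ 2 + q + 1) * (q - 1) = q ^ 3 - 1 := by
      have hq := two_le_of_card three_ne_zero hK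
      obtain ⟨r, rfl⟩ := Nat.exists_eq_add_of_le (show 1 ≤ q by omega)
      rw [Nat.add_sub_cancel_left]
      refine Nat.eq_sub_of_add_eq ?_
      ring
    obtain ⟨u, hu0, hu⟩ := norm_surj three_ne_zero hK hN (inv_ne_zero ht')
      (by rw [inv_pow, (mem_fix hφ).1 t.2])
    have h := hs (0 : Fin 2) (1 : Fin 2) ⟨u, trivial⟩
      (fun e => hu0 (congrArg Subtype.val e)) t
      ((inv_inv (t : K)).symm.trans ((congrArg (·⁻¹) hu.symm).trans (chi_val hφ hK _).symm))
    rw [chi_val hφ hK, h0] at h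
    rw [h, ← map_pow, hu, map_inv₀, inv_inv]
  refine ⟨f, fun i t => ?_⟩
  fin_cases i
  · exact h0 t
  · exact h1 t

theorem faithful (f f' : RingAut K) (h : ∀ i (t : (spec hφ hK).k i), f (t : K) = f' t) : f = f' :=
  RingEquiv.ext fun t => h (0 : Fin 2) ⟨t, trivial⟩

include hφ hK in
theorem card_out {p f : ℕ} [Fact p.Prime] [CharP K p] (hq : q = p ^ f) (hf : 1 ≤ f) :
    Nat.card (Cfsg.Out ↥(twistedD4 K q)) = 3 * f := by
  have h := Auts.card_out (Spec.auts (spec hφ hK) (rigid hφ hK) (glue hφ hK) (faithful hφ hK))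
  have hA : Nat.card (RingAut K) = 3 * f :=
    ChevAut.card_ringAut (p := p) (f := 3 * f) (by omega)
      (by rw [hK, hq, ← pow_mul, mul_comm])
  have hH : Nat.card ↥(model hφ hK).tw.H = (q - 1) ^ 2 * (q ^ 2 + q + 1) := by
    rw [(model hφ hK).tw_H, ← (model hφ hK).card_inf_eq]
    exact Twist.D4.card_H hφ hK
  have hu : ∀ L : Subfield K, Nat.card Lˣ = Nat.card L - 1 := fun L => Nat.card_units L
  have hC : Nat.card (∀ i : Fin 2, (kf φ i)ˣ) = (q - 1) ^ 2 * (q ^ 2 + q + 1) := by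
    rw [Nat.card_pi, Fin.prod_univ_two, hu, hu]
    show (Nat.card (⊤ : Subfield K) - 1) *
      (Nat.card (RingHom.eqLocusField φ (RingHom.id K)) - 1) = _
    rw [card_top, card_fix hφ three_ne_zero hK, Nat.card_eq_fintype_card, hK]
    have hq2 := two_le_of_card three_ne_zero hK
    obtain ⟨r, rfl⟩ := Nat.exists_eq_add_of_le (show 1 ≤ q by omega)
    have : (1 + r) ^ 3 - 1 = ((1 + r) ^ 2 + (1 + r) + 1) * r := by
      refine Nat.sub_eq_of_eq_add ?_
      ring
    rw [this, Nat.add_sub_cancel_left]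
    ring
  change Nat.card (Cfsg.Out ↥(twistedD4 K q)) * Nat.card ↥(model hφ hK).tw.H =
    Nat.card (RingAut K) * Nat.card (∀ i : Fin 2, (kf φ i)ˣ) at h
  rw [hA, hC, ← hH] at h
  exact Nat.eq_of_mul_eq_mul_right (Nat.card_pos (α := ↥(model hφ hK).tw.H)) h

end Cfsg.Agent.H56.TwAut.D4
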