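import Cfsg.Agent.H56.ChevAut.Rank1
import Cfsg.Agent.H37.Twist.Sigma

/-!
Products over a set of pairwise orthogonal fundamental roots of root elements, of their negatives and
of the corresponding monomial elements.
-/
set_option autoImplicit false

namespace Cfsg.Agent.H56.TwAut

open Cfsg.Lie Cfsg.Agent.H37 Cfsg.Agent.H37.RootSys Cfsg.Agent.H56.ChevAut

/-- The check that two fundamental roots are orthogonal. -/
def orthSB (D : ChevalleyDatum) (a b : ℕ) : Bool :=
  (D.commTerms (D.simple a) (D.simple b)).isEmpty &&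
    (D.commTerms (D.neg (D.simple a)) (D.neg (D.simple b))).isEmpty &&
    (D.cartan a (D.simple b) == 0)

variable {D : ChevalleyDatum} {K : Type*} [Field K] (S : Setup D K)

/-- Orthogonality of all pairs in a list. -/
def OrthList (D : ChevalleyDatum) (L : List (Fin D.rank)) : Prop :=
  L.Nodup ∧ ∀ a ∈ L, ∀ b ∈ L, a ≠ b → orthSB D a b = true

theorem OrthList.tail {a : Fin D.rank} {L : List (Fin D.rank)} (h : OrthList D (a :: L)) :
    OrthList D L :=
  ⟨(List.nodup_cons.1 h.1).2, fun b hb c hc =>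
    h.2 b (List.mem_cons_of_mem _ hb) c (List.mem_cons_of_mem _ hc)⟩

theorem OrthList.head_ne {a : Fin D.rank} {L : List (Fin D.rank)} (h : OrthList D (a :: L))
    {b : Fin D.rank} (hb : b ∈ L) : a ≠ b ∧ orthSB D a b = true := by
  have hne : a ≠ b := fun e => (List.nodup_cons.1 h.1).1 (e ▸ hb)
  exact ⟨hne, h.2 a List.mem_cons_self b (List.mem_cons_of_mem _ hb) hne⟩

/-- The product of positive root elements. -/
def px (L : List (Fin D.rank)) (p : Fin D.rank → K) : ↥(D.group K) :=
  (L.map fun a => S.xs a (p a)).prod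

/-- The product of negative root elements. -/
def py (L : List (Fin D.rank)) (p : Fin D.rank → K) : ↥(D.group K) :=
  (L.map fun a => S.ys a (p a)).prod

/-- The product of monomial elements. -/
def pn (L : List (Fin D.rank)) (p : Fin D.rank → K) : ↥(D.group K) :=
  (L.map fun a => S.nt a (p a)).prod

include S in
theorem comm_facts {a b : Fin D.rank} (hab : a ≠ b) (h : orthSB D a b = true) (t u : K) :
    Commute (S.xs a t) (S.xs b u) ∧ Commute (S.ys a t) (S.ys b u) ∧
      Commute (S.xs a t) (S.ys b u) ∧ Commute (S.ys a t) (S.xs b u) := by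
  simp only [orthSB, Bool.and_eq_true, List.isEmpty_iff, beq_iff_eq] at h
  have ha := S.simple_lt a
  have hb := S.simple_lt b
  have hna := S.Q.K.neg_lt ha
  have hnb := S.Q.K.neg_lt hb
  have pa := S.simple_pos a
  have pb := S.simple_pos b
  have na := S.neg_simple_neg a
  have nb := S.neg_simple_neg b
  refine ⟨Subtype.ext ?_, Subtype.ext ?_, S.xs_comm_ys hab t u, (S.xs_comm_ys hab.symm u t).symm⟩
  · show S.Q.K.xU K (D.simple a) t * S.Q.K.xU K (D.simple b) u = _
    have := S.Q.K.xU_comm K ha hb (fun e => hab (S.simple_inj e).symm) (by omega) t u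
    rw [ChevalleyDatum.commWord, h.1.1, List.map_nil, S.Q.K.wU_nil, mul_one] at this
    exact this.symm
  · show S.Q.K.xU K (D.neg (D.simple a)) t * S.Q.K.xU K (D.neg (D.simple b)) u = _
    have := S.Q.K.xU_comm K hna hnb (fun e => hab (S.simple_inj (by
      rw [← S.Q.K.neg_neg ha, ← e, S.Q.K.neg_neg hb]))) (by rw [S.Q.K.neg_neg ha]; omega) t u
    rw [ChevalleyDatum.commWord, h.1.2, List.map_nil, S.Q.K.wU_nil, mul_one] at this
    exact this.symm

theorem comm_px {a : Fin D.rank} {L : List (Fin D.rank)} (h : OrthList D (a :: L))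
    (p : Fin D.rank → K) (t : K) :
    Commute (S.xs a t) (px S L p) ∧ Commute (S.ys a t) (px S L p) :=
  ⟨Commute.list_prod_right _ _ fun z hz => by
      obtain ⟨b, hb, rfl⟩ := List.mem_map.1 hz
      exact (comm_facts S (h.head_ne hb).1 (h.head_ne hb).2 t _).1,
    Commute.list_prod_right _ _ fun z hz => by
      obtain ⟨b, hb, rfl⟩ := List.mem_map.1 hz
      exact (comm_facts S (h.head_ne hb).1 (h.head_ne hb).2 t _).2.2.2⟩

theorem comm_py {a : Fin D.rank} {L : List (Fin D.rank)} (h : OrthList D (a :: L))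
    (p : Fin D.rank → K) (t : K) :
    Commute (S.xs a t) (py S L p) ∧ Commute (S.ys a t) (py S L p) :=
  ⟨Commute.list_prod_right _ _ fun z hz => by
      obtain ⟨b, hb, rfl⟩ := List.mem_map.1 hz
      exact (comm_facts S (h.head_ne hb).1 (h.head_ne hb).2 t _).2.2.1,
    Commute.list_prod_right _ _ fun z hz => by
      obtain ⟨b, hb, rfl⟩ := List.mem_map.1 hz
      exact (comm_facts S (h.head_ne hb).1 (h.head_ne hb).2 t _).2.1⟩

theorem comm_nt {a : Fin D.rank} {L : List (Fin D.rank)} (h : OrthList D (a :: L))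
    (p : Fin D.rank → K) (t : K) :
    Commute (S.nt a t) (px S L p) ∧ Commute (S.nt a t) (py S L p) :=
  ⟨(((comm_px S h p t).1).mul_left (comm_px S h p _).2).mul_left (comm_px S h p t).1,
    (((comm_py S h p t).1).mul_left (comm_py S h p _).2).mul_left (comm_py S h p t).1⟩

theorem px_congr {L : List (Fin D.rank)} {p p' : Fin D.rank → K} (h : ∀ a ∈ L, p a = p' a) :
    px S L p = px S L p' :=
  congrArg List.prod (List.map_congr_left fun a ha => by rw [h a ha])

theorem py_congr {L : List (Fin D.rank)} {p p' : Fin D.rank → K} (h : ∀ a ∈ L, p a = p' a) :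
    py S L p = py S L p' :=
  congrArg List.prod (List.map_congr_left fun a ha => by rw [h a ha])

theorem px_cons (a : Fin D.rank) (L : List (Fin D.rank)) (p : Fin D.rank → K) :
    px S (a :: L) p = S.xs a (p a) * px S L p := List.prod_cons

theorem py_cons (a : Fin D.rank) (L : List (Fin D.rank)) (p : Fin D.rank → K) :
    py S (a :: L) p = S.ys a (p a) * py S L p := List.prod_cons

theorem pn_cons (a : Fin D.rank) (L : List (Fin D.rank)) (p : Fin D.rank → K) :
    pn S (a :: L) p = S.nt a (p a) * pn S L p := List.prod_cons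

theorem map_px (φ : ↥(D.group K) →* ↥(D.group K)) {L : List (Fin D.rank)} {p p' : Fin D.rank → K}
    (h : ∀ a ∈ L, φ (S.xs a (p a)) = S.xs a (p' a)) : φ (px S L p) = px S L p' := by
  rw [px, map_list_prod, List.map_map]
  exact congrArg List.prod (List.map_congr_left h)

theorem map_py (φ : ↥(D.group K) →* ↥(D.group K)) {L : List (Fin D.rank)} {p p' : Fin D.rank → K}
    (h : ∀ a ∈ L, φ (S.ys a (p a)) = S.ys a (p' a)) : φ (py S L p) = py S L p' := by
  rw [py, map_list_prod, List.map_map]
  exact congrArg List.prod (List.map_congr_left h)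

theorem px_add {L : List (Fin D.rank)} (hL : OrthList D L) (p p' : Fin D.rank → K) :
    px S L p * px S L p' = px S L (fun a => p a + p' a) := by
  induction L with
  | nil => simp [px]
  | cons a l ih =>
    rw [px_cons, px_cons, px_cons, ← ih hL.tail, ← S.xs_add]
    have := (comm_px S hL p (p' a)).1.eq
    calc S.xs a (p a) * px S l p * (S.xs a (p' a) * px S l p')
        = S.xs a (p a) * (px S l p * S.xs a (p' a)) * px S l p' := by group
      _ = _ := by rw [← this]; group

theorem py_add {L : List (Fin D.rank)} (hL : OrthList D L) (p p' : Fin D.rank → K) :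
    py S L p * py S L p' = py S L (fun a => p a + p' a) := by
  induction L with
  | nil => simp [py]
  | cons a l ih =>
    rw [py_cons, py_cons, py_cons, ← ih hL.tail, ← S.ys_add]
    have := (comm_py S hL p (p' a)).2.eq
    calc S.ys a (p a) * py S l p * (S.ys a (p' a) * py S l p')
        = S.ys a (p a) * (py S l p * S.ys a (p' a)) * py S l p' := by group
      _ = _ := by rw [← this]; group

theorem pn_eq {L : List (Fin D.rank)} (hL : OrthList D L) (p : Fin D.rank → K) :
    px S L p * py S L (fun a => -(p a)⁻¹) * px S L p = pn S L p := by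
  induction L with
  | nil => simp [px, py, pn]
  | cons a l ih =>
    rw [px_cons, py_cons, pn_cons, ← ih hL.tail, Setup.nt]
    set X := px S l p
    set Y := py S l (fun a => -(p a)⁻¹)
    have c1 := (comm_px S hL p (-(p a)⁻¹)).2.eq
    have c2 : Commute (S.xs a (p a)) (X * Y) :=
      (comm_px S hL p (p a)).1.mul_right (comm_py S hL _ (p a)).1
    calc S.xs a (p a) * X * (S.ys a (-(p a)⁻¹) * Y) * (S.xs a (p a) * X)
        = S.xs a (p a) * (X * S.ys a (-(p a)⁻¹)) * Y * S.xs a (p a) * X := by group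
      _ = S.xs a (p a) * S.ys a (-(p a)⁻¹) * ((X * Y) * S.xs a (p a)) * X := by
          rw [← c1]; simp only [X]; group
      _ = _ := by rw [← c2.eq]; group

theorem ns_conj_xs' (a : Fin D.rank) (t : K) :
    S.nt a 1 * S.xs a t * (S.nt a 1)⁻¹ = S.ys a (-t) := by
  have e : S.nt a 1 = S.ns a := by rw [Setup.nt, inv_one, S.ns_word]
  rw [e]
  refine Subtype.ext ?_
  show S.Q.K.nS K a * S.Q.K.xU K (D.simple a) t * (S.Q.K.nS K a)⁻¹ = _
  rw [S.Q.K.nS_conj_xU K a.isLt (S.simple_lt a), S.Q.K.sg_simple a a.isLt,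
    ← sigma_eq_w S.Q.X.good S.Q.K (S.Q.rank_eq ▸ a.isLt) (S.simple_lt a),
    neg_simple_eq S.Q.X.good S.Q.K (S.Q.rank_eq ▸ a.isLt), Int.cast_neg, Int.cast_one, neg_one_mul]
  rfl

theorem pn_conj {L : List (Fin D.rank)} (hL : OrthList D L) (p : Fin D.rank → K) :
    pn S L (fun _ => 1) * px S L p * (pn S L (fun _ => 1))⁻¹ = py S L (fun a => -(p a)) := by
  induction L with
  | nil => simp [px, py, pn]
  | cons a l ih =>
    rw [px_cons, py_cons, pn_cons, ← ih hL.tail, ← ns_conj_xs']
    set N := pn S l (fun _ => 1)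
    set n := S.nt a 1
    set x := S.xs a (p a)
    set Z := px S l p
    have c1 : Commute x N := Commute.list_prod_right _ _ fun z hz => by
      obtain ⟨b, hb, rfl⟩ := List.mem_map.1 hz
      obtain ⟨hne, ho⟩ := hL.head_ne hb
      exact ((comm_facts S hne ho _ _).1.mul_right (comm_facts S hne ho _ _).2.2.1).mul_right
        (comm_facts S hne ho _ _).1
    have c3 : Commute n (N * Z * N⁻¹) := by
      rw [ih hL.tail]
      exact (comm_nt S hL _ 1).2
    calc n * N * (x * Z) * (n * N)⁻¹ = n * (N * x) * Z * N⁻¹ * n⁻¹ := by group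
      _ = n * x * (N * Z * N⁻¹) * n⁻¹ := by rw [← c1.eq]; group
      _ = n * x * n⁻¹ * (n * (N * Z * N⁻¹) * n⁻¹) := by group
      _ = _ := by rw [c3.eq, mul_inv_cancel_right]

theorem nt_mem_H_ns (a : Fin D.rank) {t : K} (ht : t ≠ 0) :
    ∃ h ∈ S.Q.amb.H, S.nt a t = h * S.ns a := by
  refine ⟨S.ht a t, S.ht_mem_H a ht, Subtype.ext ?_⟩
  rw [Subgroup.coe_mul, S.coe_nt, S.coe_ht]
  exact nU_eq_hU_nS S.Q.K t

theorem pn_mem {L : List (Fin D.rank)} (p : Fin D.rank → K) (hp : ∀ a ∈ L, p a ≠ 0) :
    ∃ h ∈ S.Q.amb.H,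
      pn S L p = h * S.Q.amb.n (Weyl.wOf S.Q.X.M (L.map fun a => a.val)) := by
  induction L with
  | nil => exact ⟨1, one_mem _, by simp [pn, Weyl.wOf, S.Q.amb.n_one]⟩
  | cons a l ih =>
    obtain ⟨h, hh, e⟩ := ih fun b hb => hp b (List.mem_cons_of_mem _ hb)
    obtain ⟨k, hk, ek⟩ := nt_mem_H_ns S a (hp a List.mem_cons_self)
    obtain ⟨k', hk', ek'⟩ := S.Q.amb.n_mul (S.sref a) (Weyl.wOf S.Q.X.M (l.map fun a => a.val))
    have hw : S.sref a * Weyl.wOf S.Q.X.M (l.map fun a => a.val)
        = Weyl.wOf S.Q.X.M ((a :: l).map fun a => a.val) := by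
      simp only [List.map_cons, Weyl.wOf, List.prod_cons, Setup.sref]
      congr 1
      exact (Twist.Sigma.gen_fin (Fin.cast S.Q.rank_eq a)).symm
    refine ⟨k * (S.Q.amb.n (S.sref a) * h * (S.Q.amb.n (S.sref a))⁻¹) * k',
      mul_mem (mul_mem hk (S.Q.amb.n_conj_H _ _ hh)) hk', ?_⟩
    rw [pn_cons, ek, e, ← hw, ← S.rep_sref]
    conv_rhs => rw [mul_assoc _ k', ← ek']
    group

theorem pn_torus {L : List (Fin D.rank)} (hL : OrthList D L) (t : Fin D.rank → Kˣ)
    (b : Fin D.rank) (u : K) :
    (pn S L (fun a => (t a : K)) * pn S L (fun _ => -1)) * S.xs b u *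
        (pn S L (fun a => (t a : K)) * pn S L (fun _ => -1))⁻¹ =
      S.xs b ((((L.map fun a : Fin D.rank => t a ^ D.cartan a (D.simple b)).prod : Kˣ) : K) * u) := by
  induction L generalizing u with
  | nil => simp [pn]
  | cons a l ih =>
    rw [pn_cons, pn_cons, List.map_cons, List.prod_cons]
    have c : Commute (S.nt a (-1)) (pn S l fun a => (t a : K)) :=
      Commute.list_prod_right _ _ fun z hz => by
        obtain ⟨d, hd, rfl⟩ := List.mem_map.1 hz
        obtain ⟨hne, ho⟩ := hL.head_ne hd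
        have f := comm_facts S hne ho
        exact (((f _ _).1.mul_left (f _ _).2.2.2).mul_left (f _ _).1 |>.mul_right
          (((f _ _).2.2.1.mul_left (f _ _).2.1).mul_left (f _ _).2.2.1)).mul_right
          (((f _ _).1.mul_left (f _ _).2.2.2).mul_left (f _ _).1)
    set N := pn S l fun a => (t a : K)
    set M := pn S l fun _ => (-1 : K)
    have e : S.nt a (t a : K) * N * (S.nt a (-1) * M) = S.ht a (t a : K) * (N * M) := by
      calc S.nt a (t a : K) * N * (S.nt a (-1) * M)
          = S.nt a (t a : K) * (N * S.nt a (-1)) * M := by group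
        _ = _ := by rw [← c.eq, Setup.ht]; group
    rw [e, show S.ht a (t a : K) * (N * M) * S.xs b u * (S.ht a (t a : K) * (N * M))⁻¹
      = S.ht a (t a : K) * (N * M * S.xs b u * (N * M)⁻¹) * (S.ht a (t a : K))⁻¹ by group,
      ih hL.tail, S.ht_conj_xs, ← mul_assoc, Units.val_mul]

theorem xs_one_of_comm {a : Fin D.rank} {t : K} {z : ↥(D.group K)} (hz : z ∈ S.Q.amb.U)
    (hn : Commute (S.nt a 1) z) (he : S.xs a t = z) : t = 0 := by
  have h1 := ns_conj_xs' S a t
  rw [he, hn.eq, mul_inv_cancel_right] at h1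
  exact S.xs_injective a ((he.trans (U_inter_V S.Q.amb S.opp hz (h1 ▸ S.ys_mem_V a _))).trans
    (S.xs_zero a).symm)

theorem ys_one_of_comm {a : Fin D.rank} {t : K} {z : ↥(D.group K)} (hz : z ∈ S.V)
    (hn : Commute (S.nt a 1) z) (he : S.ys a t = z) : t = 0 := by
  have h1 := ns_conj_xs' S a (-t)
  rw [neg_neg, he] at h1
  have h2 : S.xs a (-t) = z :=
    mul_left_cancel (mul_right_cancel (h1.trans (by rw [hn.eq, mul_inv_cancel_right])))
  exact S.ys_injective a ((he.trans (U_inter_V S.Q.amb S.opp (h2 ▸ S.xs_mem_U a _) hz)).trans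
    (S.ys_zero a).symm)

theorem px_inj {L : List (Fin D.rank)} (hL : OrthList D L) {p p' : Fin D.rank → K}
    (h : px S L p = px S L p') : ∀ a ∈ L, p a = p' a := by
  induction L with
  | nil => simp
  | cons a l ih =>
    rw [px_cons, px_cons] at h
    have hU : ∀ q : Fin D.rank → K, px S l q ∈ S.Q.amb.U := fun q => list_prod_mem fun z hz => by
      obtain ⟨b, -, rfl⟩ := List.mem_map.1 hz
      exact S.xs_mem_U b _
    have e : S.xs a (-(p' a) + p a) = px S l p' * (px S l p)⁻¹ := by
      rw [← S.xs_add, ← S.xs_inv]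
      calc (S.xs a (p' a))⁻¹ * S.xs a (p a)
          = (S.xs a (p' a))⁻¹ * (S.xs a (p a) * px S l p) * (px S l p)⁻¹ := by group
        _ = _ := by rw [h]; group
    have h0 := xs_one_of_comm S (mul_mem (hU p') (inv_mem (hU p)))
      ((comm_nt S hL p' 1).1.mul_right (comm_nt S hL p 1).1.inv_right) e
    have ha : p a = p' a := by linear_combination h0
    rw [ha] at h
    intro b hb
    rcases List.mem_cons.1 hb with rfl | hb
    · exact ha
    · exact ih hL.tail (mul_left_cancel h) b hb

theorem py_inj {L : List (Fin D.rank)} (hL : OrthList D L) {p p' : Fin D.rank → K}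
    (h : py S L p = py S L p') : ∀ a ∈ L, p a = p' a := by
  induction L with
  | nil => simp
  | cons a l ih =>
    rw [py_cons, py_cons] at h
    have hV : ∀ q : Fin D.rank → K, py S l q ∈ S.V := fun q => list_prod_mem fun z hz => by
      obtain ⟨b, -, rfl⟩ := List.mem_map.1 hz
      exact S.ys_mem_V b _
    have e : S.ys a (-(p' a) + p a) = py S l p' * (py S l p)⁻¹ := by
      rw [← S.ys_add, ← S.ys_inv]
      calc (S.ys a (p' a))⁻¹ * S.ys a (p a)
          = (S.ys a (p' a))⁻¹ * (S.ys a (p a) * py S l p) * (py S l p)⁻¹ := by group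
        _ = _ := by rw [h]; group
    have h0 := ys_one_of_comm S (mul_mem (hV p') (inv_mem (hV p)))
      ((comm_nt S hL p' 1).2.mul_right (comm_nt S hL p 1).2.inv_right) e
    have ha : p a = p' a := by linear_combination h0
    rw [ha] at h
    intro b hb
    rcases List.mem_cons.1 hb with rfl | hb
    · exact ha
    · exact ih hL.tail (mul_left_cancel h) b hb

end Cfsg.Agent.H56.TwAut
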