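import Cfsg.Agent.H56.TwAut.Pieces
import Cfsg.Agent.H56.TwAut.TwBasic
import Cfsg.Agent.H56.TwAut.Orbits
import Cfsg.Agent.H56.ChevAut.Out
import Cfsg.Agent.H56.ChevAut.Std
import Cfsg.Agent.H37.Twist.F4

/-!
The root groups, the torus and the representatives of `²F₄(q)`.
-/
set_option autoImplicit false
set_option maxRecDepth 100000

namespace Cfsg.Agent.H56.TwAut.F4

open Cfsg.Lie Cfsg.Agent.H37 Cfsg.Agent.H37.RootSys Cfsg.Agent.H37.Twist Cfsg.Agent.H56.ChevAut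
open Cfsg.Agent.H37.Twist.F4

variable {K : Type*} [Field K]

/-- The data of the Chevalley group. -/
noncomputable def su (K : Type*) [Field K] : Setup chevF4 K :=
  ⟨Chev.dataF4 K, facts_F4, Chev.sup_of_check Chev.supB_F4⟩

/-- The orbit of two orthogonal nodes. -/
def L0 : List (Fin chevF4.rank) := ([0, 3] : List (Fin 4))

theorem orth_L0 : OrthList chevF4 L0 := by
  have h : (decide L0.Nodup &&
      (L0.all fun a => L0.all fun b => (a == b) || orthSB chevF4 a.val b.val)) = true :=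
    show (decide ([0, 3] : List (Fin 4)).Nodup && (([0, 3] : List (Fin 4)).all fun a =>
      ([0, 3] : List (Fin 4)).all fun b => (a == b) || orthSB chevF4 a.val b.val)) = true by
        decide +kernel
  simp only [Bool.and_eq_true, decide_eq_true_eq, List.all_eq_true, Bool.or_eq_true, beq_iff_eq] at h
  exact ⟨h.1, fun a ha b hb hne => (h.2 a ha b hb).resolve_left hne⟩

/-- The parameters on the orbit. -/
def par (φ : K →+* K) (t : K) (a : Fin chevF4.rank) : K := if a.val = 0 then φ t else t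

theorem px_par (φ : K →+* K) (t : K) :
    px (su K) L0 (par φ t) = xe 33 (φ t) * xe 24 t := by
  obtain ⟨s0, -, -, s3, -⟩ := simple_ok
  show xe (chevF4.simple 0) _ * (xe (chevF4.simple 3) _ * 1) = _
  rw [s0, s3, mul_one]
  rfl

theorem py_par (φ : K →+* K) (t : K) :
    py (su K) L0 (par φ t) = xe 14 (φ t) * xe 23 t := by
  obtain ⟨s0, -, -, s3, n0, n3, -⟩ := simple_ok
  show xe (chevF4.neg (chevF4.simple 0)) _ * (xe (chevF4.neg (chevF4.simple 3)) _ * 1) = _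
  rw [s0, s3, n0, n3, mul_one]
  rfl

theorem w0_act : ∀ r : Fin 48,
    Weyl.certF4.act (Chev.longWord Weyl.certF4 4) r.val = 47 - r.val := by decide +kernel

theorem w0_val {r : ℕ} (hr : r < chevF4.nroots) :
    ((QD K).X.good.hom (QD K).X.w0 ⟨r, hr⟩).val = 47 - r := by
  have h2 := (QD K).X.extra
  simp only [Chev.extraB, Bool.and_eq_true, List.all_eq_true, decide_eq_true_eq] at h2
  rw [Chev.TypeData.w0, (QD K).X.good.hom_wOf_val h2.1.1.2]
  exact w0_act ⟨r, hr⟩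

theorem w0_comm (w : (QD K).X.M.Group) : w * (QD K).X.w0 = (QD K).X.w0 * w := by
  refine (QD K).X.good.hom_injective (Equiv.ext fun r => Fin.ext ?_)
  rw [map_mul, map_mul, Equiv.Perm.mul_apply, Equiv.Perm.mul_apply]
  have e : (QD K).X.good.hom (QD K).X.w0 r =
      ⟨chevF4.nroots - 1 - r.val, by have := r.isLt; omega⟩ :=
    Fin.ext (w0_val r.isLt)
  rw [e, w0_val (Fin.isLt _)]
  exact (QD K).X.good.hom_neg w r

variable [Fintype K] [CharP K 2] {φ : K →+* K} {m : ℕ}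

section

variable (hφ : ∀ t, φ t = t ^ 2 ^ m) (hK : Fintype.card K = 2 ^ (2 * m + 1))

/-- The model. -/
noncomputable abbrev Md : Model (fold φ) := model hφ hK

/-- The group. -/
abbrev GT : Type _ := ↥(model hφ hK).T

theorem flip_tw : Flip (Md hφ hK).tw (Md hφ hK).w0 := by
  refine ⟨tw_opp _, fun w b hb => ?_⟩
  obtain ⟨k, hk, e⟩ := lift_n (Md hφ hK) w
  rw [mem_Vopp', lift_mul, lift_mul, lift_inv, e]
  have h1 := (QD K).sys.flip_conj ((fold φ).ι w) ((mem_Uw (Md hφ hK)).1 hb)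
  have h2 : (su K).Q.amb.n ((fold φ).ι w) * lift (Md hφ hK) b * ((su K).Q.amb.n ((fold φ).ι w))⁻¹
      ∈ Vopp (su K).Q.amb (su K).Q.X.w0 := by
    show _ ∈ (su K).V
    rw [(su K).V_eq]
    exact h1
  have h3 := H_conj_Vopp (A := (su K).Q.amb) hk h2
  show _ ∈ Vopp (su K).Q.amb (su K).Q.X.w0
  convert h3 using 1
  show k * (su K).Q.amb.n ((fold φ).ι w) * lift (Md hφ hK) b *
    (k * (su K).Q.amb.n ((fold φ).ι w))⁻¹ = _
  group

/-- The root elements of the first orbit. -/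
def x0 (t : K) : GT hφ hK :=
  ⟨(xe 33 (φ t) * xe 24 t : ↥(chevF4.group K)).1, pair_mem hφ (by simp) t⟩

/-- The negative root elements of the first orbit. -/
def y0 (t : K) : GT hφ hK :=
  ⟨(xe 14 (φ t) * xe 23 t : ↥(chevF4.group K)).1, pair_mem hφ (by simp) t⟩

/-- The root elements of the class of type `B₂`. -/
def x1 (t c : K) : GT hφ hK := ⟨(pr pc φ t c : ↥(chevF4.group K)).1, pr_mem hφ t c⟩

include hφ in
theorem pr_nc_mem (t c : K) :
    ((pr nc φ t c : ↥(chevF4.group K)) : GL chevF4.Idx K) ∈ twistedF4 K (2 ^ m) := by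
  rw [← wG_b2 hφ (by simp)]
  exact wG_mem (Q := QD K) (Or.inr ⟨t, c, Or.inr rfl⟩)

/-- The negative root elements of the class of type `B₂`. -/
def y1 (t c : K) : GT hφ hK := ⟨(pr nc φ t c : ↥(chevF4.group K)).1, pr_nc_mem hφ t c⟩

theorem lift_x0 (t : K) : lift (Md hφ hK) (x0 hφ hK t) = px (su K) L0 (par φ t) :=
  (px_par φ t).symm

theorem lift_y0 (t : K) : lift (Md hφ hK) (y0 hφ hK t) = py (su K) L0 (par φ t) :=
  (py_par φ t).symm

theorem lift_x1 (t c : K) : lift (Md hφ hK) (x1 hφ hK t c) = pr pc φ t c := rfl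

theorem lift_y1 (t c : K) : lift (Md hφ hK) (y1 hφ hK t c) = pr nc φ t c := rfl

omit [Fintype K] [CharP K 2] in
theorem par_add (t u : K) (a : Fin chevF4.rank) : par φ (t + u) a = par φ t a + par φ u a := by
  unfold par; split_ifs <;> simp

theorem x0_add (t u : K) : x0 hφ hK t * x0 hφ hK u = x0 hφ hK (t + u) :=
  lift_injective _ (by
    rw [lift_mul, lift_x0, lift_x0, lift_x0, px_add (su K) orth_L0]
    exact px_congr _ fun a _ => (par_add t u a).symm)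

theorem x0_zero : x0 hφ hK 0 = 1 := mul_eq_left.1 ((x0_add hφ hK 0 0).trans (by rw [add_zero]))

theorem x0_inj : Function.Injective (x0 hφ hK) := fun t u h => by
  have h1 := congrArg (lift (Md hφ hK)) h
  rw [lift_x0, lift_x0] at h1
  exact px_inj (su K) orth_L0 h1 (3 : Fin 4) (show (3 : Fin 4) ∈ ([0, 3] : List (Fin 4)) by decide)

theorem y0_inj : Function.Injective (y0 hφ hK) := fun t u h => by
  have h1 := congrArg (lift (Md hφ hK)) h
  rw [lift_y0, lift_y0] at h1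
  exact py_inj (su K) orth_L0 h1 (3 : Fin 4) (show (3 : Fin 4) ∈ ([0, 3] : List (Fin 4)) by decide)

theorem card_Uw (i : Fin 2) : Nat.card ((Md hφ hK).tw.Uw ((fold φ).gens i)) ^ 2
    = Nat.card K ^ (if i = 0 then 2 else 4) :=
  ((Md hφ hK).card_tw_Uw _).trans (by rw [← inv_gen (φ := φ) i])

theorem x0_mem (t : K) : x0 hφ hK t ∈ (Md hφ hK).tw.Uw ((fold φ).gens (0 : Fin 2)) := by
  refine (mem_Uw (Md hφ hK)).2 ?_
  show xe 33 (φ t) * xe 24 t ∈ (QD K).sys.Uw _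
  rw [ι_gen0, Sys.Uw, flip_word (QD K).X.good (show ∀ a ∈ [0, 3], a < (QD K).X.n by
    show ∀ a ∈ [0, 3], a < 4; decide),
    show flipList (QD K).X.C chevF4 [0, 3] = [24, 33] from flip_ok.2]
  exact mul_mem (x_mem_XS (by simp) _) (x_mem_XS (by simp) _)

theorem exists_x0 {g : GT hφ hK} (hg : g ∈ (Md hφ hK).tw.Uw ((fold φ).gens (0 : Fin 2))) :
    ∃ t, g = x0 hφ hK t := by
  let f : K → (Md hφ hK).tw.Uw ((fold φ).gens (0 : Fin 2)) := fun t => ⟨_, x0_mem hφ hK t⟩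
  have hc : Nat.card K = Nat.card ((Md hφ hK).tw.Uw ((fold φ).gens (0 : Fin 2))) :=
    Nat.pow_left_injective two_ne_zero ((card_Uw hφ hK 0).trans (by simp)).symm
  obtain ⟨t, ht⟩ := ((Nat.bijective_iff_injective_and_card f).2
    ⟨fun a b e => x0_inj hφ hK (congrArg Subtype.val e), hc⟩).2 ⟨g, hg⟩
  exact ⟨t, (congrArg Subtype.val ht).symm⟩

theorem x1_mem (t c : K) : x1 hφ hK t c ∈ (Md hφ hK).tw.Uw ((fold φ).gens (1 : Fin 2)) :=
  (mem_Uw (Md hφ hK)).2 (pr_Uw t c)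

theorem exists_x1 {g : GT hφ hK} (hg : g ∈ (Md hφ hK).tw.Uw ((fold φ).gens (1 : Fin 2))) :
    ∃ t c, g = x1 hφ hK t c := by
  obtain ⟨t, c, e⟩ := exists_pr ((mem_Uw (Md hφ hK)).1 hg) (le_fixed hφ hK _ g.2)
  exact ⟨t, c, lift_injective _ e⟩

theorem x1_inj {t c t' c' : K} (h : x1 hφ hK t c = x1 hφ hK t' c') : t = t' ∧ c = c' := by
  obtain ⟨h1, -, h3, -⟩ := four_inj (congrArg (lift (Md hφ hK)) h)
  exact ⟨h1, h3⟩

theorem even_ok : ∀ p ∈ [(25, 28), (25, 30), (27, 28), (27, 30)],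
    (p.2 ≠ p.1 ∧ p.2 ≠ chevF4.neg p.1 ∧ p.1 < chevF4.nroots ∧ p.2 < chevF4.nroots) ∧
      ∀ c ∈ chevF4.commTerms p.1 p.2, (2 : ℤ) ∣ c.2.1 := by decide +kernel

omit [Fintype K] in
theorem commute_top {r s : ℕ} (hp : (r, s) ∈ [(25, 28), (25, 30), (27, 28), (27, 30)]) (t u : K) :
    Commute (xe r t) (xe s u) := by
  obtain ⟨⟨h1, h2, h3, h4⟩, h⟩ := even_ok _ hp
  exact commute_coef h3 h4 h1 h2
    (fun c hc => (CharP.intCast_eq_zero_iff K 2 _).2 (by exact_mod_cast h c hc)) t u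

omit [Fintype K] in
theorem four_mul (T U c d T' U' c' d' : K) : four pc T U c d * four pc T' U' c' d' =
    four pc (T + T') (U + U') (c + c' + T' * U) (d + d' + T' * U ^ 2) := by
  have hA : ∀ x y u, Commute (xe 28 x * xe 30 y : ↥(chevF4.group K)) (xe 25 u) := fun x y u =>
    ((commute_top (by simp) u x).mul_right (commute_top (by simp) u y)).symm
  have hB : ∀ x y u, Commute (xe 28 x * xe 30 y : ↥(chevF4.group K)) (xe 27 u) := fun x y u =>
    ((commute_top (by simp) u x).mul_right (commute_top (by simp) u y)).symm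
  have hT : ∀ x y x' y', (xe 28 x * xe 30 y) * (xe 28 x' * xe 30 y') =
      (xe 28 (x + x') * xe 30 (y + y') : ↥(chevF4.group K)) := fun x y x' y' => by
    rw [xe_add (by decide), xe_add (by decide)]
    calc xe 28 x * xe 30 y * (xe 28 x' * xe 30 y')
        = xe 28 x * (xe 30 y * xe 28 x') * xe 30 y' := by group
      _ = _ := by
          rw [← (show Commute (xe 28 x' : ↥(chevF4.group K)) (xe 30 y) from
            top_commute (o := pc) (by simp) x' y).eq]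
          group
  have hs : xe 27 U * xe 25 T' = (xe 25 T' * xe 27 U * (xe 28 (T' * U) * xe 30 (T' * U ^ 2)) :
      ↥(chevF4.group K)) := swap (o := pc) (by simp) T' U
  show xe 25 T * xe 27 U * (xe 28 c * xe 30 d) * (xe 25 T' * xe 27 U' * (xe 28 c' * xe 30 d'))
    = xe 25 (T + T') * xe 27 (U + U') *
      (xe 28 (c + c' + T' * U) * xe 30 (d + d' + T' * U ^ 2))
  rw [xe_add (by decide) T, xe_add (by decide) U]
  calc xe 25 T * xe 27 U * (xe 28 c * xe 30 d) * (xe 25 T' * xe 27 U' * (xe 28 c' * xe 30 d'))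
      = xe 25 T * xe 27 U * (((xe 28 c * xe 30 d) * xe 25 T') * xe 27 U') *
          (xe 28 c' * xe 30 d') := by group
    _ = xe 25 T * (xe 27 U * xe 25 T') * ((xe 28 c * xe 30 d) * xe 27 U') *
          (xe 28 c' * xe 30 d') := by rw [(hA c d T').eq]; group
    _ = xe 25 T * xe 25 T' * xe 27 U * ((xe 28 (T' * U) * xe 30 (T' * U ^ 2)) * xe 27 U') *
          ((xe 28 c * xe 30 d) * (xe 28 c' * xe 30 d')) := by rw [hs, (hB c d U').eq]; group
    _ = xe 25 T * xe 25 T' * (xe 27 U * xe 27 U') * ((xe 28 (T' * U) * xe 30 (T' * U ^ 2)) *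
          (xe 28 (c + c') * xe 30 (d + d'))) := by rw [hT, (hB _ _ U').eq]; group
    _ = _ := by
      rw [hT]
      congr 3 <;> ring

theorem x1_mul (t c t' c' : K) :
    x1 hφ hK t c * x1 hφ hK t' c' = x1 hφ hK (t + t') (c + c' + t' * φ t) := by
  refine lift_injective _ ?_
  rw [lift_mul, lift_x1, lift_x1, lift_x1, pr, pr, four_mul, pr]
  have hθ := theta hφ hK
  congr 1
  · rw [map_add]
  · simp only [map_add, map_mul, CharTwo.add_sq, mul_pow, hθ]
    linear_combination (-(t * φ t' ^ 2)) * two_eq (K := K)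

theorem x1_zero : x1 hφ hK 0 0 = 1 := by
  refine mul_eq_left.1 ((x1_mul hφ hK 0 0 0 0).trans ?_)
  simp

/-- The parametrised torus. -/
noncomputable def hel (p : Kˣ × Kˣ) : GT hφ hK :=
  ⟨(tG (QD K) (hc m p.1 p.2) : ↥(chevF4.group K)).1,
    (model hφ hK).H_mem _ (tG_mem (QD K) _) (hc_fixed hφ hK p.1 p.2)⟩

theorem lift_hel (p : Kˣ × Kˣ) : lift (Md hφ hK) (hel hφ hK p) = tG (QD K) (hc m p.1 p.2) := rfl

theorem hel_mem (p : Kˣ × Kˣ) : hel hφ hK p ∈ (Md hφ hK).tw.H :=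
  (mem_H (Md hφ hK)).2 (tG_mem (QD K) _)

theorem exists_hel {g : GT hφ hK} (hg : g ∈ (Md hφ hK).tw.H) : ∃ p, g = hel hφ hK p := by
  obtain ⟨a, b, e⟩ := exists_hc hφ ((mem_H (Md hφ hK)).1 hg) (le_fixed hφ hK _ g.2)
  exact ⟨(a, b), lift_injective _ e⟩

end

/-- The character on the first root group. -/
def chi0 (p : Kˣ × Kˣ) : Kˣ := p.1 ^ 2 * p.2⁻¹

/-- The character on the first layer of the second root group. -/
def mu (m : ℕ) (p : Kˣ × Kˣ) : Kˣ := p.2 ^ 2 * ((p.2 ^ 2 ^ m) ^ 2)⁻¹ * p.1⁻¹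

theorem cartan_more : ∀ k : Fin 4,
    chevF4.cartan k.val 14 = -chevF4.cartan k.val 33 ∧
    chevF4.cartan k.val 23 = -chevF4.cartan k.val 24 ∧
    chevF4.cartan k.val 22 = -chevF4.cartan k.val 25 ∧
    chevF4.cartan k.val 20 = -chevF4.cartan k.val 27 ∧
    chevF4.cartan k.val 19 = -chevF4.cartan k.val 28 ∧
    chevF4.cartan k.val 17 = -chevF4.cartan k.val 30 ∧
    chevF4.cartan k.val 28 = chevF4.cartan k.val 25 + chevF4.cartan k.val 27 ∧
    chevF4.cartan k.val 30 = chevF4.cartan k.val 25 + 2 * chevF4.cartan k.val 27 := by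
  decide +kernel

omit [Fintype K] [CharP K 2] in
theorem chT_of_cartan (c : Fin chevF4.rank → Kˣ) :
    chT c 14 = (chT c 33)⁻¹ ∧ chT c 23 = (chT c 24)⁻¹ ∧ chT c 22 = (chT c 25)⁻¹ ∧
    chT c 20 = (chT c 27)⁻¹ ∧ chT c 19 = (chT c 28)⁻¹ ∧ chT c 17 = (chT c 30)⁻¹ ∧
    chT c 28 = chT c 25 * chT c 27 ∧ chT c 30 = chT c 25 * chT c 27 ^ 2 := by
  have hneg : ∀ r s : ℕ, (∀ k : Fin 4, chevF4.cartan k.val r = -chevF4.cartan k.val s) →
      chT c r = (chT c s)⁻¹ := fun r s h => by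
    rw [chT, chT, ← Finset.prod_inv_distrib]
    exact Finset.prod_congr rfl fun k _ => by rw [h (k : Fin 4), zpow_neg]
  refine ⟨hneg _ _ fun k => (cartan_more k).1, hneg _ _ fun k => (cartan_more k).2.1,
    hneg _ _ fun k => (cartan_more k).2.2.1, hneg _ _ fun k => (cartan_more k).2.2.2.1,
    hneg _ _ fun k => (cartan_more k).2.2.2.2.1, hneg _ _ fun k => (cartan_more k).2.2.2.2.2.1,
    ?_, ?_⟩
  · simp only [chT, ← Finset.prod_mul_distrib, ← zpow_add]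
    exact Finset.prod_congr rfl fun k _ => by rw [(cartan_more (k : Fin 4)).2.2.2.2.2.2.1]
  · simp only [chT, sq, ← Finset.prod_mul_distrib, ← zpow_add]
    exact Finset.prod_congr rfl fun k _ => by
      rw [(cartan_more (k : Fin 4)).2.2.2.2.2.2.2]; ring_nf

omit [Fintype K] [CharP K 2] in
theorem chT_hc (p : Kˣ × Kˣ) :
    chT (hc m p.1 p.2) 24 = chi0 p ∧
    chT (hc m p.1 p.2) 33 = (p.1 ^ 2 ^ m) ^ 2 * (p.2 ^ 2 ^ m)⁻¹ ∧
    chT (hc m p.1 p.2) 25 = mu m p := by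
  obtain ⟨a, -, d, e⟩ := cartan_ok
  simp only [List.cons.injEq, and_true] at a d e
  have h0 : hc m p.1 p.2 (0 : Fin 4) = p.1 ^ 2 ^ m := rfl
  have h1 : hc m p.1 p.2 (1 : Fin 4) = p.2 ^ 2 ^ m := rfl
  have h2 : hc m p.1 p.2 (2 : Fin 4) = p.2 := rfl
  have h3 : hc m p.1 p.2 (3 : Fin 4) = p.1 := rfl
  refine ⟨?_, ?_, ?_⟩
  · rw [chT_eq, e.1, e.2.1, e.2.2.1, e.2.2.2, h0, h1, h2, h3]
    simp [chi0, mul_comm]
  · rw [chT_eq, a.1, a.2.1, a.2.2.1, a.2.2.2, h0, h1, h2, h3]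
    simp
  · rw [chT_eq, d.1, d.2.1, d.2.2.1, d.2.2.2, h0, h1, h2, h3]
    simp [mu, mul_comm, mul_left_comm]

section

variable (hφ : ∀ t, φ t = t ^ 2 ^ m) (hK : Fintype.card K = 2 ^ (2 * m + 1))

theorem hel_x0 (p : Kˣ × Kˣ) (t : K) :
    hel hφ hK p * x0 hφ hK t * (hel hφ hK p)⁻¹ = x0 hφ hK ((chi0 p : K) * t) ∧
    hel hφ hK p * y0 hφ hK t * (hel hφ hK p)⁻¹ = y0 hφ hK (((chi0 p)⁻¹ : Kˣ) * t) := by
  obtain ⟨h24, h33, -⟩ := chT_hc (m := m) p
  obtain ⟨c14, c23, -⟩ := chT_of_cartan (hc m p.1 p.2)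
  have e33 : ((chT (hc m p.1 p.2) 33 : Kˣ) : K) = φ (chi0 p : K) := by
    rw [h33, chi0, hφ]
    push_cast [mul_pow, inv_pow, pow_right_comm (p.1 : K) 2 (2 ^ m)]
    rfl
  constructor
  · refine lift_injective _ ?_
    rw [lift_mul, lift_mul, lift_inv]
    show tG (QD K) (hc m p.1 p.2) * (xe 33 (φ t) * xe 24 t) * (tG (QD K) (hc m p.1 p.2))⁻¹
      = xe 33 (φ ((chi0 p : K) * t)) * xe 24 ((chi0 p : K) * t)
    rw [← MulAut.conj_apply, map_mul, MulAut.conj_apply, MulAut.conj_apply,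
      tG_conj (QD K) _ (by decide), tG_conj (QD K) _ (by decide), e33, h24, map_mul φ]
  · refine lift_injective _ ?_
    rw [lift_mul, lift_mul, lift_inv]
    show tG (QD K) (hc m p.1 p.2) * (xe 14 (φ t) * xe 23 t) * (tG (QD K) (hc m p.1 p.2))⁻¹
      = xe 14 (φ (((chi0 p)⁻¹ : Kˣ) * t)) * xe 23 (((chi0 p)⁻¹ : Kˣ) * t)
    rw [← MulAut.conj_apply, map_mul, MulAut.conj_apply, MulAut.conj_apply,
      tG_conj (QD K) _ (by decide), tG_conj (QD K) _ (by decide), c14, c23, h24, map_mul φ,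
      Units.val_inv_eq_inv_val, e33, Units.val_inv_eq_inv_val, map_inv₀]

include hφ hK in
theorem chT27 (p : Kˣ × Kˣ) : ((chT (hc m p.1 p.2) 27 : Kˣ) : K) = φ (mu m p : K) := by
  have hmem := (flip_tw hφ hK).H_conj_Uw _ (hel_mem hφ hK p) (x1_mem hφ hK 1 0)
  obtain ⟨t, c, e⟩ := exists_x1 hφ hK hmem
  have e' := congrArg (lift (Md hφ hK)) e
  rw [lift_mul, lift_mul, lift_inv, lift_hel, lift_x1, lift_x1, pr, four,
    ← MulAut.conj_apply] at e'
  simp only [map_mul, MulAut.conj_apply, pc] at e'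
  rw [tG_conj (QD K) _ (by decide), tG_conj (QD K) _ (by decide),
    tG_conj (QD K) _ (by decide), tG_conj (QD K) _ (by decide)] at e'
  obtain ⟨h5, h7, -⟩ := four_inj (show four pc _ _ _ _ = four pc _ _ _ _ from e')
  simp only [map_one, mul_one] at h5 h7
  rw [h7, ← h5, (chT_hc p).2.2]

theorem hel_x1 (p : Kˣ × Kˣ) (t c : K) :
    hel hφ hK p * x1 hφ hK t c * (hel hφ hK p)⁻¹ =
      x1 hφ hK ((mu m p : K) * t) ((mu m p : K) * φ (mu m p : K) * c) := by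
  have hmem := (flip_tw hφ hK).H_conj_Uw _ (hel_mem hφ hK p) (x1_mem hφ hK t c)
  obtain ⟨t', c', e⟩ := exists_x1 hφ hK hmem
  rw [e]
  have e' := congrArg (lift (Md hφ hK)) e
  rw [lift_mul, lift_mul, lift_inv, lift_hel, lift_x1, lift_x1, pr, four,
    ← MulAut.conj_apply] at e'
  simp only [map_mul, MulAut.conj_apply, pc] at e'
  rw [tG_conj (QD K) _ (by decide), tG_conj (QD K) _ (by decide),
    tG_conj (QD K) _ (by decide), tG_conj (QD K) _ (by decide)] at e'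
  obtain ⟨h5, -, h8, -⟩ := four_inj (show four pc _ _ _ _ = four pc _ _ _ _ from e')
  rw [(chT_hc p).2.2] at h5
  rw [(chT_of_cartan _).2.2.2.2.2.2.1, Units.val_mul, chT27 hφ hK, (chT_hc p).2.2] at h8
  rw [h5, h8]

theorem hel_y1 (p : Kˣ × Kˣ) (h : mu m p = 1) (t c : K) :
    hel hφ hK p * y1 hφ hK t c * (hel hφ hK p)⁻¹ = y1 hφ hK t c := by
  refine lift_injective _ ?_
  rw [lift_mul, lift_mul, lift_inv, lift_hel, lift_y1, pr, four, ← MulAut.conj_apply]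
  simp only [map_mul, MulAut.conj_apply, nc]
  rw [tG_conj (QD K) _ (by decide), tG_conj (QD K) _ (by decide),
    tG_conj (QD K) _ (by decide), tG_conj (QD K) _ (by decide)]
  obtain ⟨-, -, c22, c20, c19, c17, c28, c30⟩ := chT_of_cartan (hc m p.1 p.2)
  have h25 : chT (hc m p.1 p.2) 25 = 1 := (chT_hc p).2.2.trans h
  have h27 : chT (hc m p.1 p.2) 27 = 1 := Units.ext (by
    rw [chT27 hφ hK, h, Units.val_one, map_one])
  rw [c22, c20, c19, c17, c28, c30, h25, h27]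
  simp

/-- The product representing the first generator. -/
noncomputable def nP : GT hφ hK := x0 hφ hK 1 * y0 hφ hK 1 * x0 hφ hK 1

/-- `x(d) y(d⁻¹) x(d)`. -/
noncomputable def Nd (d : K) : GT hφ hK := x0 hφ hK d * y0 hφ hK d⁻¹ * x0 hφ hK d

theorem lift_Nd (d : K) : lift (Md hφ hK) (Nd hφ hK d) = pn (su K) L0 (par φ d) := by
  rw [Nd, lift_mul, lift_mul, lift_x0, lift_y0, ← pn_eq (su K) orth_L0]
  congr 2
  refine py_congr _ fun a _ => ?_
  rw [neg_eq]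
  unfold par
  split_ifs
  · rw [map_inv₀]
  · rfl

theorem Nd_mem {d : K} (hd : d ≠ 0) :
    ∃ h ∈ (Md hφ hK).tw.H, Nd hφ hK d = h * (Md hφ hK).tw.n ((fold φ).gens (0 : Fin 2)) := by
  refine ⟨Nd hφ hK d * ((Md hφ hK).tw.n ((fold φ).gens (0 : Fin 2)))⁻¹, ?_,
    (inv_mul_cancel_right _ _).symm⟩
  obtain ⟨h, hh, e⟩ := pn_mem (su K) (L := L0) (par φ d) fun a _ => by
    unfold par; split_ifs
    · exact (map_ne_zero φ).2 hd
    · exact hd
  obtain ⟨k, hk, e'⟩ := lift_n (Md hφ hK) ((fold φ).gens (0 : Fin 2))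
  rw [mem_H, lift_mul, lift_inv, lift_Nd, e, e', ι_gen0,
    show (L0.map fun a => a.val) = [0, 3] from rfl, mul_inv_rev, ← mul_assoc]
  show h * (QD K).amb.n (Weyl.wOf (QD K).X.M [0, 3]) *
    ((QD K).amb.n (Weyl.wOf (QD K).X.M [0, 3]))⁻¹ * k⁻¹ ∈ (QD K).amb.H
  rw [mul_inv_cancel_right]
  exact mul_mem hh (inv_mem hk)

theorem nP_conj_x0 (t : K) : nP hφ hK * x0 hφ hK t * (nP hφ hK)⁻¹ = y0 hφ hK t := by
  have e1 : nP hφ hK = Nd hφ hK 1 := by rw [nP, Nd, inv_one]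
  refine lift_injective _ ?_
  rw [e1, lift_mul, lift_mul, lift_inv, lift_Nd, lift_x0, lift_y0,
    show pn (su K) L0 (par φ (1 : K)) = pn (su K) L0 (fun _ => 1) from
      congrArg List.prod (List.map_congr_left fun a _ => by unfold par; split_ifs <;> simp),
    pn_conj (su K) orth_L0]
  exact py_congr _ fun a _ => by rw [neg_eq]

theorem nP_image_ok : ∀ k : Fin 4,
    Chevalley.cor chevF4 (([0, 3] : List ℕ).foldr Chevalley.F4.tab.w 33) k.val
        = (if k.val = 0 then -1 else 0) ∧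
    Chevalley.cor chevF4 (([0, 3] : List ℕ).foldr Chevalley.F4.tab.w 24) k.val
        = (if k.val = 3 then -1 else 0) ∧
    Chevalley.cor chevF4 (([0, 3] : List ℕ).foldr Chevalley.F4.tab.w 27) k.val
        = (if k.val = 0 ∨ k.val = 1 then 1 else 0) ∧
    Chevalley.cor chevF4 (([0, 3] : List ℕ).foldr Chevalley.F4.tab.w 25) k.val
        = (if k.val = 2 ∨ k.val = 3 then 1 else 0) := by decide +kernel

theorem nP_conj_hel (a b : Kˣ) :
    nP hφ hK * hel hφ hK (a, b) * (nP hφ hK)⁻¹ = hel hφ hK (b * a⁻¹, b) := by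
  have e1 : nP hφ hK = Nd hφ hK 1 := by rw [nP, Nd, inv_one]
  obtain ⟨s0, s1, s2, s3, -⟩ := simple_ok
  set n := (([0, 3] : List ℕ).map fun i => nUG (QD K) (chevF4.simple i) 1).prod with hn
  have hln : lift (Md hφ hK) (nP hφ hK) = n := by
    rw [e1, lift_Nd, hn]
    show (su K).nt _ _ * ((su K).nt _ _ * 1) = nUG (QD K) _ 1 * (nUG (QD K) _ 1 * 1)
    congr 1
    · exact Subtype.ext (((su K).coe_nt _ _).trans (by simp [par]; rfl))
    · congr 1
      exact Subtype.ext (((su K).coe_nt _ _).trans (by simp [par]; rfl))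
  have hlt : ∀ i ∈ ([0, 3] : List ℕ), i < chevF4.rank := by decide
  have him : ∀ (i : Fin chevF4.rank) (s : Kˣ), n * tG (QD K) (Pi.mulSingle i s) * n⁻¹ =
      tG (QD K) fun k => s ^ Chevalley.cor chevF4
        (([0, 3] : List ℕ).foldr Chevalley.F4.tab.w (chevF4.simple i.val)) k := fun i s => by
    have hi := ((QD K).K.simple_lt i.val i.isLt).1
    obtain ⟨h1, h2⟩ := conj_hUG _ hlt hi s
    rw [tG_single, h1, hUG_tG h2]
    rfl
  refine lift_injective _ ?_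
  rw [lift_mul, lift_mul, lift_inv, hln, lift_hel, lift_hel]
  show n * tG (QD K) (hc m a b) * n⁻¹ = tG (QD K) (hc m (b * a⁻¹) b)
  have hsp : hc m a b = Pi.mulSingle (⟨0, by decide⟩ : Fin chevF4.rank) (a ^ 2 ^ m) *
      Pi.mulSingle (⟨3, by decide⟩ : Fin chevF4.rank) a *
      Pi.mulSingle (⟨1, by decide⟩ : Fin chevF4.rank) (b ^ 2 ^ m) *
      Pi.mulSingle (⟨2, by decide⟩ : Fin chevF4.rank) b := single_prod_four (G := Kˣ) (hc m a b)
  rw [hsp, map_mul, map_mul, map_mul,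
    show ∀ x y z w : ↥(chevF4.group K), n * (x * y * z * w) * n⁻¹
      = (n * x * n⁻¹) * (n * y * n⁻¹) * (n * z * n⁻¹) * (n * w * n⁻¹) from
      fun x y z w => by group,
    him, him, him, him, ← map_mul, ← map_mul, ← map_mul]
  congr 1
  have i0 := nP_image_ok (0 : Fin 4)
  have i1 := nP_image_ok (1 : Fin 4)
  have i2 := nP_image_ok (2 : Fin 4)
  have i3 := nP_image_ok (3 : Fin 4)
  simp only [s0, s1, s2, s3]
  refine four_ext ?_ ?_ ?_ ?_
  · show (a ^ 2 ^ m) ^ Chevalley.cor chevF4 (([0, 3] : List ℕ).foldr Chevalley.F4.tab.w 33) 0 *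
      a ^ Chevalley.cor chevF4 (([0, 3] : List ℕ).foldr Chevalley.F4.tab.w 24) 0 *
      (b ^ 2 ^ m) ^ Chevalley.cor chevF4 (([0, 3] : List ℕ).foldr Chevalley.F4.tab.w 27) 0 *
      b ^ Chevalley.cor chevF4 (([0, 3] : List ℕ).foldr Chevalley.F4.tab.w 25) 0 = (b * a⁻¹) ^ 2 ^ m
    rw [show Chevalley.cor chevF4 (([0, 3] : List ℕ).foldr Chevalley.F4.tab.w 33) 0 = _ from i0.1,
      show Chevalley.cor chevF4 (([0, 3] : List ℕ).foldr Chevalley.F4.tab.w 24) 0 = _ from i0.2.1,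
      show Chevalley.cor chevF4 (([0, 3] : List ℕ).foldr Chevalley.F4.tab.w 27) 0 = _ from i0.2.2.1,
      show Chevalley.cor chevF4 (([0, 3] : List ℕ).foldr Chevalley.F4.tab.w 25) 0 = _ from i0.2.2.2]
    simp [mul_pow, inv_pow, mul_comm]
  · show (a ^ 2 ^ m) ^ Chevalley.cor chevF4 (([0, 3] : List ℕ).foldr Chevalley.F4.tab.w 33) 1 *
      a ^ Chevalley.cor chevF4 (([0, 3] : List ℕ).foldr Chevalley.F4.tab.w 24) 1 *
      (b ^ 2 ^ m) ^ Chevalley.cor chevF4 (([0, 3] : List ℕ).foldr Chevalley.F4.tab.w 27) 1 *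
      b ^ Chevalley.cor chevF4 (([0, 3] : List ℕ).foldr Chevalley.F4.tab.w 25) 1 = b ^ 2 ^ m
    rw [show Chevalley.cor chevF4 (([0, 3] : List ℕ).foldr Chevalley.F4.tab.w 33) 1 = _ from i1.1,
      show Chevalley.cor chevF4 (([0, 3] : List ℕ).foldr Chevalley.F4.tab.w 24) 1 = _ from i1.2.1,
      show Chevalley.cor chevF4 (([0, 3] : List ℕ).foldr Chevalley.F4.tab.w 27) 1 = _ from i1.2.2.1,
      show Chevalley.cor chevF4 (([0, 3] : List ℕ).foldr Chevalley.F4.tab.w 25) 1 = _ from i1.2.2.2]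
    simp
  · show (a ^ 2 ^ m) ^ Chevalley.cor chevF4 (([0, 3] : List ℕ).foldr Chevalley.F4.tab.w 33) 2 *
      a ^ Chevalley.cor chevF4 (([0, 3] : List ℕ).foldr Chevalley.F4.tab.w 24) 2 *
      (b ^ 2 ^ m) ^ Chevalley.cor chevF4 (([0, 3] : List ℕ).foldr Chevalley.F4.tab.w 27) 2 *
      b ^ Chevalley.cor chevF4 (([0, 3] : List ℕ).foldr Chevalley.F4.tab.w 25) 2 = b
    rw [show Chevalley.cor chevF4 (([0, 3] : List ℕ).foldr Chevalley.F4.tab.w 33) 2 = _ from i2.1,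
      show Chevalley.cor chevF4 (([0, 3] : List ℕ).foldr Chevalley.F4.tab.w 24) 2 = _ from i2.2.1,
      show Chevalley.cor chevF4 (([0, 3] : List ℕ).foldr Chevalley.F4.tab.w 27) 2 = _ from i2.2.2.1,
      show Chevalley.cor chevF4 (([0, 3] : List ℕ).foldr Chevalley.F4.tab.w 25) 2 = _ from i2.2.2.2]
    simp
  · show (a ^ 2 ^ m) ^ Chevalley.cor chevF4 (([0, 3] : List ℕ).foldr Chevalley.F4.tab.w 33) 3 *
      a ^ Chevalley.cor chevF4 (([0, 3] : List ℕ).foldr Chevalley.F4.tab.w 24) 3 *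
      (b ^ 2 ^ m) ^ Chevalley.cor chevF4 (([0, 3] : List ℕ).foldr Chevalley.F4.tab.w 27) 3 *
      b ^ Chevalley.cor chevF4 (([0, 3] : List ℕ).foldr Chevalley.F4.tab.w 25) 3 = b * a⁻¹
    rw [show Chevalley.cor chevF4 (([0, 3] : List ℕ).foldr Chevalley.F4.tab.w 33) 3 = _ from i3.1,
      show Chevalley.cor chevF4 (([0, 3] : List ℕ).foldr Chevalley.F4.tab.w 24) 3 = _ from i3.2.1,
      show Chevalley.cor chevF4 (([0, 3] : List ℕ).foldr Chevalley.F4.tab.w 27) 3 = _ from i3.2.2.1,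
      show Chevalley.cor chevF4 (([0, 3] : List ℕ).foldr Chevalley.F4.tab.w 25) 3 = _ from i3.2.2.2]
    simp [mul_comm]

theorem y1_roots : ∀ r ∈ [22, 20, 19, 17],
    r < chevF4.nroots ∧ 47 - r ∈ H37.Twist.F4.pos := by decide +kernel

theorem w0_conj_y1 (t c : K) : (Md hφ hK).tw.n (Md hφ hK).w0 * y1 hφ hK t c *
    ((Md hφ hK).tw.n (Md hφ hK).w0)⁻¹ ∈ (Md hφ hK).tw.Uw ((fold φ).gens (1 : Fin 2)) := by
  obtain ⟨k, hk, e⟩ := lift_n (Md hφ hK) (Md hφ hK).w0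
  rw [Model.ι_w0] at e
  rw [mem_Uw, Uw_gen, lift_mul, lift_mul, lift_inv, e, lift_y1]
  have h : ∀ r ∈ [22, 20, 19, 17], ∀ s : K,
      k * (QD K).amb.n (QD K).X.w0 * xe r s * (k * (QD K).amb.n (QD K).X.w0)⁻¹
        ∈ XS (QD K).sys.x (↑H37.Twist.F4.pos.toFinset : Set ℕ) := fun r hr s => by
    obtain ⟨hlt, hp⟩ := y1_roots r hr
    obtain ⟨s', es⟩ := (QD K).sys.rep_conj (QD K).X.w0 r hlt s
    obtain ⟨s'', es'⟩ := (QD K).sys.h_conj k hk _ (Fin.isLt
      ((QD K).X.good.hom (QD K).X.w0 ⟨r, hlt⟩)) s'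
    show k * (QD K).sys.rep (QD K).X.w0 * (QD K).sys.x r s *
      (k * (QD K).sys.rep (QD K).X.w0)⁻¹ ∈ _
    rw [show ∀ x : ↥(chevF4.group K), k * (QD K).sys.rep (QD K).X.w0 * x *
        (k * (QD K).sys.rep (QD K).X.w0)⁻¹
      = k * ((QD K).sys.rep (QD K).X.w0 * x * ((QD K).sys.rep (QD K).X.w0)⁻¹) * k⁻¹
      from fun x => by group, es, es']
    refine x_mem_XS (Finset.mem_coe.2 (List.mem_toFinset.2 ?_)) _
    rw [w0_val hlt]
    exact hp
  set n := k * (QD K).amb.n (QD K).X.w0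
  rw [pr, four, show ∀ x y z w : ↥(chevF4.group K), n * (x * y * (z * w)) * n⁻¹
      = (n * x * n⁻¹) * (n * y * n⁻¹) * ((n * z * n⁻¹) * (n * w * n⁻¹)) from
    fun x y z w => by group]
  exact mul_mem (mul_mem (h _ (by simp [nc]) _) (h _ (by simp [nc]) _))
    (mul_mem (h _ (by simp [nc]) _) (h _ (by simp [nc]) _))

/-- The product representing the second generator. -/
noncomputable def n1 : GT hφ hK := x1 hφ hK 1 0 * y1 hφ hK 0 1 * x1 hφ hK 1 1

theorem n1_mem :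
    ∃ h ∈ (Md hφ hK).tw.H, n1 hφ hK = h * (Md hφ hK).tw.n ((fold φ).gens (1 : Fin 2)) := by
  refine ⟨n1 hφ hK * ((Md hφ hK).tw.n ((fold φ).gens (1 : Fin 2)))⁻¹, ?_,
    (inv_mul_cancel_right _ _).symm⟩
  obtain ⟨k, hk, e'⟩ := lift_n (Md hφ hK) ((fold φ).gens (1 : Fin 2))
  have he : 2 ^ m ≠ 0 := by positivity
  obtain ⟨-, s1, s2, -, -, -, n7, n5⟩ := simple_ok
  have el : lift (Md hφ hK) (n1 hφ hK)
      = (([1, 2, 1, 2] : List ℕ).map fun i => nUG (QD K) (chevF4.simple i) 1).prod := by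
    rw [n1, lift_mul, lift_mul, lift_x1, lift_x1, lift_y1, ← wG_b2 hφ (by simp), ← wG_b2 hφ (by simp),
      ← wG_b2 hφ (by simp)]
    have e : (([1, 2, 1, 2] : List ℕ).map fun i => nUG (QD K) (chevF4.simple i) 1).prod
        = wG (QD K) (castW K repW) := by
      simp [nUG_eq_wG, ← wG_append, s1, s2, ChevalleyDatum.nWord, castW, repW, n7, n5]
    have ev : castW K repV = b2ClassWord (2 ^ m) pc.a pc.b pc.ab pc.aab 1 0 ++
        b2ClassWord (2 ^ m) nc.a nc.b nc.ab nc.aab 0 1 ++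
        b2ClassWord (2 ^ m) pc.a pc.b pc.ab pc.aab 1 1 := by
      simp [repV, castW, b2ClassWord, pc, nc, he, one_add_one_eq_two]
    rw [e, ← wG_eq_of_sameWordP 2 rep_ok, ev, wG_append, wG_append]
  obtain ⟨h, hh, eh⟩ := rep_word (QD K) ((fold φ).word (1 : Fin 2)) ((fold φ).word_lt (1 : Fin 2))
  rw [mem_H, lift_mul, lift_inv, el, e', (fold φ).ι_gens (1 : Fin 2)]
  show (((fold φ).word (1 : Fin 2)).map fun i => nUG (QD K) (chevF4.simple i) 1).prod *
    (k * (QD K).sys.rep _)⁻¹ ∈ _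
  rw [eh, mul_inv_rev, ← mul_assoc, mul_inv_cancel_right]
  exact mul_mem hh (inv_mem hk)

/-- Generation by the four families. -/
theorem gen (L : Subgroup (GT hφ hK))
    (h1 : ∀ t, x0 hφ hK t ∈ L) (h2 : ∀ t, y0 hφ hK t ∈ L)
    (h3 : ∀ t c, x1 hφ hK t c ∈ L) (h4 : ∀ t c, y1 hφ hK t c ∈ L) : L = ⊤ := by
  refine eq_top_iff.2 fun g _ => ?_
  have hgen : twistedF4 K (2 ^ m) ≤ L.map (model hφ hK).T.subtype := by
    refine (Subgroup.closure_le _).2 ?_
    rintro z ⟨w, hw, hz⟩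
    have ez : z = ((wG (QD K) w : ↥(chevF4.group K)) : GL chevF4.Idx K) :=
      Units.ext (by rw [coe_wG, (QD K).K.coe_wU]; exact hz)
    rcases hw with ⟨t, rfl | rfl⟩ | ⟨t, u, rfl | rfl⟩
    · exact ⟨x0 hφ hK t, h1 t, by
        rw [ez]; simp [f4PairWord, f4p1, f4p4, wG, x0, hφ]⟩
    · exact ⟨y0 hφ hK t, h2 t, by
        rw [ez]; simp [f4PairWord, f4m1, f4m4, wG, y0, hφ]⟩
    · refine ⟨x1 hφ hK t u, h3 t u, ?_⟩
      rw [ez, show b2ClassWord (2 ^ m) f4a f4b f4ab f4aab t u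
        = b2ClassWord (2 ^ m) pc.a pc.b pc.ab pc.aab t u from rfl, wG_b2 hφ (by simp)]
      rfl
    · refine ⟨y1 hφ hK t u, h4 t u, ?_⟩
      rw [ez, show b2ClassWord (2 ^ m) f4ma f4mb f4mab f4maab t u
        = b2ClassWord (2 ^ m) nc.a nc.b nc.ab nc.aab t u from rfl, wG_b2 hφ (by simp)]
      rfl
  obtain ⟨z, hz, e⟩ := hgen g.2
  rwa [← Subtype.ext (a1 := z) (a2 := g) e]

end

end Cfsg.Agent.H56.TwAut.F4
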