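import Cfsg.Agent.H56.ChevAut.Roots
import Cfsg.Agent.H56.ChevAut.Rank1

/-!
A split Tits system with rank one root groups parametrised by subfields of a finite field: an
automorphism stabilising `U` and its opposite preserves the root groups and acts on them through
field automorphisms compatible with the torus.
-/
set_option autoImplicit false

namespace Cfsg.Agent.H56.TwAut

open Cfsg.Agent.H37 Cfsg.Agent.H56.ChevAut

/-- Parametrised fundamental root groups of a split Tits system. -/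
structure Frames {G W : Type*} [Group G] [Group W] (A : Tits.Ambient G W) (K : Type*) [Field K]
    (ι : Type*) where
  w₀ : W
  opp : Opp A w₀
  sw : ι → W
  sw_inj : Function.Injective sw
  S_eq : A.S = Set.range sw
  k : ι → Subfield K
  x : ∀ i, k i → G
  y : ∀ i, k i → G
  x_add : ∀ i t u, x i t * x i u = x i (t + u)
  y_add : ∀ i t u, y i t * y i u = y i (t + u)
  x_inj : ∀ i, Function.Injective (x i)
  y_inj : ∀ i, Function.Injective (y i)
  x_mem : ∀ i t, x i t ∈ A.U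
  y_mem : ∀ i t, y i t ∈ Vopp A w₀
  mem_Uw : ∀ i v, v ∈ A.Uw (sw i) → ∃ t, v = x i t
  sl2 : ∀ i (t : k i), t ≠ 0 → ∃ a b, ∃ h ∈ A.H, y i t = x i a * h * A.n (sw i) * x i b
  n_conj : ∀ i t, ∃ t', A.n (sw i) * x i t * (A.n (sw i))⁻¹ = y i t'
  w₀_conj : ∀ i t, ∃ t', A.n w₀ * y i t * (A.n w₀)⁻¹ = x i t'
  nt_mem : ∀ i (t : k i), t ≠ 0 → ∃ h ∈ A.H, x i t * y i (-t⁻¹) * x i t = h * A.n (sw i)
  χ : ∀ i j, k i → k j
  χ_self : ∀ i (t : k i), t ≠ 0 → χ i i t = t ^ 2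
  torus : ∀ i j (t : k i) (u : k j), t ≠ 0 →
    x i t * y i (-t⁻¹) * x i t * (x i (-1) * y i 1 * x i (-1)) * x j u *
      (x i t * y i (-t⁻¹) * x i t * (x i (-1) * y i 1 * x i (-1)))⁻¹ = x j (χ i j t * u)
  H_conj : ∀ h ∈ A.H, ∀ i, ∃ c : (k i)ˣ, ∀ t : k i,
    h * x i t * h⁻¹ = x i ((c : k i) * t) ∧ h * y i t * h⁻¹ = y i ((c⁻¹ : (k i)ˣ) * t)

namespace Frames

variable {G W : Type*} [Group G] [Group W] {A : Tits.Ambient G W} {K : Type*} [Field K]
  {ι : Type*} (F : Frames A K ι)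
include F

theorem sw_mem (i : ι) : F.sw i ∈ A.S := F.S_eq ▸ ⟨i, rfl⟩

theorem x_zero (i : ι) : F.x i 0 = 1 := mul_eq_left.1 ((F.x_add i 0 0).trans (by rw [add_zero]))

theorem y_zero (i : ι) : F.y i 0 = 1 := mul_eq_left.1 ((F.y_add i 0 0).trans (by rw [add_zero]))

theorem x_inv (i : ι) (t : F.k i) : (F.x i t)⁻¹ = F.x i (-t) :=
  inv_eq_of_mul_eq_one_right (by rw [F.x_add, add_neg_cancel, F.x_zero])

theorem y_inv (i : ι) (t : F.k i) : (F.y i t)⁻¹ = F.y i (-t) :=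
  inv_eq_of_mul_eq_one_right (by rw [F.y_add, add_neg_cancel, F.y_zero])

theorem conj_H_y {h : G} (hh : h ∈ A.H) (i : ι) (t : F.k i) :
    ∃ t', h * F.y i t * h⁻¹ = F.y i t' := by
  obtain ⟨c, hc⟩ := F.H_conj h hh i
  exact ⟨_, (hc t).2⟩

theorem n_sq (i : ι) : A.n (F.sw i) * A.n (F.sw i) ∈ A.H := by
  obtain ⟨h, hh, e⟩ := A.n_mul (F.sw i) (F.sw i)
  rw [A.sq_S _ (F.sw_mem i), A.n_one, mul_one] at e
  exact e ▸ hh

theorem y_mem_min (i : ι) (t : F.k i) :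
    F.y i t ∈ A.B ∨ F.y i t ∈ Cell A (F.sw i) := by
  by_cases ht : t = 0
  · subst ht; left; rw [F.y_zero]; exact one_mem _
  · right
    obtain ⟨a, b, h, hh, e⟩ := F.sl2 i t ht
    rw [e]
    exact mul_mem_Cell _ (mul_mem (A.U_le_B (F.x_mem i a)) (A.H_le_B hh))
      (n_mem_Cell _ _) (A.U_le_B (F.x_mem i b))

/-- A rank one parabolic meets the opposite of `U` in the negative root subgroup. -/
theorem V_inter_min (i : ι) {v : G} (hv : v ∈ Vopp A F.w₀)
    (h : v ∈ A.B ∨ v ∈ Cell A (F.sw i)) : ∃ t, v = F.y i t := by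
  rcases h with h | h
  · exact ⟨0, by rw [F.y_zero, F.opp.V_inter_B hv h]⟩
  obtain ⟨u, hu, k, hk, w, x, hx, e⟩ := A.exists_eq v
  have hw : w = F.sw i := Cell_unique A (e ▸ (mem_Cell A).2
    ⟨u * k, ⟨u, hu, k, hk, rfl⟩, x, A.U_le_B (A.Uw_le w hx), rfl⟩) h
  subst hw
  obtain ⟨t, rfl⟩ := F.mem_Uw i x hx
  have ht : t ≠ 0 := by
    intro ht
    rw [ht, F.x_zero, mul_one] at e
    have h1 : v * A.n F.w₀ ∈ Cell A F.w₀ := by
      have : v * A.n F.w₀ = 1 * A.n F.w₀ * ((A.n F.w₀)⁻¹ * v * A.n F.w₀) := by group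
      rw [this]
      exact mul_mem_Cell A (one_mem _) (n_mem_Cell A _) (A.U_le_B ((mem_Vopp A).1 hv))
    have h2 : v * A.n F.w₀ ∈ Cell A (F.sw i * F.w₀) := by
      obtain ⟨k', hk', e'⟩ := A.n_mul (F.sw i) F.w₀
      rw [e, mul_assoc, e', show u * k * (k' * A.n (F.sw i * F.w₀))
        = u * k * k' * A.n (F.sw i * F.w₀) * 1 by group]
      exact mul_mem_Cell A (mul_mem (mul_mem (A.U_le_B hu) (A.H_le_B hk)) (A.H_le_B hk'))
        (n_mem_Cell A _) (one_mem _)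
    exact S_ne_one A (F.sw_mem i) (right_eq_mul.1 (Cell_unique A h1 h2))
  obtain ⟨c, ec⟩ := F.n_conj i t
  have hc : c ≠ 0 := by
    intro hc
    rw [hc, F.y_zero] at ec
    exact ht (F.x_inj i ((conj_eq_one_iff.1 ec).trans (F.x_zero i).symm))
  obtain ⟨a, b, k', hk', e'⟩ := F.sl2 i c hc
  obtain ⟨d, ed⟩ := F.n_conj i b
  obtain ⟨d', ed'⟩ := F.conj_H_y (inv_mem (F.n_sq i)) i d
  set n := A.n (F.sw i)
  have e2 : v = u * k * (F.x i a * k' * (n * n)) * F.y i d' := by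
    calc v = u * k * ((n * F.x i t * n⁻¹) * n) := by rw [e]; group
      _ = u * k * (F.x i a * k' * ((n * F.x i b * n⁻¹) * (n * n))) := by
          rw [ec, e']; simp only [mul_assoc, inv_mul_cancel_left]
      _ = u * k * (F.x i a * k' * (n * n)) * ((n * n)⁻¹ * F.y i d * (n * n)⁻¹⁻¹) := by
          rw [ed, inv_inv]
          simp only [mul_inv_rev, mul_assoc, mul_inv_cancel_left]
      _ = _ := by rw [ed']
  have hb' : v * (F.y i d')⁻¹ ∈ A.B := by
    rw [e2, mul_inv_cancel_right]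
    exact mul_mem (mul_mem (A.U_le_B hu) (A.H_le_B hk)) (mul_mem (mul_mem
      (A.U_le_B (F.x_mem i a)) (A.H_le_B hk')) (A.H_le_B (F.n_sq i)))
  exact ⟨d', mul_inv_eq_one.1 (F.opp.V_inter_B (mul_mem hv (inv_mem (F.y_mem i d'))) hb')⟩

theorem exists_w₀_conj [Finite K] (i : ι) (t : F.k i) :
    ∃ s, F.x i t = A.n F.w₀ * F.y i s * (A.n F.w₀)⁻¹ := by
  choose f hf using F.w₀_conj i
  have hinj : Function.Injective f := fun a b e => F.y_inj i
    (mul_left_cancel (mul_right_cancel ((hf a).trans (e ▸ (hf b).symm))))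
  obtain ⟨s, hs⟩ := Finite.injective_iff_surjective.1 hinj t
  exact ⟨s, by rw [hf, hs]⟩

/-- The possible permutations of the root groups are trivial. -/
def Rigid : Prop := ∀ σ : ι → ι, Function.Injective σ →
  (∀ i, Nat.card (F.k i) = Nat.card (F.k (σ i))) →
  (∀ i j m, (F.sw i * F.sw j) ^ m = 1 ↔ (F.sw (σ i) * F.sw (σ j)) ^ m = 1) → ∀ i, σ i = i

theorem exists_params [Finite K] (hr : F.Rigid) {θ : G ≃* G} (hU : Fix θ A.U)
    (hV : Fix θ (Vopp A F.w₀)) :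
    ∀ i t, (∃ a, θ (F.x i t) = F.x i a) ∧ ∃ b, θ (F.y i t) = F.y i b := by
  have hB := fix_B A hU
  have hex : ∀ i, ∃ j, piFun A θ (F.sw i) = F.sw j := fun i => by
    obtain ⟨j, hj⟩ := F.S_eq ▸ pi_mem_S A hB (F.sw_mem i)
    exact ⟨j, hj.symm⟩
  choose σ hσ using hex
  have hex' : ∀ i, ∃ j, piFun A θ.symm (F.sw i) = F.sw j := fun i => by
    obtain ⟨j, hj⟩ := F.S_eq ▸ pi_mem_S A hB.symm (F.sw_mem i)
    exact ⟨j, hj.symm⟩
  choose τ hτ using hex'
  have hτσ : ∀ i, τ (σ i) = i := fun i =>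
    F.sw_inj (by rw [← hτ, ← hσ, pi_pi_symm A hB])
  have hys : ∀ i t, ∃ b, θ (F.y i t) = F.y (σ i) b := fun i t => by
    refine F.V_inter_min (σ i) ((hV _).2 (F.y_mem i t)) ?_
    rw [hB, ← hσ, cell_iff A hB]
    exact F.y_mem_min i t
  have hys' : ∀ i t, ∃ b, θ.symm (F.y i t) = F.y (τ i) b := fun i t => by
    refine F.V_inter_min (τ i) ((hV.symm _).2 (F.y_mem i t)) ?_
    rw [hB.symm, ← hτ, cell_iff A hB.symm]
    exact F.y_mem_min i t
  have hid : ∀ i, σ i = i := by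
    refine hr σ (Function.LeftInverse.injective hτσ) (fun i => ?_) fun i j m => ?_
    · choose f hf using hys i
      refine Nat.card_eq_of_bijective f ⟨fun a b e => F.y_inj i (θ.injective (by rw [hf, hf, e])),
        fun b => ?_⟩
      have := hys' (σ i) b
      rw [hτσ] at this
      obtain ⟨a, ha⟩ := this
      exact ⟨a, F.y_inj (σ i) (by rw [← hf, ← ha, MulEquiv.apply_symm_apply])⟩
    · rw [← hσ i, ← hσ j, ← pi_mul A hB]
      have : (piFun A θ (F.sw i * F.sw j)) ^ m = piFun A θ ((F.sw i * F.sw j) ^ m) :=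
        (map_pow (piHom A hB) _ m).symm
      rw [this]
      exact ⟨fun h => by rw [h, pi_one A hB],
        fun h => pi_injective A hB (h.trans (pi_one A hB).symm)⟩
  have hy : ∀ i t, ∃ b, θ (F.y i t) = F.y i b := fun i t => by
    have := hys i t
    rwa [hid i] at this
  set n0 := A.n F.w₀
  have heH : n0⁻¹ * θ n0 ∈ A.H := by
    have hswap : ∀ z, n0 * z * n0⁻¹ ∈ A.U ↔ z ∈ Vopp A F.w₀ := fun z => F.opp.swap
    have hVU : ∀ z, n0 * z * n0⁻¹ ∈ Vopp A F.w₀ ↔ z ∈ A.U := fun z => by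
      rw [mem_Vopp, show (A.n F.w₀)⁻¹ * (n0 * z * n0⁻¹) * A.n F.w₀ = z by
        simp only [n0]; group]
    refine mem_H_of_fix A F.opp (fun z => ?_) (fun z => ?_) <;>
      obtain ⟨z, rfl⟩ := θ.surjective z
    · rw [← hVU, MulAut.conj_apply, show n0 * (n0⁻¹ * θ n0 * θ z * (n0⁻¹ * θ n0)⁻¹) * n0⁻¹
        = θ n0 * θ z * (θ n0)⁻¹ by group, ← map_inv, ← map_mul, ← map_mul, hV, hVU, hU]
    · rw [← hswap, MulAut.conj_apply, show n0 * (n0⁻¹ * θ n0 * θ z * (n0⁻¹ * θ n0)⁻¹) * n0⁻¹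
        = θ n0 * θ z * (θ n0)⁻¹ by group, ← map_inv, ← map_mul, ← map_mul, hU, hswap, hV]
  intro i t
  refine ⟨?_, hy i t⟩
  obtain ⟨s, es⟩ := F.exists_w₀_conj i t
  obtain ⟨b, eb⟩ := hy i s
  obtain ⟨b', eb'⟩ := F.conj_H_y heH i b
  obtain ⟨a, ea⟩ := F.w₀_conj i b'
  refine ⟨a, ?_⟩
  rw [es, map_mul, map_mul, map_inv, eb, ← ea, ← eb']
  simp only [n0]
  group

/-- `n_i(t)`. -/
def nt (i : ι) (t : F.k i) : G := F.x i t * F.y i (-t⁻¹) * F.x i t

/-- `h_i(t)`. -/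
def ht (i : ι) (t : F.k i) : G := F.nt i t * F.nt i (-1)

theorem nt_conj (i : ι) {t : F.k i} (ht0 : t ≠ 0) (s : F.k i) :
    ∃ s', F.nt i t * F.x i s * (F.nt i t)⁻¹ = F.y i s' := by
  obtain ⟨h, hh, e⟩ := F.nt_mem i t ht0
  obtain ⟨d, ed⟩ := F.n_conj i s
  obtain ⟨d', ed'⟩ := F.conj_H_y hh i d
  refine ⟨d', ?_⟩
  rw [nt, e, ← ed', ← ed]
  group

/-- `c = -t⁻¹` is the only parameter for which `x(t) y(c) x(t)` carries `X` to `Y`. -/
theorem nt_unique [Finite K] (i : ι) {t : F.k i} (ht0 : t ≠ 0) {c : F.k i}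
    (h : ∀ s, ∃ s', F.x i t * F.y i c * F.x i t * F.x i s *
      (F.x i t * F.y i c * F.x i t)⁻¹ = F.y i s') : c = -t⁻¹ := by
  have hxx : ∀ a s, F.x i a * F.x i s * (F.x i a)⁻¹ = F.x i s := fun a s => by
    rw [F.x_inv, F.x_add, F.x_add, add_neg_cancel_comm]
  have inner : ∀ c s, F.x i t * F.y i c * F.x i t * F.x i s *
      (F.x i t * F.y i c * F.x i t)⁻¹
        = F.x i t * (F.y i c * F.x i s * (F.y i c)⁻¹) * (F.x i t)⁻¹ := by
    intro c s
    conv_rhs => rw [← hxx t s]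
    group
  obtain ⟨f, hf⟩ : ∃ f : F.k i → F.k i, ∀ s, F.x i t *
      (F.y i (-t⁻¹) * F.x i s * (F.y i (-t⁻¹))⁻¹) * (F.x i t)⁻¹ = F.y i (f s) := by
    have hn : ∀ s, ∃ s', F.x i t *
        (F.y i (-t⁻¹) * F.x i s * (F.y i (-t⁻¹))⁻¹) * (F.x i t)⁻¹ = F.y i s' := fun s => by
      obtain ⟨s', e⟩ := F.nt_conj i ht0 s
      exact ⟨s', by rw [← inner]; exact e⟩
    choose f hf using hn
    exact ⟨f, hf⟩
  have hfinj : Function.Injective f := fun s s' e => by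
    have h1 := (hf s).trans (e ▸ (hf s').symm)
    exact F.x_inj i (mul_left_cancel (mul_right_cancel (mul_left_cancel (mul_right_cancel h1))))
  have hfsurj := Finite.injective_iff_surjective.1 hfinj
  set d := c + t⁻¹ with hd
  by_contra hne
  have hd0 : d ≠ 0 := fun e => hne (eq_neg_of_add_eq_zero_left e)
  obtain ⟨s', es'⟩ := h 1
  rw [inner] at es'
  obtain ⟨s2, rfl⟩ := hfsurj s'
  rw [← hf s2] at es'
  have hd' : F.y i d * F.x i 1 * (F.y i d)⁻¹ = F.x i s2 := by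
    have h1 := mul_left_cancel (mul_right_cancel es')
    have ed : F.y i d = (F.y i (-t⁻¹))⁻¹ * F.y i c := by
      rw [F.y_inv, F.y_add, hd]; congr 1; ring
    rw [ed]
    calc (F.y i (-t⁻¹))⁻¹ * F.y i c * F.x i 1 * ((F.y i (-t⁻¹))⁻¹ * F.y i c)⁻¹
        = (F.y i (-t⁻¹))⁻¹ * (F.y i c * F.x i 1 * (F.y i c)⁻¹) * F.y i (-t⁻¹) := by group
      _ = _ := by rw [h1]; group
  obtain ⟨a, b, k, hk, e⟩ := F.sl2 i d hd0
  obtain ⟨y, ey⟩ := F.n_conj i 1
  obtain ⟨y', ey'⟩ := F.conj_H_y hk i y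
  have h2 : F.x i a * F.y i y' * (F.x i a)⁻¹ = F.x i s2 := by
    rw [← hd', e, ← ey', ← ey]
    conv_lhs => rw [← hxx b 1]
    group
  have h3 : F.y i y' = F.x i s2 := by
    calc F.y i y' = (F.x i a)⁻¹ * F.x i s2 * F.x i a := by rw [← h2]; group
      _ = F.x i s2 := by rw [F.x_inv, F.x_add, F.x_add]; congr 1; ring
  have h4 : F.y i y' = 1 := U_inter_V A F.opp (h3 ▸ F.x_mem i s2) (F.y_mem i y')
  have h5 : F.x i 1 = 1 := by
    rw [h4, conj_eq_one_iff] at ey'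
    rw [ey'] at ey
    exact conj_eq_one_iff.1 ey
  exact one_ne_zero (F.x_inj i (h5.trans (F.x_zero i).symm))

/-- An automorphism preserving the root groups, with parameters `a`, normalised at `1`. -/
structure Normal (θ : G ≃* G) (a b : ∀ i, F.k i → F.k i) : Prop where
  hx : ∀ i t, θ (F.x i t) = F.x i (a i t)
  hy : ∀ i t, θ (F.y i t) = F.y i (b i t)
  one : ∀ i, a i 1 = 1

variable {θ : G ≃* G} {a b : ∀ i, F.k i → F.k i}

theorem Normal.add (hN : F.Normal θ a b) (i : ι) (t u : F.k i) :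
    a i (t + u) = a i t + a i u := by
  refine F.x_inj i ?_
  rw [← hN.hx, ← F.x_add, map_mul, hN.hx, hN.hx, F.x_add]

theorem Normal.inj (hN : F.Normal θ a b) (i : ι) : Function.Injective (a i) :=
  fun t u h => F.x_inj i (θ.injective (by rw [hN.hx, hN.hx, h]))

theorem Normal.neg (hN : F.Normal θ a b) (i : ι) (t : F.k i) : a i (-t) = -a i t :=
  map_neg (AddMonoidHom.mk' (a i) (hN.add F i)) t

theorem Normal.zero (hN : F.Normal θ a b) (i : ι) : a i 0 = 0 :=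
  map_zero (AddMonoidHom.mk' (a i) (hN.add F i))

theorem Normal.ne_zero (hN : F.Normal θ a b) (i : ι) {t : F.k i} (ht0 : t ≠ 0) : a i t ≠ 0 :=
  fun e => ht0 (hN.inj F i (e.trans (hN.zero F i).symm))

theorem Normal.hnt [Finite K] (hN : F.Normal θ a b) (i : ι) {t : F.k i} (ht0 : t ≠ 0) :
    b i (-t⁻¹) = -(a i t)⁻¹ ∧ θ (F.nt i t) = F.nt i (a i t) := by
  have himg : θ (F.nt i t) = F.x i (a i t) * F.y i (b i (-t⁻¹)) * F.x i (a i t) := by
    rw [nt, map_mul, map_mul, hN.hx, hN.hy]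
  have hb : b i (-t⁻¹) = -(a i t)⁻¹ := by
    refine F.nt_unique i (hN.ne_zero F i ht0) fun s => ?_
    obtain ⟨s₀, rfl⟩ := (Finite.injective_iff_surjective.1 (hN.inj F i)) s
    obtain ⟨s', e⟩ := F.nt_conj i ht0 s₀
    refine ⟨b i s', ?_⟩
    rw [← himg, ← hN.hy, ← hN.hx, ← e, map_mul, map_mul, map_inv]
  exact ⟨hb, by rw [himg, hb, nt]⟩

theorem ht_conj (i j : ι) {t : F.k i} (ht0 : t ≠ 0) (u : F.k j) :
    F.ht i t * F.x j u * (F.ht i t)⁻¹ = F.x j (F.χ i j t * u) := by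
  have h := F.torus i j t u ht0
  rwa [ht, nt, nt, inv_neg, inv_one, neg_neg]

theorem Normal.torus [Finite K] (hN : F.Normal θ a b) (i j : ι) {t : F.k i} (ht0 : t ≠ 0)
    (u : F.k j) : a j (F.χ i j t * u) = F.χ i j (a i t) * a j u := by
  have h1 := congrArg θ (F.ht_conj i j ht0 u)
  rw [map_mul, map_mul, map_inv, hN.hx, hN.hx, ht, map_mul, (hN.hnt F i ht0).2,
    (hN.hnt F i (neg_ne_zero.2 one_ne_zero)).2, hN.neg F, hN.one] at h1
  exact (F.x_inj j ((F.ht_conj i j (hN.ne_zero F i ht0) (a j u)).symm.trans h1)).symm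

theorem Normal.mul [Finite K] (hN : F.Normal θ a b) (i : ι) (t u : F.k i) :
    a i (t * u) = a i t * a i u := by
  refine mult_of_squares (hN.add F i) (hN.one i) (fun t u => ?_) t u
  by_cases ht0 : t = 0
  · subst ht0; simp [hN.zero F]
  have := hN.torus F i i ht0 u
  rwa [F.χ_self i t ht0, F.χ_self i _ (hN.ne_zero F i ht0)] at this

/-- The field automorphism at a root group. -/
noncomputable def Normal.fld [Finite K] (hN : F.Normal θ a b) (i : ι) : F.k i ≃+* F.k i :=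
  RingEquiv.ofBijective
    ({ toFun := a i, map_one' := hN.one i, map_mul' := hN.mul F i, map_zero' := hN.zero F i,
       map_add' := hN.add F i } : F.k i →+* F.k i)
    (Finite.injective_iff_bijective.1 (hN.inj F i))

theorem Normal.fld_apply [Finite K] (hN : F.Normal θ a b) (i : ι) (t : F.k i) :
    hN.fld F i t = a i t := rfl

theorem Normal.b_eq [Finite K] (hN : F.Normal θ a b) (i : ι) (t : F.k i) : b i t = a i t := by
  by_cases ht0 : t = 0
  · subst ht0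
    rw [hN.zero F]
    refine F.y_inj i ?_
    rw [← hN.hy, F.y_zero, map_one]
  have h := (hN.hnt F i (t := -t⁻¹) (by simp [ht0])).1
  rw [inv_neg, inv_inv, neg_neg, hN.neg F, inv_neg, neg_neg] at h
  have h2 : hN.fld F i t⁻¹ = (hN.fld F i t)⁻¹ := map_inv₀ _ t
  rw [hN.fld_apply, hN.fld_apply] at h2
  rw [h, h2, inv_inv]

end Frames

end Cfsg.Agent.H56.TwAut
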