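import Cfsg.Agent.H56.TwAut.RankOne
import Cfsg.Agent.H56.TwAut.TwBasic
import Cfsg.Agent.H56.ChevAut.Counts
import Cfsg.Agent.H38.Ree.Perfect

/-!
The automorphisms of `²G₂(q)`.
-/
set_option autoImplicit false
set_option maxRecDepth 100000

namespace Cfsg.Agent.H56.TwAut.G2

open Cfsg.Lie Cfsg.Agent.H37 Cfsg.Agent.H37.RootSys Cfsg.Agent.H37.Twist Cfsg.Agent.H56.ChevAut
open Cfsg.Agent.H38.Ree
open scoped commutatorElement

variable {K : Type*} [Field K] [Fintype K] (P : Par K)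

/-- The group. -/
abbrev GT : Type _ := ↥P.model.T

/-- The element with coordinates. -/
def el (p : K × K × K) : GT P :=
  ⟨(P.U1 p.1 p.2.1 p.2.2 : ↥(chevG2.group K)).1, P.mem_T.2 (P.σ_U1 _ _ _)⟩

theorem lift_el (p : K × K × K) : lift P.model (el P p) = P.U1 p.1 p.2.1 p.2.2 := rfl

theorem el_mul (a c d a' c' d' : K) : el P (a, c, d) * el P (a', c', d') =
    el P (a + a', c - a' * P.th a + c',
      d - a' * P.th a ^ 2 - P.th a' * (c - a' * P.th a) + d') :=
  lift_injective P.model (P.U1_mul a c d a' c' d')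

theorem el_inj : Function.Injective (el P) := fun p p' h => by
  obtain ⟨h1, h2, h3⟩ := P.U1_inj (congrArg (lift P.model) h)
  exact Prod.ext h1 (Prod.ext h2 h3)

theorem el_zero : el P (0, 0, 0) = 1 := lift_injective P.model P.U1_zero

theorem el_mem (p : K × K × K) : el P p ∈ P.model.tw.U :=
  (mem_U P.model).2 (P.U1_mem _ _ _)

theorem exists_el {g : GT P} (hg : g ∈ P.model.tw.U) : ∃ p, g = el P p := by
  obtain ⟨a, c, d, e⟩ :=
    (P.fixed_iff (v := lift P.model g) ((mem_U P.model).1 hg)).1 (P.mem_T.1 g.2)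
  exact ⟨(a, c, d), lift_injective P.model e⟩

/-- The coordinates. -/
noncomputable def co : GT P → K × K × K := Function.invFun (el P)

theorem co_el (p : K × K × K) : co P (el P p) = p := Function.leftInverse_invFun (el_inj P) p

/-- The parametrised torus. -/
def hel (y : Kˣ) : GT P := ⟨(P.hp y : ↥(chevG2.group K)).1, P.mem_T.2 (P.σ_hp y)⟩

theorem hel_inj : Function.Injective (hel P) := fun _ _ h =>
  P.hp_inj (congrArg (lift P.model) h)

theorem hel_mem (y : Kˣ) : hel P y ∈ P.model.tw.H := (mem_H P.model).2 (P.hp_mem y)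

theorem exists_hel {g : GT P} (hg : g ∈ P.model.tw.H) : ∃ y, g = hel P y := by
  obtain ⟨y, e⟩ := P.exists_hp (h := lift P.model g) ((mem_H P.model).1 hg) (P.mem_T.1 g.2)
  exact ⟨y, lift_injective P.model e.symm⟩

/-- The torus parameter. -/
noncomputable def lam (g : GT P) : K := (P.χ 6 (Function.invFun (hel P) g) : K)

theorem lam_hel (y : Kˣ) : lam P (hel P y) = (P.χ 6 y : K) := by
  rw [lam, Function.leftInverse_invFun (hel_inj P) y]

theorem χ6_mul (a b : Kˣ) : P.χ 6 (a * b) = P.χ 6 a * P.χ 6 b := by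
  simp only [P.χ6, mul_pow, mul_inv]
  exact mul_mul_mul_comm _ _ _ _

theorem χ6_bij : Function.Bijective (P.χ 6) := by
  refine Finite.injective_iff_bijective.1 fun a b h => ?_
  have h1 := χ6_mul P (a * b⁻¹) b
  rw [inv_mul_cancel_right, h] at h1
  exact mul_inv_eq_one.1 (P.χ6_eq_one (mul_eq_right.1 h1.symm))

theorem pow_cancel (y : Kˣ) : ((y ^ P.e) ^ 3) ^ P.e = y := by
  rw [← pow_mul, ← pow_mul, show P.e * (3 * P.e) = 3 * P.e ^ 2 by ring, P.units_pow_card]

theorem χ8_eq (y : Kˣ) : P.χ 8 y = P.χ 6 y ^ (P.e + 1) := by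
  rw [P.χ6, P.χ8, pow_succ, mul_pow, inv_pow, pow_cancel, pow_right_comm y 2 P.e]
  refine Units.ext ?_
  simp only [Units.val_mul, Units.val_inv_eq_inv_val, Units.val_pow_eq_pow_val]
  field_simp

theorem χ9_eq (y : Kˣ) : P.χ 9 y = P.χ 6 y ^ (2 * P.e + 1) := by
  rw [P.χ6, P.χ9, pow_succ, mul_comm 2 P.e, pow_mul, mul_pow, inv_pow, pow_cancel,
    pow_right_comm y 2 P.e, mul_pow, inv_pow, ← pow_mul (y ^ P.e) 2 2,
    show 2 * 2 = 3 + 1 from rfl, pow_succ (y ^ P.e) 3]
  refine Units.ext ?_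
  simp only [Units.val_mul, Units.val_inv_eq_inv_val, Units.val_pow_eq_pow_val]
  field_simp

theorem hel_conj (y : Kˣ) (a c d : K) : hel P y * el P (a, c, d) * (hel P y)⁻¹ =
    el P ((P.χ 6 y : K) * a, (P.χ 6 y : K) ^ (P.e + 1) * c,
      (P.χ 6 y : K) ^ (2 * P.e + 1) * d) := by
  refine lift_injective P.model ?_
  rw [lift_mul, lift_mul, lift_inv, lift_el, lift_el]
  show P.hp y * P.U1 a c d * (P.hp y)⁻¹ = _
  rw [P.hp_conj_U1, χ8_eq, χ9_eq, Units.val_pow_eq_pow_val, Units.val_pow_eq_pow_val]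

/-- The second layer. -/
noncomputable def L1 : Subgroup (GT P) where
  carrier := {g | ∃ c d, g = el P (0, c, d)}
  one_mem' := ⟨0, 0, (el_zero P).symm⟩
  mul_mem' := by
    rintro _ _ ⟨c, d, rfl⟩ ⟨c', d', rfl⟩
    exact ⟨c + c', d + d', by rw [el_mul, P.th_zero]; simp⟩
  inv_mem' := by
    rintro _ ⟨c, d, rfl⟩
    refine ⟨-c, -d, inv_eq_of_mul_eq_one_right ?_⟩
    rw [el_mul, P.th_zero, ← el_zero P]
    simp

/-- The third layer. -/
noncomputable def L2 : Subgroup (GT P) where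
  carrier := {g | ∃ d, g = el P (0, 0, d)}
  one_mem' := ⟨0, (el_zero P).symm⟩
  mul_mem' := by
    rintro _ _ ⟨d, rfl⟩ ⟨d', rfl⟩
    exact ⟨d + d', by rw [el_mul, P.th_zero]; simp⟩
  inv_mem' := by
    rintro _ ⟨d, rfl⟩
    refine ⟨-d, inv_eq_of_mul_eq_one_right ?_⟩
    rw [el_mul, P.th_zero, ← el_zero P]
    simp

theorem exists_th_ne (hq : 4 < Nat.card K) : ∃ t : K, P.th t ≠ t := by
  by_contra hcon
  push Not at hcon
  obtain ⟨y, hy⟩ := P.exists_torus hq
  have h1 : ((y : K) ^ P.e) ^ (3 * P.e) = (y : K) := P.ti_th _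
  rw [show (y : K) ^ P.e = y from hcon _, mul_comm, pow_mul,
    show (y : K) ^ P.e = y from hcon _] at h1
  refine hy (Units.ext ?_)
  rw [Units.val_pow_eq_pow_val, Units.val_one]
  exact mul_right_cancel₀ y.ne_zero (by rw [one_mul, ← pow_succ]; exact h1)

theorem span2 : AddSubgroup.closure (Set.range fun t : K => t ^ (P.e + 1)) = ⊤ := by
  have hsq : ∀ u : K, u ^ 2 ∈ Set.range fun t : K => t ^ (P.e + 1) := by
    intro u
    by_cases hu : u = 0
    · exact ⟨0, by simp [hu]⟩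
    refine ⟨(u ^ (3 * P.e - 3))⁻¹, ?_⟩
    show ((u ^ (3 * P.e - 3))⁻¹) ^ (P.e + 1) = u ^ 2
    rw [inv_pow, ← pow_mul]
    refine inv_eq_of_mul_eq_one_left (mul_right_cancel₀ hu ?_)
    obtain ⟨k, hk⟩ : ∃ k, P.e = k + 1 := ⟨P.e - 1, by have := P.e_pos; omega⟩
    rw [one_mul, ← pow_add, ← pow_succ]
    conv_rhs => rw [← P.pow_card u]
    congr 1
    rw [hk, show 3 * (k + 1) - 3 = 3 * k by omega]
    ring
  refine eq_top_iff.2 fun x _ => ?_
  have e : x = (x + 1) ^ 2 - (x - 1) ^ 2 := by linear_combination -x * P.three_eq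
  rw [e]
  exact sub_mem (AddSubgroup.subset_closure (hsq _)) (AddSubgroup.subset_closure (hsq _))

theorem span3 : AddSubgroup.closure (Set.range fun t : K => t ^ (2 * P.e + 1)) = ⊤ := by
  refine eq_top_iff.2 fun u _ => AddSubgroup.subset_closure ?_
  by_cases hu : u = 0
  · exact ⟨0, by simp [hu]⟩
  refine ⟨(P.χ 6 (Units.mk0 u hu ^ (3 * P.e)) : K), ?_⟩
  show (P.χ 6 (Units.mk0 u hu ^ (3 * P.e)) : K) ^ (2 * P.e + 1) = u
  rw [← Units.val_pow_eq_pow_val, ← χ9_eq, P.χ9, P.units_th_ti, Units.val_mk0]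

/-- `²G₂(q)` as a rank one group of Ree type. -/
noncomputable def ree (hq : 4 < Nat.card K) : ReeType P.model.tw K where
  w₀ := P.model.w0
  opp := tw_opp P.model
  w₀_only w := by
    refine (mult_two w).imp id fun h => ?_
    subst h
    refine ((mult_two P.model.w0).resolve_left fun e => ?_).symm
    exact w0_ne (K := K) (P.model.ι_w0.symm.trans (by rw [e, map_one]))
  c1 g := (co P g).1
  c2 g := (co P g).2.1
  c3 g := (co P g).2.2
  U1 := L1 P
  U2 := L2 P
  le1 := by rintro _ ⟨c, d, rfl⟩; exact el_mem P _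
  le2 := by rintro _ ⟨d, rfl⟩; exact ⟨0, d, rfl⟩
  add1 x hx y hy := by
    obtain ⟨⟨a, c, d⟩, rfl⟩ := exists_el P hx
    obtain ⟨⟨a', c', d'⟩, rfl⟩ := exists_el P hy
    simp only [el_mul, co_el]
  add2 := by
    rintro _ ⟨c, d, rfl⟩ _ ⟨c', d', rfl⟩
    simp [el_mul, co_el, P.th_zero]
  add3 := by
    rintro _ ⟨d, rfl⟩ _ ⟨d', rfl⟩
    simp [el_mul, co_el, P.th_zero]
  ker1 x hx := by
    obtain ⟨⟨a, c, d⟩, rfl⟩ := exists_el P hx
    simp only [co_el]
    constructor
    · rintro rfl; exact ⟨c, d, rfl⟩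
    · rintro ⟨c', d', e⟩; exact congrArg Prod.fst (el_inj P e)
  ker2 := by
    rintro _ ⟨c, d, rfl⟩
    simp only [co_el]
    constructor
    · rintro rfl; exact ⟨d, rfl⟩
    · rintro ⟨d', e⟩; exact congrArg (fun p => p.2.1) (el_inj P e)
  ker3 := by
    rintro _ ⟨d, rfl⟩ h
    simp only [co_el] at h
    subst h
    exact el_zero P
  surj1 t := ⟨el P (t, 0, 0), el_mem P _, by rw [co_el]⟩
  lam := lam P
  lam_ne h _ := Units.ne_zero _
  lam_inj h hh e := by
    obtain ⟨y, rfl⟩ := exists_hel P hh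
    rw [lam_hel] at e
    rw [P.χ6_eq_one (Units.ext e)]
    exact lift_injective P.model (map_one P.hp)
  lam_surj t ht := by
    obtain ⟨y, hy⟩ := (χ6_bij P).2 (Units.mk0 t ht)
    exact ⟨hel P y, hel_mem P y, by rw [lam_hel, hy, Units.val_mk0]⟩
  e2 := P.e + 1
  e3 := 2 * P.e + 1
  act1 h hh x hx := by
    obtain ⟨y, rfl⟩ := exists_hel P hh
    obtain ⟨⟨a, c, d⟩, rfl⟩ := exists_el P hx
    rw [hel_conj, co_el, co_el, lam_hel]
  act2 h hh := by
    rintro _ ⟨c, d, rfl⟩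
    obtain ⟨y, rfl⟩ := exists_hel P hh
    rw [hel_conj, mul_zero, lam_hel, co_el, co_el]
    exact ⟨⟨_, _, rfl⟩, rfl⟩
  act3 h hh := by
    rintro _ ⟨d, rfl⟩
    obtain ⟨y, rfl⟩ := exists_hel P hh
    rw [hel_conj, mul_zero, mul_zero, lam_hel, co_el, co_el]
    exact ⟨⟨_, rfl⟩, rfl⟩
  e2_even := P.odd.add_one
  e2_ne := Nat.succ_ne_zero _
  e3_odd := ⟨P.e, rfl⟩
  two_ne := by rw [P.two_eq]; exact neg_ne_zero.2 one_ne_zero
  e3_not_add := by
    obtain ⟨t, ht⟩ := exists_th_ne P hq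
    refine ⟨t, fun h => ?_⟩
    have h1 : t ^ (2 * P.e + 1) = t * P.th t ^ 2 := by rw [Par.th, ← pow_mul]; ring
    have h2 : (1 + t) ^ (2 * P.e + 1) = (1 + t) * (1 + P.th t) ^ 2 := by
      rw [show (1 + t) ^ (2 * P.e + 1) = (1 + t) * P.th (1 + t) ^ 2 by
        rw [Par.th, ← pow_mul]; ring, P.th_add, P.th_one]
    rw [h1, h2] at h
    have h3 : (P.th t - t) * (P.th t - 1) = 0 := by
      linear_combination h - (P.th t + t * P.th t) * P.three_eq
    rcases mul_eq_zero.1 h3 with h4 | h4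
    · exact ht (sub_eq_zero.1 h4)
    · have h5 := P.ti_th t
      rw [sub_eq_zero.1 h4, Par.ti, one_pow] at h5
      exact ht (by rw [← h5, P.th_one])
  span2 := span2 P
  span3 := span3 P
  central := by
    rintro _ ⟨d, rfl⟩ x hx
    obtain ⟨⟨a, c', d'⟩, rfl⟩ := exists_el P hx
    rw [el_mul, el_mul, P.th_zero]
    refine congrArg (el P) (Prod.ext ?_ (Prod.ext ?_ ?_)) <;> simp [add_comm]
  comm1 := by
    rintro _ ⟨c, d, rfl⟩ _ ⟨c', d', rfl⟩
    rw [el_mul, el_mul, P.th_zero]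
    refine congrArg (el P) (Prod.ext ?_ (Prod.ext ?_ ?_)) <;> simp [add_comm]
  comm_mem := by
    rintro _ ⟨c, d, rfl⟩ y hy
    obtain ⟨⟨a, c', d'⟩, rfl⟩ := exists_el P hy
    refine ⟨-(P.th a * c), ?_⟩
    have e : el P (0, c, d) * el P (a, c', d') =
        el P (0, 0, -(P.th a * c)) * (el P (a, c', d') * el P (0, c, d)) := by
      simp only [el_mul, P.th_zero]
      refine congrArg (el P) (Prod.ext ?_ (Prod.ext ?_ ?_)) <;> dsimp only <;> ring
    rw [commutatorElement_def, e]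
    group
  comm_mem' := by
    intro x hx y hy
    obtain ⟨⟨a, c, d⟩, rfl⟩ := exists_el P hx
    obtain ⟨⟨a', c', d'⟩, rfl⟩ := exists_el P hy
    obtain ⟨⟨a2, c2, d2⟩, e⟩ :=
      exists_el P (mul_mem (mul_mem (mul_mem (el_mem P (a, c, d)) (el_mem P (a', c', d')))
        (inv_mem (el_mem P (a, c, d)))) (inv_mem (el_mem P (a', c', d'))))
    refine ⟨c2, d2, ?_⟩
    have e' := e
    rw [mul_inv_eq_iff_eq_mul, mul_inv_eq_iff_eq_mul, el_mul, el_mul, el_mul] at e'
    have h0 : a2 = 0 := by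
      have := congrArg Prod.fst (el_inj P e')
      dsimp only at this
      linear_combination -this
    rw [commutatorElement_def, e, h0]
  comm_ne := by
    obtain ⟨t, ht⟩ := exists_th_ne P hq
    refine ⟨el P (1, 0, 0), el_mem P _, el P (t, 0, 0), el_mem P _, ?_⟩
    rintro ⟨d, e⟩
    rw [commutatorElement_def, mul_inv_eq_iff_eq_mul, mul_inv_eq_iff_eq_mul, el_mul, el_mul,
      el_mul] at e
    have h2 := congrArg (fun p => p.2.1) (el_inj P e)
    simp only [P.th_one, P.th_zero] at h2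
    exact ht (by linear_combination h2)
  comm_ne' := by
    refine ⟨el P (0, 1, 0), ⟨1, 0, rfl⟩, el P (1, 0, 0), el_mem P _, fun e => ?_⟩
    rw [commutatorElement_eq_one_iff_mul_comm, el_mul, el_mul] at e
    have h3 := congrArg (fun p => p.2.2) (el_inj P e)
    simp [P.th_zero, P.th_one] at h3

/-- The generation by `U` and one element outside `B`. -/
theorem gen (L : Subgroup (GT P)) (hU : P.model.tw.U ≤ L)
    (hn : P.model.tw.n P.model.w0 ∈ L) : L = ⊤ := by
  set N := P.model.tw.n P.model.w0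
  obtain ⟨k, hk, ek⟩ := lift_n P.model P.model.w0
  rw [P.model.ι_w0] at ek
  have hgen : twistedG2 K P.e ≤ L.map P.model.T.subtype := by
    rw [P.T_eq, Subgroup.map_le_iff_le_comap, Subgroup.closure_le]
    rintro g ⟨a, c, d, rfl | rfl⟩
    · exact ⟨el P (a, c, d), hU (el_mem P _), rfl⟩
    · let v : GT P := ⟨(P.V1 a c d : ↥(chevG2.group K)).1, P.mem_T.2 (P.σ_V1 a c d)⟩
      have hv : N⁻¹ * v * N ∈ P.model.tw.U := by
        rw [mem_U, lift_mul, lift_mul, lift_inv, ek]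
        have hneg : k⁻¹ * P.V1 a c d * k⁻¹⁻¹ ∈
            XS (Q K).sys.x (↑(negSet chevG2) : Set ℕ) := by
          refine conj_mem_XS (fun r hr t => ?_) (P.V1_neg a c d)
          obtain ⟨t', e'⟩ :=
            (Q K).sys.h_conj k⁻¹ (inv_mem hk) r (mem_negSet.1 (Finset.mem_coe.1 hr)).1 t
          rw [e']
          exact x_mem_XS hr _
        have h2 := neg_conj hneg
        show (k * (Q K).sys.rep (w0 K))⁻¹ * P.V1 a c d * (k * (Q K).sys.rep (w0 K)) ∈ (Q K).sys.U
        convert h2 using 1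
        group
      exact ⟨v, by simpa [mul_assoc] using mul_mem (mul_mem hn (hU hv)) (inv_mem hn), rfl⟩
  refine eq_top_iff.2 fun g _ => ?_
  obtain ⟨z, hz, e⟩ := hgen g.2
  rwa [← Subtype.ext (a1 := z) (a2 := g) e]

/-- The field automorphisms of the Chevalley group. -/
def fe (f : RingAut K) : MulAut ↥(chevG2.group K) :=
  MonoidHom.toMulEquiv (H37.Twist.fieldHom f.toRingHom) (H37.Twist.fieldHom f.symm.toRingHom)
    (MonoidHom.eq_of_eqOn_dense closure_xe (by
      rintro _ ⟨r, t, hr, rfl⟩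
      simp [H37.Twist.fieldHom_xG]))
    (MonoidHom.eq_of_eqOn_dense closure_xe (by
      rintro _ ⟨r, t, hr, rfl⟩
      simp [H37.Twist.fieldHom_xG]))

omit [Fintype K] in
theorem fe_xe (f : RingAut K) (r : ℕ) (t : K) : fe f (xe r t) = xe r (f t) :=
  H37.Twist.fieldHom_xG (Q K) f.toRingHom r t

theorem fe_σ (f : RingAut K) (g : ↥(chevG2.group K)) :
    P.endo.σ (fe f g) = fe f (P.endo.σ g) := by
  refine DFunLike.congr_fun (MonoidHom.eq_of_eqOn_dense closure_xe
    (f := P.endo.σ.comp (fe f).toMonoidHom) (g := (fe f).toMonoidHom.comp P.endo.σ) ?_) g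
  rintro _ ⟨r, t, hr, rfl⟩
  simp only [MonoidHom.comp_apply, MulEquiv.coe_toMonoidHom]
  rw [fe_xe, P.σ_x hr, P.σ_x hr, fe_xe]
  simp [Par.f, map_pow]

omit [Fintype K] in
theorem fe_XS (f : RingAut K) (S : Set ℕ) {g : ↥(chevG2.group K)} :
    fe f g ∈ XS (Q K).sys.x S ↔ g ∈ XS (Q K).sys.x S := by
  have h : ∀ f' : RingAut K,
      XS (Q K).sys.x S ≤ (XS (Q K).sys.x S).comap (fe f').toMonoidHom := fun f' =>
    XS_le fun r hr t => by
      show fe f' (xe r t) ∈ XS (Q K).sys.x S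
      rw [fe_xe]
      exact x_mem_XS hr _
  refine ⟨fun hg => ?_, fun hg => h f hg⟩
  have h2 : fe f.symm (fe f g) ∈ XS (Q K).sys.x S := h f.symm hg
  rwa [show fe f.symm (fe f g) = g from (fe f).symm_apply_apply g] at h2

/-- An automorphism of the Chevalley group stabilising the twisted group, restricted to it. -/
noncomputable def restrictAut (φ : MulAut ↥(chevG2.group K))
    (h : P.model.TG.map φ.toMonoidHom = P.model.TG) : MulAut (GT P) :=
  (Subgroup.subgroupOfEquivOfLe P.model.le_group).symm.trans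
    (((φ.subgroupMap P.model.TG).trans (MulEquiv.subgroupCongr h)).trans
      (Subgroup.subgroupOfEquivOfLe P.model.le_group))

/-- The field automorphisms of `²G₂(q)`. -/
noncomputable def field (f : RingAut K) : MulAut (GT P) :=
  restrictAut P (fe f) (by
    refine Subgroup.eq_of_le_of_card_ge ?_
      (Nat.card_congr (Subgroup.equivMapOfInjective _ _ (fe f).injective).toEquiv).le
    rintro _ ⟨g, hg, rfl⟩
    show fe f g ∈ P.TG
    rw [P.TG_iff, fe_σ, P.TG_iff.1 hg])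

theorem lift_field (f : RingAut K) (g : GT P) :
    lift P.model (field P f g) = fe f (lift P.model g) := rfl

theorem mem_V {g : GT P} :
    g ∈ Vopp P.model.tw P.model.w0 ↔
      lift P.model g ∈ XS (Q K).sys.x (↑(negSet chevG2) : Set ℕ) := by
  rw [mem_Vopp' P.model, mem_Vopp]
  refine ⟨fun h => ?_, neg_conj⟩
  have := rep_conj_U (K := K) h
  convert this using 1
  show _ = (Q K).sys.rep (w0 K) * (((Q K).sys.rep (w0 K))⁻¹ * lift P.model g *
    (Q K).sys.rep (w0 K)) * ((Q K).sys.rep (w0 K))⁻¹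
  group

theorem field_el (f : RingAut K) (a c d : K) :
    field P f (el P (a, c, d)) = el P (f a, f c, f d) := by
  refine lift_injective P.model ?_
  rw [lift_field, lift_el, lift_el]
  simp only [Par.U1, N, map_mul, fe_xe, map_add, map_pow, Par.th, Par.ti]

theorem field_spec (hq : 4 < Nat.card K) (f : RingAut K) :
    Fix (field P f) P.model.tw.U ∧ Fix (field P f) (Vopp P.model.tw (ree P hq).w₀) ∧
      ∀ x ∈ P.model.tw.U, (ree P hq).c1 (field P f x) = f ((ree P hq).c1 x) := by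
  refine ⟨fun g => ?_, fun g => ?_, fun x hx => ?_⟩
  · rw [mem_U, mem_U, lift_field]
    exact fe_XS f _
  · show field P f g ∈ Vopp P.model.tw P.model.w0 ↔ g ∈ Vopp P.model.tw P.model.w0
    rw [mem_V, mem_V, lift_field]
    exact fe_XS f _
  · obtain ⟨⟨a, c, d⟩, rfl⟩ := exists_el P hx
    show (co P _).1 = f (co P _).1
    rw [field_el, co_el, co_el]

/-- `|Out ²G₂(q)| = |Aut K|`. -/
theorem card_out (hq : 4 < Nat.card K) :
    Nat.card (Cfsg.Out ↥(twistedG2 K P.e)) = Nat.card (RingAut K) :=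
  ReeType.card_out (ree P hq) (gen P) (exists_inner P.model) (field P) (field_spec P hq)

end Cfsg.Agent.H56.TwAut.G2
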