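import Cfsg.Agent.H56.TwAut.Frame
import Cfsg.Prelude.Def_KGroupFacts

/-!
Every automorphism of a finite group with parametrised fundamental root groups is inner · diagonal ·
field; the order of the outer automorphism group.
-/
set_option autoImplicit false

namespace Cfsg.Agent.H56.TwAut

open Cfsg.Agent.H37 Cfsg.Agent.H56.ChevAut

variable {G W : Type*} [Group G] [Group W] {A : Tits.Ambient G W} {K : Type*} [Field K]
  {ι : Type*}

/-- The diagonal and field automorphisms of a group with parametrised root groups, and what forces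
an arbitrary automorphism to be one of them up to an inner one. -/
structure Auts (F : Frames A K ι) where
  rigid : F.Rigid
  ext : ∀ θ η : G ≃* G, (∀ i t, θ (F.x i t) = η (F.x i t)) →
    (∀ i t, θ (F.y i t) = η (F.y i t)) → θ = η
  inner : ∀ θ : G ≃* G, ∃ g, Fix (θ.trans (MulAut.conj g)) A.U ∧
    Fix (θ.trans (MulAut.conj g)) (Vopp A F.w₀)
  centre : ∀ h ∈ A.H, MulAut.conj h = 1 → h = 1
  diag : (∀ i, (F.k i)ˣ) → MulAut G
  diag_x : ∀ c i t, diag c (F.x i t) = F.x i ((c i : F.k i) * t)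
  diag_y : ∀ c i t, diag c (F.y i t) = F.y i (((c i)⁻¹ : (F.k i)ˣ) * t)
  k_map : ∀ (f : RingAut K) i (t : K), t ∈ F.k i → f t ∈ F.k i
  field : RingAut K → MulAut G
  field_x : ∀ f i (t : F.k i), field f (F.x i t) = F.x i ⟨f t, k_map f i t t.2⟩
  field_y : ∀ f i (t : F.k i), field f (F.y i t) = F.y i ⟨f t, k_map f i t t.2⟩
  glue : ∀ s : ∀ i, F.k i ≃+* F.k i,
    (∀ i j (t : F.k i), t ≠ 0 → s j (F.χ i j t) = F.χ i j (s i t)) →
      ∃ f : RingAut K, ∀ i (t : F.k i), ((s i t : F.k i) : K) = f t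
  std : ∀ c f, Fix (diag c * field f) A.U ∧ Fix (diag c * field f) (Vopp A F.w₀)
  faithful : ∀ f f' : RingAut K, (∀ i (t : F.k i), f (t : K) = f' t) → f = f'

namespace Auts

variable {F : Frames A K ι} (Au : Auts F)
include Au

theorem diag_std (c : ∀ i, (F.k i)ˣ) (f : RingAut K) (i : ι) (t : F.k i) :
    (Au.diag c * Au.field f) (F.x i t) = F.x i ((c i : F.k i) * ⟨f t, Au.k_map f i t t.2⟩) := by
  rw [MulAut.mul_apply, Au.field_x, Au.diag_x]

theorem diag_std' (c : ∀ i, (F.k i)ˣ) (f : RingAut K) (i : ι) (t : F.k i) :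
    (Au.diag c * Au.field f) (F.y i t) =
      F.y i (((c i)⁻¹ : (F.k i)ˣ) * ⟨f t, Au.k_map f i t t.2⟩) := by
  rw [MulAut.mul_apply, Au.field_y, Au.diag_y]

/-- An automorphism stabilising `U` and its opposite is diagonal · field. -/
theorem exists_std [Finite K] {θ : G ≃* G} (hU : Fix θ A.U) (hV : Fix θ (Vopp A F.w₀)) :
    ∃ c f, θ = Au.diag c * Au.field f := by
  have h := F.exists_params Au.rigid hU hV
  choose a ha using fun i t => (h i t).1
  choose b hb using fun i t => (h i t).2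
  have hne : ∀ i, a i 1 ≠ 0 := by
    intro i e
    have := ha i 1
    rw [e, F.x_zero, ← map_one θ, ← F.x_zero i] at this
    exact one_ne_zero (F.x_inj i (θ.injective this))
  let c : ∀ i, (F.k i)ˣ := fun i => Units.mk0 (a i 1) (hne i)
  let c' : ∀ i, (F.k i)ˣ := fun i => (c i)⁻¹
  let η : G ≃* G := θ.trans (Au.diag c')
  have hη : F.Normal η (fun i t => (c' i : F.k i) * a i t)
      (fun i t => (c i : F.k i) * b i t) := by
    refine ⟨fun i t => ?_, fun i t => ?_, fun i => ?_⟩
    · rw [MulEquiv.trans_apply, ha, Au.diag_x]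
    · rw [MulEquiv.trans_apply, hb, Au.diag_y, inv_inv]
    · exact Units.inv_mul (c i)
  have hcompat : ∀ i j (t : F.k i), t ≠ 0 →
      hη.fld F j (F.χ i j t) = F.χ i j (hη.fld F i t) := by
    intro i j t ht
    have := hη.torus F i j ht 1
    rwa [mul_one, hη.one, mul_one, ← hη.fld_apply F j, ← hη.fld_apply F i] at this
  obtain ⟨f, hf⟩ := Au.glue (hη.fld F) hcompat
  have hfa : ∀ i (t : F.k i), (⟨f t, Au.k_map f i t t.2⟩ : F.k i) = (c' i : F.k i) * a i t :=
    fun i t => Subtype.ext (hf i t).symm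
  refine ⟨c, f, Au.ext _ _ (fun i t => ?_) fun i t => ?_⟩
  · rw [Au.diag_std, hfa, ha, ← mul_assoc, Units.mul_inv, one_mul]
  · rw [Au.diag_std', hb, hfa, ← hη.b_eq F i t, ← mul_assoc, Units.inv_mul, one_mul]

theorem eq_of_x {θ : G ≃* G} {c c' : ∀ i, (F.k i)ˣ} {f f' : RingAut K}
    (h : θ = Au.diag c * Au.field f) (h' : θ = Au.diag c' * Au.field f') : c = c' ∧ f = f' := by
  have key : ∀ i (t : F.k i), (c i : F.k i) * ⟨f t, Au.k_map f i t t.2⟩
      = (c' i : F.k i) * ⟨f' t, Au.k_map f' i t t.2⟩ := fun i t =>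
    F.x_inj i (by rw [← Au.diag_std, ← Au.diag_std, ← h, ← h'])
  have hc : ∀ i, c i = c' i := fun i => by
    have := key i 1
    refine Units.ext ?_
    rw [← Subtype.coe_inj] at this ⊢
    simpa using this
  refine ⟨funext hc, Au.faithful _ _ fun i t => ?_⟩
  have := key i t
  rw [hc i] at this
  exact congrArg Subtype.val (mul_left_cancel₀ (c' i).ne_zero this)

/-- `|Out G| |H| = |Aut K| |∏ kᵢˣ|`. -/
theorem card_out [Finite K] : Nat.card (Cfsg.Out G) * Nat.card A.H =
    Nat.card (RingAut K) * Nat.card (∀ i, (F.k i)ˣ) := by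
  have hH : ∀ h : A.H, ∃ c : ∀ i, (F.k i)ˣ, MulAut.conj (h : G) = Au.diag c := fun h => by
    choose c hc using F.H_conj h h.2
    exact ⟨c, Au.ext _ _ (fun i t => by rw [MulAut.conj_apply, (hc i t).1, Au.diag_x])
      fun i t => by rw [MulAut.conj_apply, (hc i t).2, Au.diag_y]⟩
  choose cH hcH using hH
  let m : (∀ i, (F.k i)ˣ) × RingAut K → Cfsg.Out G := fun p =>
    QuotientGroup.mk (Au.diag p.1 * Au.field p.2)
  have hsurj : Function.Surjective m := by
    intro o
    obtain ⟨θ, rfl⟩ := QuotientGroup.mk_surjective o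
    obtain ⟨g, hU, hV⟩ := Au.inner θ
    obtain ⟨c, f, e⟩ := Au.exists_std hU hV
    refine ⟨(c, f), ?_⟩
    show QuotientGroup.mk (Au.diag c * Au.field f) = _
    rw [← e]
    refine (QuotientGroup.eq.2 ?_).symm
    have : θ⁻¹ * θ.trans (MulAut.conj g) = MulAut.conj (θ.symm g) := by
      ext z
      simp [MulAut.mul_apply, MulAut.inv_def]
    exact ⟨θ.symm g, this.symm⟩
  choose r hr using hsurj
  have hmul : ∀ c d : ∀ i, (F.k i)ˣ, Au.diag (c * d) = Au.diag c * Au.diag d := fun c d =>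
    Au.ext _ _ (fun i t => by
        rw [MulAut.mul_apply, Au.diag_x, Au.diag_x, Au.diag_x, Pi.mul_apply, Units.val_mul,
          mul_assoc])
      fun i t => by
        rw [MulAut.mul_apply, Au.diag_y, Au.diag_y, Au.diag_y, Pi.mul_apply, mul_inv,
          Units.val_mul, mul_assoc]
  let φ : A.H × Cfsg.Out G → (∀ i, (F.k i)ˣ) × RingAut K := fun p =>
    (cH p.1 * (r p.2).1, (r p.2).2)
  have hφm : ∀ p, m (φ p) = p.2 := fun p => by
    conv_rhs => rw [← hr p.2]
    simp only [φ, m, hmul, ← hcH]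
    rw [mul_assoc, QuotientGroup.mk_mul,
      (QuotientGroup.eq_one_iff _).2 (show MulAut.conj (p.1 : G) ∈ Cfsg.Inn G from ⟨_, rfl⟩),
      one_mul]
  have hcinj : Function.Injective cH := fun h h' e => by
    refine Subtype.ext (mul_inv_eq_one.1 (Au.centre _ (mul_mem h.2 (inv_mem h'.2)) ?_))
    rw [map_mul, map_inv, hcH, hcH, e, mul_inv_cancel]
  have hbij : Function.Bijective φ := by
    refine ⟨fun p q e => ?_, fun cf => ?_⟩
    · have ho : p.2 = q.2 := by rw [← hφm p, ← hφm q, e]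
      refine Prod.ext (hcinj ?_) ho
      have h1 := congrArg Prod.fst e
      simp only [φ, ho] at h1
      exact mul_right_cancel h1
    · obtain ⟨c, f⟩ := cf
      set o := m (c, f) with ho
      obtain ⟨g, hg⟩ : (Au.diag c * Au.field f) * (Au.diag (r o).1 * Au.field (r o).2)⁻¹
          ∈ Cfsg.Inn G := by
        have h1 : QuotientGroup.mk (Au.diag c * Au.field f)
            = (QuotientGroup.mk (Au.diag (r o).1 * Au.field (r o).2) : Cfsg.Out G) := (hr o).symm
        rw [← QuotientGroup.eq_one_iff (N := Cfsg.Inn G), QuotientGroup.mk_mul,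
          QuotientGroup.mk_inv, h1, mul_inv_cancel]
      have e : Au.diag c * Au.field f
          = MulAut.conj g * (Au.diag (r o).1 * Au.field (r o).2) := by
        rw [hg, inv_mul_cancel_right]
      have hg2 : MulAut.conj g
          = (Au.diag (r o).1 * Au.field (r o).2).symm.trans (Au.diag c * Au.field f) := by
        rw [hg]; rfl
      have hU : Fix (MulAut.conj g) A.U := hg2 ▸ (Au.std _ _).1.symm.trans (Au.std c f).1
      have hV : Fix (MulAut.conj g) (Vopp A F.w₀) := hg2 ▸ (Au.std _ _).2.symm.trans (Au.std c f).2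
      have hg' := mem_H_of_fix A F.opp hU hV
      have := Au.eq_of_x (θ := Au.diag c * Au.field f) rfl
        (c' := cH ⟨g, hg'⟩ * (r o).1) (f' := (r o).2) (by rw [e, hmul, ← hcH, mul_assoc])
      exact ⟨(⟨g, hg'⟩, o), Prod.ext this.1.symm this.2.symm⟩
  have hc := Nat.card_congr (Equiv.ofBijective φ hbij)
  rw [Nat.card_prod, Nat.card_prod] at hc
  rw [mul_comm, hc, mul_comm]

end Auts

end Cfsg.Agent.H56.TwAut
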