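import Cfsg.Agent.H56.ChevAut.Roots
import Cfsg.Prelude.Def_KGroupFacts

/-!
An automorphism of a finite split Tits system stabilising `U` and its opposite: the torus, the
longest representative, the rank one root groups; the outer automorphism group once every such
automorphism is inner · standard.
-/
set_option autoImplicit false

namespace Cfsg.Agent.H56.TwAut

open Cfsg.Agent.H37 Cfsg.Agent.H56.ChevAut

variable {G W : Type*} [Group G] [Group W] {A : Tits.Ambient G W} {w₀ : W}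

/-- The opposite and the position of `n_w U_w n_w⁻¹` in it. -/
structure Flip (A : Tits.Ambient G W) (w₀ : W) : Prop where
  opp : Opp A w₀
  flip : ∀ w, ∀ b ∈ A.Uw w, A.n w * b * (A.n w)⁻¹ ∈ Vopp A w₀

theorem H_conj_Vopp {h : G} (hh : h ∈ A.H) {z : G} (hz : z ∈ Vopp A w₀) :
    h * z * h⁻¹ ∈ Vopp A w₀ := by
  rw [mem_Vopp] at hz ⊢
  rw [show (A.n w₀)⁻¹ * (h * z * h⁻¹) * A.n w₀ = ((A.n w₀)⁻¹ * h * A.n w₀) *
    ((A.n w₀)⁻¹ * z * A.n w₀) * ((A.n w₀)⁻¹ * h * A.n w₀)⁻¹ by group]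
  exact A.H_conj_U _ (A.n_conj_H' w₀ hh) _ hz

theorem fix_conj_H {h : G} (hh : h ∈ A.H) :
    Fix (MulAut.conj h) A.U ∧ Fix (MulAut.conj h) (Vopp A w₀) := by
  refine ⟨fun x => ?_, fun x => ?_⟩
  · exact ⟨fun hx => by simpa [mul_assoc] using A.H_conj_U _ (inv_mem hh) _ hx, A.H_conj_U h hh x⟩
  · exact ⟨fun hx => by simpa [mul_assoc] using H_conj_Vopp (inv_mem hh) hx, H_conj_Vopp hh⟩

namespace Flip

variable (F : Flip A w₀)
include F

theorem fix_H {θ : G ≃* G} (hU : Fix θ A.U) (hV : Fix θ (Vopp A w₀)) {h : G} (hh : h ∈ A.H) :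
    θ h ∈ A.H := by
  refine mem_H_of_fix A F.opp (fun x => ?_) (fun x => ?_) <;>
    obtain ⟨x, rfl⟩ := θ.surjective x
  · rw [MulAut.conj_apply, ← map_inv, ← map_mul, ← map_mul, hU, hU]
    exact (fix_conj_H (w₀ := w₀) hh).1 x
  · rw [MulAut.conj_apply, ← map_inv, ← map_mul, ← map_mul, hV, hV]
    exact (fix_conj_H hh).2 x

theorem fix_n0 {θ : G ≃* G} (hU : Fix θ A.U) (hV : Fix θ (Vopp A w₀)) :
    (A.n w₀)⁻¹ * θ (A.n w₀) ∈ A.H := by
  set n := A.n w₀ with hn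
  have hswap : ∀ z, n * z * n⁻¹ ∈ A.U ↔ z ∈ Vopp A w₀ := fun z => F.opp.swap
  have hVU : ∀ z, n * z * n⁻¹ ∈ Vopp A w₀ ↔ z ∈ A.U := fun z => by
    rw [mem_Vopp, show (A.n w₀)⁻¹ * (n * z * n⁻¹) * A.n w₀ = z by simp only [hn]; group]
  refine mem_H_of_fix A F.opp (fun z => ?_) (fun z => ?_) <;>
    obtain ⟨z, rfl⟩ := θ.surjective z
  · rw [← hVU, MulAut.conj_apply, show n * (n⁻¹ * θ n * θ z * (n⁻¹ * θ n)⁻¹) * n⁻¹
      = θ n * θ z * (θ n)⁻¹ by group, ← map_inv, ← map_mul, ← map_mul, hV, hVU, hU]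
  · rw [← hswap, MulAut.conj_apply, show n * (n⁻¹ * θ n * θ z * (n⁻¹ * θ n)⁻¹) * n⁻¹
      = θ n * θ z * (θ n)⁻¹ by group, ← map_inv, ← map_mul, ← map_mul, hU, hswap, hV]

theorem mem_Uw_iff (w : W) {u : G} :
    u ∈ A.Uw w ↔ u ∈ A.U ∧ A.n w * u * (A.n w)⁻¹ ∈ Vopp A w₀ := by
  refine ⟨fun h => ⟨A.Uw_le w h, F.flip w u h⟩, fun ⟨hu, hv⟩ => ?_⟩
  obtain ⟨a, ha, h, hh, w', b, hb, e⟩ := A.exists_eq (A.n w * u)
  have h1 : A.n w * u ∈ Cell A w :=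
    (mem_Cell A).2 ⟨1, one_mem _, u, A.U_le_B hu, by rw [one_mul]⟩
  obtain rfl : w = w' := Cell_unique A h1
    ((mem_Cell A).2 ⟨a * h, ⟨a, ha, h, hh, rfl⟩, b, A.U_le_B (A.Uw_le w' hb), e⟩)
  have h2 : A.n w * u * (A.n w)⁻¹ * (A.n w * b * (A.n w)⁻¹)⁻¹ = a * h := by rw [e]; group
  have h3 := F.opp.V_inter_B (mul_mem hv (inv_mem (F.flip w b hb)))
    (by rw [h2]; exact ⟨a, ha, h, hh, rfl⟩)
  rwa [mul_left_cancel (mul_right_cancel (mul_inv_eq_one.1 h3))]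

theorem H_conj_Uw (w : W) {h x : G} (hh : h ∈ A.H) (hx : x ∈ A.Uw w) :
    h * x * h⁻¹ ∈ A.Uw w := by
  obtain ⟨h1, h2⟩ := (F.mem_Uw_iff w).1 hx
  refine (F.mem_Uw_iff w).2 ⟨A.H_conj_U h hh x h1, ?_⟩
  rw [show A.n w * (h * x * h⁻¹) * (A.n w)⁻¹ = (A.n w * h * (A.n w)⁻¹) *
    (A.n w * x * (A.n w)⁻¹) * (A.n w * h * (A.n w)⁻¹)⁻¹ by group]
  exact H_conj_Vopp (A.n_conj_H w h hh) h2

/-- In a normal form of an element normalising `H` the last component centralises `H`. -/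
theorem nf_fixed {u h v : G} {w : W} (hu : u ∈ A.U) (hh : h ∈ A.H) (hv : v ∈ A.Uw w)
    (hn : ∀ k ∈ A.H, u * h * A.n w * v * k * (u * h * A.n w * v)⁻¹ ∈ A.H) {k : G}
    (hk : k ∈ A.H) : k * v * k⁻¹ = v := by
  set k' := u * h * A.n w * v * k⁻¹ * (u * h * A.n w * v)⁻¹ with hk'
  have hk'H : k' ∈ A.H := hn _ (inv_mem hk)
  have e : u * (h * (A.n w * k⁻¹ * (A.n w)⁻¹)) * A.n w * (k * v * k⁻¹)
      = (k' * u * k'⁻¹) * (k' * h) * A.n w * v := by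
    calc u * (h * (A.n w * k⁻¹ * (A.n w)⁻¹)) * A.n w * (k * v * k⁻¹)
        = u * h * A.n w * v * k⁻¹ * (u * h * A.n w * v)⁻¹ * (u * h * A.n w * v) := by group
      _ = k' * (u * h * A.n w * v) := by rw [hk']
      _ = _ := by group
  exact (A.unique hu (A.H_conj_U k' hk'H u hu) (mul_mem hh (A.n_conj_H w _ (inv_mem hk)))
    (mul_mem hk'H hh) (F.H_conj_Uw w hk hv) hv e).2.2.2

variable [Finite G]

omit F in
theorem card_Cell (w : W) :
    Nat.card (Cell A w) = Nat.card A.U * Nat.card A.H * Nat.card (A.Uw w) := by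
  let f : A.U × A.H × A.Uw w → Cell A w := fun p =>
    ⟨p.1 * p.2.1 * A.n w * p.2.2, (mem_Cell A).2
      ⟨_, ⟨_, p.1.2, _, p.2.1.2, rfl⟩, _, A.U_le_B (A.Uw_le w p.2.2.2), rfl⟩⟩
  rw [← Nat.card_eq_of_bijective f ⟨fun p q e => ?_, fun ⟨g, hg⟩ => ?_⟩, Nat.card_prod,
    Nat.card_prod, mul_assoc]
  · obtain ⟨-, h1, h2, h3⟩ :=
      A.unique p.1.2 q.1.2 p.2.1.2 q.2.1.2 p.2.2.2 q.2.2.2 (congrArg Subtype.val e)
    exact Prod.ext (Subtype.ext h1) (Prod.ext (Subtype.ext h2) (Subtype.ext h3))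
  · obtain ⟨u, hu, h, hh, w', v, hv, e⟩ := A.exists_eq g
    obtain rfl : w = w' := Cell_unique A hg (e ▸ (mem_Cell A).2
      ⟨_, ⟨u, hu, h, hh, rfl⟩, v, A.U_le_B (A.Uw_le w' hv), rfl⟩)
    exact ⟨(⟨u, hu⟩, ⟨h, hh⟩, ⟨v, hv⟩), Subtype.ext e.symm⟩

omit F in
theorem card_Uw_pi {θ : G ≃* G} (hU : Fix θ A.U) (w : W) :
    Nat.card (A.Uw (piFun A θ w)) = Nat.card (A.Uw w) := by
  have hB := fix_B A hU
  have hc : Nat.card (Cell A w) = Nat.card (Cell A (piFun A θ w)) :=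
    Nat.card_congr (θ.toEquiv.subtypeEquiv fun g => (cell_iff A hB).symm)
  rw [card_Cell, card_Cell] at hc
  exact (Nat.eq_of_mul_eq_mul_left (Nat.mul_pos Nat.card_pos Nat.card_pos) hc).symm

/-- A rank one parabolic meets the opposite of `U` in the conjugate of the root group. -/
theorem V_inter_min {s : W} (hs : s ∈ A.S) {g : G} :
    g ∈ Vopp A w₀ ∧ (g ∈ A.B ∨ g ∈ Cell A s) ↔
      ∃ x ∈ A.Uw s, g = A.n s * x * (A.n s)⁻¹ := by
  classical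
  obtain ⟨-, P, hP⟩ := (isMin_iff A).2 hs
  let T := {g : G // g ∈ Vopp A w₀ ∧ (g ∈ A.B ∨ g ∈ Cell A s)}
  let y : A.Uw s → T := fun x => ⟨A.n s * x * (A.n s)⁻¹, F.flip s x x.2, by
    rw [← hP]
    exact mul_mem (mul_mem ((hP _).2 (Or.inr (n_mem_Cell A s)))
      ((hP _).2 (Or.inl (A.U_le_B (A.Uw_le s x.2))))) (inv_mem ((hP _).2 (Or.inr (n_mem_Cell A s))))⟩
  have hy : Function.Injective y := fun a b e =>
    Subtype.ext (mul_left_cancel (mul_right_cancel (congrArg Subtype.val e)))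
  have hex : ∀ g : T, ∃ b : A.Uw s,
      (g.1 ∈ A.B ∧ b = 1) ∨ (b ≠ 1 ∧ ∃ a ∈ A.B, g.1 = a * A.n s * b) := by
    rintro ⟨g, hg, h | h⟩
    · exact ⟨1, Or.inl ⟨h, rfl⟩⟩
    obtain ⟨u, hu, k, hk, w, x, hx, e⟩ := A.exists_eq g
    obtain rfl : w = s := Cell_unique A (e ▸ (mem_Cell A).2
      ⟨u * k, ⟨u, hu, k, hk, rfl⟩, x, A.U_le_B (A.Uw_le w hx), rfl⟩) h
    refine ⟨⟨x, hx⟩, Or.inr ⟨fun hx1 => ?_, u * k, ⟨u, hu, k, hk, rfl⟩, e⟩⟩
    obtain rfl : x = 1 := congrArg Subtype.val hx1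
    rw [mul_one] at e
    have h1 : g * A.n w₀ ∈ Cell A w₀ := by
      rw [show g * A.n w₀ = 1 * A.n w₀ * ((A.n w₀)⁻¹ * g * A.n w₀) by group]
      exact mul_mem_Cell A (one_mem _) (n_mem_Cell A _) (A.U_le_B ((mem_Vopp A).1 hg))
    have h2 : g * A.n w₀ ∈ Cell A (w * w₀) := by
      obtain ⟨k', hk', e'⟩ := A.n_mul w w₀
      rw [e, mul_assoc, e', show u * k * (k' * A.n (w * w₀))
        = u * k * k' * A.n (w * w₀) * 1 by group]
      exact mul_mem_Cell A (mul_mem (mul_mem (A.U_le_B hu) (A.H_le_B hk)) (A.H_le_B hk'))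
        (n_mem_Cell A _) (one_mem _)
    exact S_ne_one A hs (right_eq_mul.1 (Cell_unique A h1 h2))
  choose f hf using hex
  have hfi : Function.Injective f := by
    intro g g' e
    refine Subtype.ext ?_
    rcases hf g with ⟨h1, h2⟩ | ⟨h1, a, ha, h2⟩ <;>
      rcases hf g' with ⟨h1', h2'⟩ | ⟨h1', a', ha', h2'⟩
    · rw [F.opp.V_inter_B g.2.1 h1, F.opp.V_inter_B g'.2.1 h1']
    · exact absurd (e ▸ h2) h1'
    · exact absurd (e.trans h2') h1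
    · refine mul_inv_eq_one.1 (F.opp.V_inter_B (mul_mem g.2.1 (inv_mem g'.2.1)) ?_)
      rw [h2, h2', e, show a * A.n s * (f g' : G) * (a' * A.n s * (f g' : G))⁻¹ = a * a'⁻¹ by group]
      exact mul_mem ha (inv_mem ha')
  have hsurj := ((Nat.bijective_iff_injective_and_card y).2 ⟨hy, le_antisymm
    (Nat.card_le_card_of_injective y hy) (Nat.card_le_card_of_injective f hfi)⟩).2
  refine ⟨fun h => ?_, ?_⟩
  · obtain ⟨x, hx⟩ := hsurj ⟨g, h⟩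
    exact ⟨x, x.2, (congrArg Subtype.val hx).symm⟩
  · rintro ⟨x, hx, rfl⟩
    exact (y ⟨x, hx⟩).2

variable {s : W} (hs : s ∈ A.S) (hcomm : s * w₀ = w₀ * s)

include hs hcomm in
theorem n0_conj_mem {g : G} (hg : g ∈ Vopp A w₀) (hg' : g ∈ A.B ∨ g ∈ Cell A s) :
    A.n w₀ * g * (A.n w₀)⁻¹ ∈ A.Uw s := by
  obtain ⟨x, hx, rfl⟩ := (F.V_inter_min hs).1 ⟨hg, hg'⟩
  refine (F.mem_Uw_iff s).2 ⟨F.opp.swap.2 (F.flip s x hx), ?_⟩
  obtain ⟨a, ha, ea⟩ := A.n_mul s w₀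
  obtain ⟨b, hb, eb⟩ := A.n_mul w₀ s
  obtain ⟨c, hc, ec⟩ := A.n_mul s s
  rw [A.sq_S s hs, A.n_one, mul_one] at ec
  set n := A.n s with hn
  set n0 := A.n w₀ with hn0
  have e : n * n0 = a * b⁻¹ * (n0 * n) := by rw [ea, eb, hcomm]; group
  have e2 : n * (n0 * (n * x * n⁻¹) * n0⁻¹) * n⁻¹
      = (a * b⁻¹) * (n0 * ((n * n) * x * (n * n)⁻¹) * n0⁻¹) * (a * b⁻¹)⁻¹ := by
    calc n * (n0 * (n * x * n⁻¹) * n0⁻¹) * n⁻¹
        = (n * n0) * (n * x * n⁻¹) * (n * n0)⁻¹ := by group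
      _ = _ := by rw [e]; group
  rw [e2]
  refine H_conj_Vopp (mul_mem ha (inv_mem hb)) ?_
  rw [ec, mem_Vopp, hn0,
    show (A.n w₀)⁻¹ * (A.n w₀ * (c * x * c⁻¹) * (A.n w₀)⁻¹) * A.n w₀ = c * x * c⁻¹ by group]
  exact A.H_conj_U c hc x (A.Uw_le s hx)

include hs hcomm in
theorem exists_n0_conj {x : G} (hx : x ∈ A.Uw s) : ∃ g ∈ Vopp A w₀,
    (g ∈ A.B ∨ g ∈ Cell A s) ∧ A.n w₀ * g * (A.n w₀)⁻¹ = x := by
  have hm : ∀ z : A.Uw s, A.n w₀ * (A.n s * z * (A.n s)⁻¹) * (A.n w₀)⁻¹ ∈ A.Uw s := fun z =>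
    F.n0_conj_mem hs hcomm (F.flip s z z.2) ((F.V_inter_min hs).2 ⟨z, z.2, rfl⟩).2
  let f : A.Uw s → A.Uw s := fun z => ⟨_, hm z⟩
  have hinj : Function.Injective f := fun a b e =>
    Subtype.ext (mul_left_cancel (mul_right_cancel (mul_left_cancel (mul_right_cancel
      (congrArg Subtype.val e)))))
  obtain ⟨z, hz⟩ := Finite.injective_iff_surjective.1 hinj ⟨x, hx⟩
  exact ⟨_, F.flip s z z.2, ((F.V_inter_min hs).2 ⟨z, z.2, rfl⟩).2, congrArg Subtype.val hz⟩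

include hs hcomm in
/-- The root group of a generator fixed by the induced permutation is stabilised. -/
theorem fix_Uw {θ : G ≃* G} (hU : Fix θ A.U) (hV : Fix θ (Vopp A w₀))
    (hπ : piFun A θ s = s) {x : G} (hx : x ∈ A.Uw s) : θ x ∈ A.Uw s := by
  have hB := fix_B A hU
  obtain ⟨g, hg, hg', rfl⟩ := F.exists_n0_conj hs hcomm hx
  set k := (A.n w₀)⁻¹ * θ (A.n w₀) with hkd
  have hk : k ∈ A.H := F.fix_n0 hU hV
  rw [map_mul, map_mul, map_inv,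
    show θ (A.n w₀) * θ g * (θ (A.n w₀))⁻¹ = A.n w₀ * (k * θ g * k⁻¹) * (A.n w₀)⁻¹ by
      rw [hkd]; group]
  refine F.n0_conj_mem hs hcomm (H_conj_Vopp hk ((hV g).2 hg)) ?_
  rcases hg' with h | h
  · exact Or.inl (mul_mem (mul_mem (A.H_le_B hk) ((hB g).2 h)) (inv_mem (A.H_le_B hk)))
  · exact Or.inr (mul_mem_Cell A (A.H_le_B hk) (hπ ▸ pi_cell A hB h) (inv_mem (A.H_le_B hk)))

/-- If every automorphism stabilising `U` and its opposite is inner · standard, uniquely up to `H`,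
then the standard ones are the outer automorphisms. -/
theorem card_out_of_std {R : Type*}
    (hinner : ∀ θ : G ≃* G, ∃ g, Fix (θ.trans (MulAut.conj g)) A.U ∧
      Fix (θ.trans (MulAut.conj g)) (Vopp A w₀))
    (field : R → MulAut G) (hstd : ∀ f, Fix (field f) A.U ∧ Fix (field f) (Vopp A w₀))
    (hex : ∀ θ : G ≃* G, Fix θ A.U → Fix θ (Vopp A w₀) →
      ∃ g f, θ = MulAut.conj g * field f)
    (hinj : ∀ f f', ∀ h ∈ A.H, field f = MulAut.conj h * field f' → f = f') :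
    Nat.card (Cfsg.Out G) = Nat.card R := by
  let m : R → Cfsg.Out G := fun f => QuotientGroup.mk (field f)
  have hsurj : Function.Surjective m := by
    intro o
    obtain ⟨θ, rfl⟩ := QuotientGroup.mk_surjective o
    obtain ⟨g, hU, hV⟩ := hinner θ
    obtain ⟨h, f, e⟩ := hex _ hU hV
    refine ⟨f, ?_⟩
    have hθ : θ = MulAut.conj (g⁻¹ * h) * field f := by
      rw [map_mul, map_inv, mul_assoc, ← e, eq_inv_mul_iff_mul_eq]
      rfl
    show QuotientGroup.mk (field f) = _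
    rw [hθ, QuotientGroup.mk_mul,
      (QuotientGroup.eq_one_iff _).2 (show MulAut.conj (g⁻¹ * h) ∈ Cfsg.Inn G from ⟨_, rfl⟩),
      one_mul]
  have hinj' : Function.Injective m := by
    intro f f' e
    obtain ⟨g, hg⟩ : (field f) * (field f')⁻¹ ∈ Cfsg.Inn G := by
      rw [← QuotientGroup.eq_one_iff (N := Cfsg.Inn G), QuotientGroup.mk_mul, QuotientGroup.mk_inv,
        show (QuotientGroup.mk (field f) : Cfsg.Out G) = QuotientGroup.mk (field f') from e,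
        mul_inv_cancel]
    have hg2 : MulAut.conj g = (field f').symm.trans (field f) := by rw [hg]; rfl
    have hgH : g ∈ A.H := mem_H_of_fix A F.opp (hg2 ▸ (hstd f').1.symm.trans (hstd f).1)
      (hg2 ▸ (hstd f').2.symm.trans (hstd f).2)
    exact hinj f f' g hgH (by rw [hg, inv_mul_cancel_right])
  exact (Nat.card_eq_of_bijective m ⟨hinj', hsurj⟩).symm

end Flip

end Cfsg.Agent.H56.TwAut
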