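import Cfsg.Agent.H56.ChevAut.Roots
import Cfsg.Prelude.Def_KGroupFacts
import Cfsg.Agent.H56.ChevAut.Rank1

/-!
Automorphisms of a rank one group with a root group of class three as in the Ree groups of type G₂:
`U ⊃ U₁ ⊃ U₂` with coordinates in a field on the three layers, on which a torus isomorphic to the
multiplicative group acts by powers. Every automorphism is inner · field.
-/
set_option autoImplicit false

namespace Cfsg.Agent.H56.TwAut

open Cfsg.Agent.H37 Cfsg.Agent.H56.ChevAut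
open scoped commutatorElement

/-- A Ree type rank one group. -/
structure ReeType {G W : Type*} [Group G] [Group W] (A : Tits.Ambient G W) (K : Type*) [Field K] where
  w₀ : W
  opp : Opp A w₀
  w₀_only : ∀ w : W, w = 1 ∨ w = w₀
  c1 : G → K
  c2 : G → K
  c3 : G → K
  U1 : Subgroup G
  U2 : Subgroup G
  le1 : U1 ≤ A.U
  le2 : U2 ≤ U1
  add1 : ∀ x ∈ A.U, ∀ y ∈ A.U, c1 (x * y) = c1 x + c1 y
  add2 : ∀ x ∈ U1, ∀ y ∈ U1, c2 (x * y) = c2 x + c2 y
  add3 : ∀ x ∈ U2, ∀ y ∈ U2, c3 (x * y) = c3 x + c3 y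
  ker1 : ∀ x ∈ A.U, (c1 x = 0 ↔ x ∈ U1)
  ker2 : ∀ x ∈ U1, (c2 x = 0 ↔ x ∈ U2)
  ker3 : ∀ x ∈ U2, c3 x = 0 → x = 1
  surj1 : ∀ t, ∃ x ∈ A.U, c1 x = t
  /-- The torus parameter. -/
  lam : G → K
  lam_ne : ∀ h ∈ A.H, lam h ≠ 0
  lam_inj : ∀ h ∈ A.H, lam h = 1 → h = 1
  lam_surj : ∀ t : K, t ≠ 0 → ∃ h ∈ A.H, lam h = t
  e2 : ℕ
  e3 : ℕ
  act1 : ∀ h ∈ A.H, ∀ x ∈ A.U, c1 (h * x * h⁻¹) = lam h * c1 x
  act2 : ∀ h ∈ A.H, ∀ x ∈ U1, h * x * h⁻¹ ∈ U1 ∧ c2 (h * x * h⁻¹) = lam h ^ e2 * c2 x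
  act3 : ∀ h ∈ A.H, ∀ x ∈ U2, h * x * h⁻¹ ∈ U2 ∧ c3 (h * x * h⁻¹) = lam h ^ e3 * c3 x
  e2_even : Even e2
  e2_ne : e2 ≠ 0
  e3_odd : Odd e3
  two_ne : (2 : K) ≠ 0
  e3_not_add : ∃ t : K, (1 + t) ^ e3 ≠ 1 + t ^ e3
  /-- The values of `t ^ e₂` and of `t ^ e₃` span `K`. -/
  span2 : AddSubgroup.closure (Set.range fun t : K => t ^ e2) = ⊤
  span3 : AddSubgroup.closure (Set.range fun t : K => t ^ e3) = ⊤
  central : ∀ z ∈ U2, ∀ x ∈ A.U, z * x = x * z
  comm1 : ∀ x ∈ U1, ∀ y ∈ U1, x * y = y * x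
  comm_mem : ∀ x ∈ U1, ∀ y ∈ A.U, ⁅x, y⁆ ∈ U2
  comm_mem' : ∀ x ∈ A.U, ∀ y ∈ A.U, ⁅x, y⁆ ∈ U1
  comm_ne : ∃ x ∈ A.U, ∃ y ∈ A.U, ⁅x, y⁆ ∉ U2
  comm_ne' : ∃ x ∈ U1, ∃ y ∈ A.U, ⁅x, y⁆ ≠ 1

namespace ReeType

variable {G W : Type*} [Group G] [Group W] {A : Tits.Ambient G W} {K : Type*} [Field K]
  (R : ReeType A K)
include R

theorem c1_one : R.c1 1 = 0 := (R.ker1 1 (one_mem _)).2 (one_mem _)

theorem c2_one : R.c2 1 = 0 := (R.ker2 1 (one_mem _)).2 (one_mem _)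

theorem c3_one : R.c3 1 = 0 := by
  have := R.add3 1 (one_mem _) 1 (one_mem _)
  rw [mul_one] at this
  exact left_eq_add.1 this

theorem c1_inv {x : G} (hx : x ∈ A.U) : R.c1 x⁻¹ = -R.c1 x := by
  have := R.add1 _ (inv_mem hx) x hx
  rw [inv_mul_cancel, R.c1_one] at this
  exact eq_neg_of_add_eq_zero_left this.symm

theorem c2_inv {x : G} (hx : x ∈ R.U1) : R.c2 x⁻¹ = -R.c2 x := by
  have := R.add2 _ (inv_mem hx) x hx
  rw [inv_mul_cancel, R.c2_one] at this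
  exact eq_neg_of_add_eq_zero_left this.symm

theorem eq_of_c1 {x y : G} (hx : x ∈ A.U) (hy : y ∈ A.U) (h : R.c1 x = R.c1 y) : x⁻¹ * y ∈ R.U1 :=
  (R.ker1 _ (mul_mem (inv_mem hx) hy)).1 (by
    rw [R.add1 _ (inv_mem hx) _ hy, R.c1_inv hx, h, neg_add_cancel])

theorem eq_of_c2 {x y : G} (hx : x ∈ R.U1) (hy : y ∈ R.U1) (h : R.c2 x = R.c2 y) : x⁻¹ * y ∈ R.U2 :=
  (R.ker2 _ (mul_mem (inv_mem hx) hy)).1 (by
    rw [R.add2 _ (inv_mem hx) _ hy, R.c2_inv hx, h, neg_add_cancel])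

/-- `U₂` is the centre of `U`. -/
theorem mem_U2_iff {z : G} (hz : z ∈ A.U) : z ∈ R.U2 ↔ ∀ x ∈ A.U, z * x = x * z := by
  refine ⟨R.central z, fun hc => ?_⟩
  have hU1 : z ∈ R.U1 := by
    refine (R.ker1 z hz).1 ?_
    by_contra hne
    obtain ⟨x, hx, y, hy, hxy⟩ := R.comm_ne
    obtain ⟨h, hh, hl⟩ := R.lam_surj (R.c1 x / R.c1 z) (by
      refine div_ne_zero (fun e => hxy (R.comm_mem _ ((R.ker1 x hx).1 e) _ hy)) hne)
    set w := h * z * h⁻¹ with hw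
    have hwU : w ∈ A.U := A.H_conj_U h hh z hz
    have hwc : ∀ u ∈ A.U, w * u = u * w := by
      intro u hu
      have h1 : z * (h⁻¹ * u * h) = h⁻¹ * u * h * z :=
        hc _ (by simpa using A.H_conj_U _ (inv_mem hh) u hu)
      calc w * u = h * (z * (h⁻¹ * u * h)) * h⁻¹ := by rw [hw]; group
        _ = u * w := by rw [h1, hw]; group
    have h1 : R.c1 w = R.c1 x := by rw [R.act1 h hh z hz, hl, div_mul_cancel₀ _ hne]
    have hr := R.eq_of_c1 hwU hx h1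
    have e : ⁅x, y⁆ = ⁅w⁻¹ * x, y⁆ := by
      simp only [commutatorElement_def, mul_inv_rev, inv_inv]
      calc x * y * x⁻¹ * y⁻¹ = w⁻¹ * (x * y) * x⁻¹ * (w * y⁻¹) := by
            rw [hwc _ (inv_mem hy)]
            calc x * y * x⁻¹ * y⁻¹ = w⁻¹ * (w * (x * y * x⁻¹ * y⁻¹)) := by group
              _ = w⁻¹ * (x * y * x⁻¹ * y⁻¹ * w) := by
                  rw [hwc _ (mul_mem (mul_mem (mul_mem hx hy) (inv_mem hx)) (inv_mem hy))]
              _ = _ := by group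
        _ = _ := by group
    exact hxy (e ▸ R.comm_mem _ hr _ hy)
  refine (R.ker2 z hU1).1 ?_
  by_contra hne
  obtain ⟨x, hx, y, hy, hxy⟩ := R.comm_ne'
  let S : AddSubgroup K :=
    { carrier := {t | ∃ w ∈ R.U1, R.c2 w = t ∧ ∀ u ∈ A.U, w * u = u * w}
      zero_mem' := ⟨1, one_mem _, R.c2_one, fun u _ => by simp⟩
      add_mem' := by
        rintro _ _ ⟨w, hw, rfl, hwc⟩ ⟨v, hv, rfl, hvc⟩
        exact ⟨w * v, mul_mem hw hv, R.add2 w hw v hv, fun u hu => by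
          rw [mul_assoc, hvc u hu, ← mul_assoc, hwc u hu, mul_assoc]⟩
      neg_mem' := by
        rintro _ ⟨w, hw, rfl, hwc⟩
        exact ⟨w⁻¹, inv_mem hw, R.c2_inv hw, fun u hu =>
          (Commute.inv_left (hwc u hu : Commute w u)).eq⟩ }
  let S' : AddSubgroup K := S.comap (AddMonoidHom.mulRight (R.c2 z))
  have hS : S' = ⊤ := by
    rw [eq_top_iff, ← R.span2, AddSubgroup.closure_le]
    rintro _ ⟨t, rfl⟩
    show t ^ R.e2 * R.c2 z ∈ S
    by_cases ht : t = 0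
    · subst ht
      rcases Nat.eq_zero_or_pos R.e2 with he | he
      · rw [he, pow_zero, one_mul]; exact ⟨z, hU1, rfl, hc⟩
      · rw [zero_pow (by omega), zero_mul]; exact zero_mem S
    obtain ⟨h, hh, hl⟩ := R.lam_surj t ht
    refine ⟨h * z * h⁻¹, (R.act2 h hh z hU1).1, by rw [(R.act2 h hh z hU1).2, hl], fun u hu => ?_⟩
    have h1 : z * (h⁻¹ * u * h) = h⁻¹ * u * h * z :=
      hc _ (by simpa using A.H_conj_U _ (inv_mem hh) u hu)
    calc h * z * h⁻¹ * u = h * (z * (h⁻¹ * u * h)) * h⁻¹ := by group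
      _ = u * (h * z * h⁻¹) := by rw [h1]; group
  have hxS : R.c2 x / R.c2 z ∈ S' := hS ▸ AddSubgroup.mem_top _
  obtain ⟨w, hw, hw2, hwc⟩ : R.c2 x / R.c2 z * R.c2 z ∈ S := hxS
  rw [div_mul_cancel₀ _ hne] at hw2
  have hr := R.eq_of_c2 hw hx hw2
  refine hxy (commutatorElement_eq_one_iff_mul_comm.2 ?_)
  calc x * y = w * ((w⁻¹ * x) * y) := by group
    _ = w * y * (w⁻¹ * x) := by rw [R.central _ hr y hy]; group
    _ = y * x := by rw [hwc y hy]; group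

/-- `U₁` is the second centre of `U`. -/
theorem mem_U1_iff {z : G} (hz : z ∈ A.U) : z ∈ R.U1 ↔ ∀ x ∈ A.U, ⁅z, x⁆ ∈ R.U2 := by
  refine ⟨R.comm_mem z, fun hc => (R.ker1 z hz).1 ?_⟩
  by_contra hne
  obtain ⟨x, hx, y, hy, hxy⟩ := R.comm_ne
  obtain ⟨h, hh, hl⟩ := R.lam_surj (R.c1 x / R.c1 z)
    (div_ne_zero (fun e => hxy (R.comm_mem _ ((R.ker1 x hx).1 e) _ hy)) hne)
  set w := h * z * h⁻¹ with hw
  have hwU : w ∈ A.U := A.H_conj_U h hh z hz
  have h1 : ⁅w, y⁆ ∈ R.U2 := by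
    have : ⁅w, y⁆ = h * ⁅z, h⁻¹ * y * h⁆ * h⁻¹ := by
      simp only [commutatorElement_def, hw]; group
    rw [this]
    exact (R.act3 h hh _ (hc _ (by simpa using A.H_conj_U _ (inv_mem hh) y hy))).1
  have hr := R.eq_of_c1 hwU hx (by rw [R.act1 h hh z hz, hl, div_mul_cancel₀ _ hne])
  have h2 := R.comm_mem _ hr _ hy
  refine hxy ?_
  have e : ⁅x, y⁆ = w * ⁅w⁻¹ * x, y⁆ * w⁻¹ * ⁅w, y⁆ := by
    simp only [commutatorElement_def]; group
  rw [e, mul_assoc w, R.central _ h2 _ (inv_mem hwU), ← mul_assoc, mul_inv_cancel, one_mul]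
  exact mul_mem h2 h1

theorem fix_U2 {θ : G ≃* G} (hU : Fix θ A.U) {z : G} (hz : z ∈ R.U2) : θ z ∈ R.U2 := by
  have hzU := R.le1 (R.le2 hz)
  refine (R.mem_U2_iff ((hU z).2 hzU)).2 fun x hx => ?_
  obtain ⟨x, rfl⟩ := θ.surjective x
  rw [← map_mul, ← map_mul, R.central z hz x ((hU x).1 hx)]

theorem fix_U1 {θ : G ≃* G} (hU : Fix θ A.U) {z : G} (hz : z ∈ R.U1) : θ z ∈ R.U1 := by
  have hzU := R.le1 hz
  refine (R.mem_U1_iff ((hU z).2 hzU)).2 fun x hx => ?_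
  obtain ⟨x, rfl⟩ := θ.surjective x
  rw [show ⁅θ z, θ x⁆ = θ ⁅z, x⁆ from (map_commutatorElement θ.toMonoidHom z x).symm]
  exact R.fix_U2 hU (R.comm_mem z hz x ((hU x).1 hx))

theorem fix_H {θ : G ≃* G} (hU : Fix θ A.U) (hV : Fix θ (Vopp A R.w₀)) {h : G} (hh : h ∈ A.H) :
    θ h ∈ A.H := by
  refine mem_H_of_fix A R.opp (fun x => ?_) (fun x => ?_) <;>
    obtain ⟨x, rfl⟩ := θ.surjective x
  · rw [MulAut.conj_apply, ← map_inv, ← map_mul, ← map_mul, hU, hU]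
    exact ⟨fun hx => by simpa [mul_assoc] using A.H_conj_U _ (inv_mem hh) _ hx,
      A.H_conj_U h hh x⟩
  · rw [MulAut.conj_apply, ← map_inv, ← map_mul, ← map_mul, hV, hV, mem_Vopp, mem_Vopp]
    set n := A.n R.w₀
    have hk := A.n_conj_H' R.w₀ hh
    rw [show n⁻¹ * (h * x * h⁻¹) * n = (n⁻¹ * h * n) * (n⁻¹ * x * n) * (n⁻¹ * h * n)⁻¹ by group]
    exact ⟨fun hx => by simpa [mul_assoc, n] using A.H_conj_U _ (inv_mem hk) _ hx,
      A.H_conj_U _ hk _⟩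

omit R in
/-- An additive map commuting with all values `t ^ e` is linear. -/
theorem linear_of_span {e : ℕ} (hspan : AddSubgroup.closure (Set.range fun t : K => t ^ e) = ⊤)
    {g : K → K} (hadd : ∀ a b, g (a + b) = g a + g b)
    (hsc : ∀ t : K, t ≠ 0 → ∀ a, g (t ^ e * a) = t ^ e * g a) (he : e ≠ 0) (a : K) :
    g a = a * g 1 := by
  let S : AddSubgroup K :=
    { carrier := {c | g c = c * g 1}
      zero_mem' := by
        show g 0 = 0 * g 1
        rw [zero_mul]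
        exact (map_zero (AddMonoidHom.mk' g hadd) : _)
      add_mem' := by
        intro c d hc hd
        show g (c + d) = (c + d) * g 1
        rw [hadd, show g c = c * g 1 from hc, show g d = d * g 1 from hd, add_mul]
      neg_mem' := by
        intro c hc
        show g (-c) = -c * g 1
        rw [neg_mul, ← show g c = c * g 1 from hc]
        exact (map_neg (AddMonoidHom.mk' g hadd) c : _) }
  have hS : S = ⊤ := by
    rw [eq_top_iff, ← hspan, AddSubgroup.closure_le]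
    rintro _ ⟨t, rfl⟩
    show g (t ^ e) = t ^ e * g 1
    by_cases ht : t = 0
    · subst ht
      rw [zero_pow he, zero_mul]
      exact (map_zero (AddMonoidHom.mk' g hadd) : _)
    · simpa using hsc t ht 1
  exact (hS ▸ AddSubgroup.mem_top a : a ∈ S)

/-- An automorphism fixing `U`, its opposite and the first layer is the identity on `U`. -/
theorem id_on_U [Finite K] {θ : G ≃* G} (hU : Fix θ A.U) (hV : Fix θ (Vopp A R.w₀))
    (h1 : ∀ x ∈ A.U, R.c1 (θ x) = R.c1 x) :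
    (∀ x ∈ A.U, θ x = x) ∧ ∀ h ∈ A.H, θ h = h := by
  have hH : ∀ h ∈ A.H, θ h = h := by
    intro h hh
    obtain ⟨x, hx, hx1⟩ := R.surj1 1
    have e := h1 (h * x * h⁻¹) (A.H_conj_U h hh x hx)
    rw [map_mul, map_mul, map_inv, R.act1 _ (R.fix_H hU hV hh) _ ((hU x).2 hx), h1 x hx, hx1,
      R.act1 h hh x hx, hx1, mul_one, mul_one] at e
    have hk : (θ h)⁻¹ * h ∈ A.H := mul_mem (inv_mem (R.fix_H hU hV hh)) hh
    have e2 : R.lam ((θ h)⁻¹ * h) = 1 := by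
      have h3 := R.act1 _ hk x hx
      rw [hx1, mul_one] at h3
      have h4 := R.act1 h hh x hx
      have h5 := R.act1 (θ h) (R.fix_H hU hV hh) ((θ h)⁻¹ * h * x * ((θ h)⁻¹ * h)⁻¹)
        (A.H_conj_U _ hk x hx)
      rw [show θ h * ((θ h)⁻¹ * h * x * ((θ h)⁻¹ * h)⁻¹) * (θ h)⁻¹ = h * x * h⁻¹ by group, h4, hx1,
        mul_one, h3, e] at h5
      exact (mul_eq_left₀ (R.lam_ne h hh)).1 h5.symm
    exact inv_mul_eq_one.1 (R.lam_inj _ hk e2)
  have hconj : ∀ h ∈ A.H, ∀ x, θ (h * x * h⁻¹) = h * θ x * h⁻¹ := fun h hh x => by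
    rw [map_mul, map_mul, map_inv, hH h hh]
  -- representatives
  obtain ⟨x1, hx1, hx11⟩ := R.surj1 1
  have he2 := R.e2_ne
  have he3 : R.e3 ≠ 0 := fun h => Nat.not_odd_zero (h ▸ R.e3_odd)
  -- second layer
  have hd : ∀ x ∈ A.U, x⁻¹ * θ x ∈ R.U1 := fun x hx =>
    R.eq_of_c1 hx ((hU x).2 hx) (h1 x hx).symm
  have hs2 : ∀ a : K, ∃ w ∈ R.U1, R.c2 w = a := by
    obtain ⟨x, hx, y, hy, hxy⟩ := R.comm_ne
    have hz := R.comm_mem' x hx y hy
    have hz0 : R.c2 ⁅x, y⁆ ≠ 0 := fun e => hxy ((R.ker2 _ hz).1 e)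
    let S : AddSubgroup K :=
      { carrier := {a | ∃ w ∈ R.U1, R.c2 w = a}
        zero_mem' := ⟨1, one_mem _, R.c2_one⟩
        add_mem' := by
          rintro _ _ ⟨w, hw, rfl⟩ ⟨v, hv, rfl⟩; exact ⟨w * v, mul_mem hw hv, R.add2 w hw v hv⟩
        neg_mem' := by rintro _ ⟨w, hw, rfl⟩; exact ⟨w⁻¹, inv_mem hw, R.c2_inv hw⟩ }
    let S' := S.comap (AddMonoidHom.mulRight (R.c2 ⁅x, y⁆))
    have hS : S' = ⊤ := by
      rw [eq_top_iff, ← R.span2, AddSubgroup.closure_le]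
      rintro _ ⟨t, rfl⟩
      show t ^ R.e2 * R.c2 ⁅x, y⁆ ∈ S
      by_cases ht : t = 0
      · subst ht; rw [zero_pow he2, zero_mul]; exact zero_mem S
      obtain ⟨h, hh, hl⟩ := R.lam_surj t ht
      exact ⟨_, (R.act2 h hh _ hz).1, by rw [(R.act2 h hh _ hz).2, hl]⟩
    intro a
    have : a / R.c2 ⁅x, y⁆ ∈ S' := hS ▸ AddSubgroup.mem_top _
    obtain ⟨w, hw, e⟩ : a / R.c2 ⁅x, y⁆ * R.c2 ⁅x, y⁆ ∈ S := this
    exact ⟨w, hw, e.trans (div_mul_cancel₀ _ hz0)⟩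
  choose r2 hr2U hr2 using hs2
  have hth2 : ∀ w ∈ R.U1, R.c2 (θ w) = R.c2 (θ (r2 (R.c2 w))) := by
    intro w hw
    have h := R.fix_U2 hU (R.eq_of_c2 (hr2U _) hw (hr2 _))
    have := R.add2 _ (R.fix_U1 hU (hr2U (R.c2 w))) _ (R.le2 h)
    rw [← map_mul, mul_inv_cancel_left, (R.ker2 _ (R.le2 h)).2 h, add_zero] at this
    exact this
  let g2 : K → K := fun a => R.c2 (θ (r2 a))
  have hg2 : ∀ a, g2 a = a * g2 1 := by
    refine linear_of_span R.span2 (fun a b => ?_) (fun t ht a => ?_) he2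
    · show R.c2 (θ (r2 (a + b))) = _
      have := hth2 _ (mul_mem (hr2U a) (hr2U b))
      rw [map_mul, R.add2 _ (R.fix_U1 hU (hr2U a)) _ (R.fix_U1 hU (hr2U b)),
        R.add2 _ (hr2U a) _ (hr2U b), hr2, hr2] at this
      exact this.symm
    · show R.c2 (θ (r2 (t ^ R.e2 * a))) = _
      obtain ⟨h, hh, hl⟩ := R.lam_surj t ht
      have := hth2 _ (R.act2 h hh _ (hr2U a)).1
      rw [hconj h hh, (R.act2 h hh _ (R.fix_U1 hU (hr2U a))).2, (R.act2 h hh _ (hr2U a)).2, hr2,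
        hl] at this
      exact this.symm
  obtain ⟨xa, hxa, ya, hya, hxya⟩ := R.comm_ne
  have hfix2 : ∀ w ∈ R.U1, R.c2 (θ w) = R.c2 w := by
    have hz := R.comm_mem' xa hxa ya hya
    have hzn : R.c2 ⁅xa, ya⁆ ≠ 0 := fun e => hxya ((R.ker2 _ hz).1 e)
    have key : R.c2 (θ ⁅xa, ya⁆) = R.c2 ⁅xa, ya⁆ := by
      have ha := hd xa hxa
      have hb := hd ya hya
      set a := xa⁻¹ * θ xa with haa
      set b := ya⁻¹ * θ ya with hbb
      have hθ : θ ⁅xa, ya⁆ = ⁅xa * a, ya * b⁆ := by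
        rw [show θ ⁅xa, ya⁆ = ⁅θ xa, θ ya⁆ from map_commutatorElement θ.toMonoidHom xa ya, haa, hbb,
          mul_inv_cancel_left, mul_inv_cancel_left]
      have hyb : ya * b ∈ A.U := mul_mem hya (R.le1 hb)
      have d1 : ⁅a, ya * b⁆ ∈ R.U2 := R.comm_mem a ha _ hyb
      have d2 : ⁅xa, b⁆ ∈ R.U2 := by
        rw [← commutatorElement_inv]; exact inv_mem (R.comm_mem b hb xa hxa)
      have e : ⁅xa * a, ya * b⁆ = ⁅xa, ya⁆ * (⁅xa, b⁆ * ⁅a, ya * b⁆) := by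
        calc ⁅xa * a, ya * b⁆ = xa * ⁅a, ya * b⁆ * xa⁻¹ * ⁅xa, ya * b⁆ := by
              simp only [commutatorElement_def]; group
          _ = ⁅a, ya * b⁆ * ⁅xa, ya * b⁆ := by
              rw [← R.central _ d1 xa hxa, mul_inv_cancel_right]
          _ = ⁅a, ya * b⁆ * (⁅xa, ya⁆ * (ya * ⁅xa, b⁆ * ya⁻¹)) := by
              congr 1; simp only [commutatorElement_def]; group
          _ = _ := by
              rw [← R.central _ d2 ya hya, mul_inv_cancel_right,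
                R.central _ d1 _ (R.le1 (mul_mem hz (R.le2 d2))), mul_assoc]
      rw [hθ, e, R.add2 _ hz _ (R.le2 (mul_mem d2 d1)),
        (R.ker2 _ (R.le2 (mul_mem d2 d1))).2 (mul_mem d2 d1), add_zero]
    have hc : g2 1 = 1 := by
      have := hth2 _ hz
      rw [key] at this
      have h' : R.c2 ⁅xa, ya⁆ = R.c2 ⁅xa, ya⁆ * g2 1 := this.trans (hg2 _)
      exact (mul_eq_left₀ hzn).1 h'.symm
    intro w hw
    rw [hth2 w hw]
    show g2 (R.c2 w) = _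
    rw [hg2, hc, mul_one]
  have hd1 : ∀ w ∈ R.U1, w⁻¹ * θ w ∈ R.U2 := fun w hw =>
    R.eq_of_c2 hw (R.fix_U1 hU hw) (hfix2 w hw).symm
  -- third layer
  have hs3 : ∀ a : K, ∃ w ∈ R.U2, R.c3 w = a := by
    obtain ⟨x, hx, y, hy, hxy⟩ := R.comm_ne'
    have hz := R.comm_mem x hx y hy
    have hz0 : R.c3 ⁅x, y⁆ ≠ 0 := fun e => hxy (R.ker3 _ hz e)
    let S : AddSubgroup K :=
      { carrier := {a | ∃ w ∈ R.U2, R.c3 w = a}
        zero_mem' := ⟨1, one_mem _, R.c3_one⟩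
        add_mem' := by
          rintro _ _ ⟨w, hw, rfl⟩ ⟨v, hv, rfl⟩; exact ⟨w * v, mul_mem hw hv, R.add3 w hw v hv⟩
        neg_mem' := by
          rintro _ ⟨w, hw, rfl⟩
          refine ⟨w⁻¹, inv_mem hw, ?_⟩
          have := R.add3 _ (inv_mem hw) w hw
          rw [inv_mul_cancel, R.c3_one] at this
          exact eq_neg_of_add_eq_zero_left this.symm }
    let S' := S.comap (AddMonoidHom.mulRight (R.c3 ⁅x, y⁆))
    have hS : S' = ⊤ := by
      rw [eq_top_iff, ← R.span3, AddSubgroup.closure_le]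
      rintro _ ⟨t, rfl⟩
      show t ^ R.e3 * R.c3 ⁅x, y⁆ ∈ S
      by_cases ht : t = 0
      · subst ht; rw [zero_pow he3, zero_mul]; exact zero_mem S
      obtain ⟨h, hh, hl⟩ := R.lam_surj t ht
      exact ⟨_, (R.act3 h hh _ hz).1, by rw [(R.act3 h hh _ hz).2, hl]⟩
    intro a
    have : a / R.c3 ⁅x, y⁆ ∈ S' := hS ▸ AddSubgroup.mem_top _
    obtain ⟨w, hw, e⟩ : a / R.c3 ⁅x, y⁆ * R.c3 ⁅x, y⁆ ∈ S := this
    exact ⟨w, hw, e.trans (div_mul_cancel₀ _ hz0)⟩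
  choose r3 hr3U hr3 using hs3
  have hr3' : ∀ w ∈ R.U2, w = r3 (R.c3 w) := fun w hw => by
    refine (inv_mul_eq_one.1 (R.ker3 _ (mul_mem (inv_mem (hr3U _)) hw) ?_)).symm
    rw [R.add3 _ (inv_mem (hr3U _)) _ hw]
    have := R.add3 _ (inv_mem (hr3U (R.c3 w))) _ (hr3U (R.c3 w))
    rw [inv_mul_cancel, R.c3_one, hr3] at this
    exact this.symm
  let g3 : K → K := fun a => R.c3 (θ (r3 a))
  have hg3 : ∀ a, g3 a = a * g3 1 := by
    refine linear_of_span R.span3 (fun a b => ?_) (fun t ht a => ?_) he3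
    · show R.c3 (θ (r3 (a + b))) = _
      have e : r3 (a + b) = r3 a * r3 b := by
        have := hr3' _ (mul_mem (hr3U a) (hr3U b))
        rw [R.add3 _ (hr3U a) _ (hr3U b), hr3, hr3] at this
        exact this.symm
      rw [e, map_mul, R.add3 _ (R.fix_U2 hU (hr3U a)) _ (R.fix_U2 hU (hr3U b))]
    · show R.c3 (θ (r3 (t ^ R.e3 * a))) = _
      obtain ⟨h, hh, hl⟩ := R.lam_surj t ht
      have e : r3 (t ^ R.e3 * a) = h * r3 a * h⁻¹ := by
        have := hr3' _ (R.act3 h hh _ (hr3U a)).1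
        rw [(R.act3 h hh _ (hr3U a)).2, hr3, hl] at this
        exact this.symm
      rw [e, hconj h hh, (R.act3 h hh _ (R.fix_U2 hU (hr3U a))).2, hl]
  have hU2 : ∀ w ∈ R.U2, θ w = w := by
    obtain ⟨x, hx, y, hy, hxy⟩ := R.comm_ne'
    have hz := R.comm_mem x hx y hy
    have hzn : R.c3 ⁅x, y⁆ ≠ 0 := fun e => hxy (R.ker3 _ hz e)
    have key : θ ⁅x, y⁆ = ⁅x, y⁆ := by
      have ha := hd1 x hx
      have hb := hd y hy
      set a := x⁻¹ * θ x with haa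
      set b := y⁻¹ * θ y with hbb
      rw [show θ ⁅x, y⁆ = ⁅θ x, θ y⁆ from map_commutatorElement θ.toMonoidHom x y,
        show θ x = x * a by rw [haa, mul_inv_cancel_left],
        show θ y = y * b by rw [hbb, mul_inv_cancel_left]]
      have ca : ∀ u ∈ A.U, a * u = u * a := R.central a ha
      have hyb : y * b ∈ A.U := mul_mem hy (R.le1 hb)
      simp only [commutatorElement_def, mul_inv_rev]
      calc x * a * (y * b) * (a⁻¹ * x⁻¹) * (b⁻¹ * y⁻¹)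
          = x * (a * (y * b)) * a⁻¹ * x⁻¹ * b⁻¹ * y⁻¹ := by group
        _ = x * y * (b * x⁻¹) * b⁻¹ * y⁻¹ := by rw [ca _ hyb]; group
        _ = x * y * x⁻¹ * y⁻¹ := by rw [R.comm1 b hb _ (inv_mem hx)]; group
    have hc : g3 1 = 1 := by
      have h' : g3 (R.c3 ⁅x, y⁆) = R.c3 ⁅x, y⁆ := by
        show R.c3 (θ (r3 _)) = _
        rw [← hr3' _ hz, key]
      rw [hg3] at h'
      exact (mul_eq_left₀ hzn).1 h'
    intro w hw
    rw [hr3' _ (R.fix_U2 hU hw)]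
    conv_rhs => rw [hr3' w hw]
    congr 1
    have := hg3 (R.c3 w)
    rw [hc, mul_one] at this
    rw [← this]
    show R.c3 (θ w) = R.c3 (θ (r3 (R.c3 w)))
    rw [← hr3' w hw]
  have hU1 : ∀ w ∈ R.U1, θ w = w := by
    intro w hw
    obtain ⟨h, hh, hl⟩ := R.lam_surj (-1) (neg_ne_zero.2 one_ne_zero)
    have hd2 := hd1 w hw
    set z := w⁻¹ * θ w with hzz
    set w' := h * w * h⁻¹ with hw'
    have hw'1 := (R.act2 h hh w hw).1
    have e1 : R.c2 w' = R.c2 w := by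
      rw [(R.act2 h hh w hw).2, hl, R.e2_even.neg_one_pow, one_mul]
    have hr := R.eq_of_c2 hw'1 hw e1
    have hθ : θ (w'⁻¹ * w) = w'⁻¹ * w := hU2 _ hr
    have e2 : θ w' = w' * (h * z * h⁻¹) := by
      rw [hw', hconj h hh, hzz]; group
    have e3 : h * z * h⁻¹ = z := by
      rw [map_mul, map_inv, e2, show θ w = w * z by rw [hzz, mul_inv_cancel_left]] at hθ
      set z' := h * z * h⁻¹
      have hz' : z'⁻¹ ∈ R.U2 := inv_mem (R.act3 h hh z hd2).1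
      have : z'⁻¹ * z = 1 := by
        refine mul_left_cancel (a := w'⁻¹ * w) ?_
        rw [mul_one]
        calc w'⁻¹ * w * (z'⁻¹ * z) = z'⁻¹ * (w'⁻¹ * w) * z := by
              rw [R.central _ hz' _ (R.le1 (R.le2 hr))]; simp only [hw']; group
          _ = w'⁻¹ * w := by conv_rhs => rw [← hθ]
                             group
      exact inv_mul_eq_one.1 this
    have e4 := congrArg R.c3 e3
    rw [(R.act3 h hh z hd2).2, hl, R.e3_odd.neg_one_pow, neg_one_mul, neg_eq_iff_add_eq_zero,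
      ← two_mul, mul_eq_zero, or_iff_right R.two_ne] at e4
    exact (inv_mul_eq_one.1 (R.ker3 z hd2 e4)).symm
  refine ⟨?_, hH⟩
  -- the effect on a coset of `U₁`
  choose r1 hr1U hr1 using R.surj1
  have hwd : ∀ x ∈ A.U, x⁻¹ * θ x = (r1 (R.c1 x))⁻¹ * θ (r1 (R.c1 x)) := by
    intro x hx
    have hw := R.eq_of_c1 (hr1U _) hx (hr1 (R.c1 x))
    set r := r1 (R.c1 x)
    set w := r⁻¹ * x
    have e : x = r * w := (mul_inv_cancel_left r x).symm
    have hc := R.comm1 _ (hd r (hr1U _)) w hw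
    rw [e, map_mul, hU1 w hw]
    calc (r * w)⁻¹ * (θ r * w) = w⁻¹ * (r⁻¹ * θ r * w) := by group
      _ = _ := by rw [hc, inv_mul_cancel_left]
  have hadd2 : ∀ x ∈ A.U, ∀ y ∈ A.U, R.c2 ((x * y)⁻¹ * θ (x * y))
      = R.c2 (x⁻¹ * θ x) + R.c2 (y⁻¹ * θ y) := by
    intro x hx y hy
    set a := x⁻¹ * θ x with haa
    set b := y⁻¹ * θ y with hbb
    have hk : ⁅a⁻¹, y⁻¹⁆ ∈ R.U2 := R.comm_mem _ (inv_mem (hd x hx)) _ (inv_mem hy)
    have e : (x * y)⁻¹ * θ (x * y) = a * ⁅a⁻¹, y⁻¹⁆ * b := by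
      rw [map_mul, show θ x = x * a by rw [haa, mul_inv_cancel_left],
        show θ y = y * b by rw [hbb, mul_inv_cancel_left]]
      simp only [commutatorElement_def]; group
    rw [e, R.add2 _ (mul_mem (hd x hx) (R.le2 hk)) _ (hd y hy), R.add2 _ (hd x hx) _ (R.le2 hk),
      (R.ker2 _ (R.le2 hk)).2 hk, add_zero]
  have hconjd : ∀ h ∈ A.H, ∀ x, (h * x * h⁻¹)⁻¹ * θ (h * x * h⁻¹) = h * (x⁻¹ * θ x) * h⁻¹ :=
    fun h hh x => by rw [hconj h hh]; group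
  let f : K → K := fun t => R.c2 ((r1 t)⁻¹ * θ (r1 t))
  have hf : ∀ x ∈ A.U, R.c2 (x⁻¹ * θ x) = f (R.c1 x) := fun x hx => by rw [hwd x hx]
  have hfadd : ∀ a b, f (a + b) = f a + f b := fun a b => by
    have := hf _ (mul_mem (hr1U a) (hr1U b))
    rw [R.add1 _ (hr1U a) _ (hr1U b), hr1, hr1, hadd2 _ (hr1U a) _ (hr1U b)] at this
    exact this.symm
  have hf0 : ∀ t, f t = 0 := by
    intro t
    obtain ⟨h, hh, hl⟩ := R.lam_surj (-1) (neg_ne_zero.2 one_ne_zero)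
    have := hf _ (A.H_conj_U h hh _ (hr1U t))
    rw [hconjd h hh, (R.act2 h hh _ (hd _ (hr1U t))).2, R.act1 h hh _ (hr1U t), hr1, hl,
      R.e2_even.neg_one_pow, one_mul, neg_one_mul] at this
    have h2 : f (-t) = -f t := map_neg (AddMonoidHom.mk' f hfadd) t
    change f t = f (-t) at this
    rw [h2, eq_neg_iff_add_eq_zero, ← two_mul, mul_eq_zero, or_iff_right R.two_ne] at this
    exact this
  have hd2' : ∀ x ∈ A.U, x⁻¹ * θ x ∈ R.U2 := fun x hx =>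
    (R.ker2 _ (hd x hx)).1 ((hf x hx).trans (hf0 _))
  let g : K → K := fun t => R.c3 ((r1 t)⁻¹ * θ (r1 t))
  have hg : ∀ x ∈ A.U, R.c3 (x⁻¹ * θ x) = g (R.c1 x) := fun x hx => by rw [hwd x hx]
  have hgadd : ∀ a b, g (a + b) = g a + g b := fun a b => by
    have := hg _ (mul_mem (hr1U a) (hr1U b))
    rw [R.add1 _ (hr1U a) _ (hr1U b), hr1, hr1] at this
    rw [← this]
    set x := r1 a
    set y := r1 b
    have e : (x * y)⁻¹ * θ (x * y) = (x⁻¹ * θ x) * (y⁻¹ * θ y) := by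
      rw [map_mul]
      calc (x * y)⁻¹ * (θ x * θ y) = y⁻¹ * (x⁻¹ * θ x) * θ y := by group
        _ = _ := by rw [← R.central _ (hd2' x (hr1U a)) _ (inv_mem (hr1U b)), mul_assoc]
    rw [e, R.add3 _ (hd2' x (hr1U a)) _ (hd2' y (hr1U b))]
  have hgs : ∀ t : K, g t = t ^ R.e3 * g 1 := by
    intro t
    by_cases ht : t = 0
    · subst ht
      rw [zero_pow he3, zero_mul]
      exact (map_zero (AddMonoidHom.mk' g hgadd) : _)
    obtain ⟨h, hh, hl⟩ := R.lam_surj t ht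
    have := hg _ (A.H_conj_U h hh _ (hr1U 1))
    rw [hconjd h hh, (R.act3 h hh _ (hd2' _ (hr1U 1))).2, R.act1 h hh _ (hr1U 1), hr1, hl,
      mul_one] at this
    exact this.symm
  obtain ⟨t, ht⟩ := R.e3_not_add
  have hg1 : g 1 = 0 := by
    have := hgadd 1 t
    rw [hgs (1 + t), hgs t, ← sub_eq_zero] at this
    have e : ((1 + t) ^ R.e3 - (1 + t ^ R.e3)) * g 1 = 0 := by linear_combination this
    exact (mul_eq_zero.1 e).resolve_left (sub_ne_zero.2 ht)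
  intro x hx
  refine (inv_mul_eq_one.1 (R.ker3 _ (hd2' x hx) ?_)).symm
  rw [hg x hx, hgs, hg1, mul_zero]

/-- The generation data. -/
theorem eq_refl_of [Finite K] (hgen : ∀ L : Subgroup G, A.U ≤ L → A.n R.w₀ ∈ L → L = ⊤)
    {θ : G ≃* G} (hU : Fix θ A.U) (hV : Fix θ (Vopp A R.w₀))
    (h1 : ∀ x ∈ A.U, R.c1 (θ x) = R.c1 x) : θ = MulEquiv.refl G := by
  obtain ⟨hidU, hidH⟩ := R.id_on_U hU hV h1
  set n := A.n R.w₀ with hn
  have hk : n⁻¹ * θ n ∈ A.H := by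
    have hswap : ∀ z, n * z * n⁻¹ ∈ A.U ↔ z ∈ Vopp A R.w₀ := fun z => R.opp.swap
    have hVU : ∀ z, n * z * n⁻¹ ∈ Vopp A R.w₀ ↔ z ∈ A.U := fun z => by
      rw [mem_Vopp, show (A.n R.w₀)⁻¹ * (n * z * n⁻¹) * A.n R.w₀ = z by simp only [hn]; group]
    refine mem_H_of_fix A R.opp (fun z => ?_) (fun z => ?_) <;>
      obtain ⟨z, rfl⟩ := θ.surjective z
    · rw [← hVU, MulAut.conj_apply, show n * (n⁻¹ * θ n * θ z * (n⁻¹ * θ n)⁻¹) * n⁻¹
        = θ n * θ z * (θ n)⁻¹ by group, ← map_inv, ← map_mul, ← map_mul, hV, hVU, hU]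
    · rw [← hswap, MulAut.conj_apply, show n * (n⁻¹ * θ n * θ z * (n⁻¹ * θ n)⁻¹) * n⁻¹
        = θ n * θ z * (θ n)⁻¹ by group, ← map_inv, ← map_mul, ← map_mul, hU, hswap, hV]
  set k := n⁻¹ * θ n with hkdef
  have hθn : θ n = n * k := by rw [hkdef, mul_inv_cancel_left]
  set j := n * k * n⁻¹ with hj
  have hjH : j ∈ A.H := A.n_conj_H R.w₀ k hk
  obtain ⟨x, hx, hx1⟩ := R.surj1 1
  have hxne : x ≠ 1 := fun e => one_ne_zero (hx1.symm.trans (e ▸ R.c1_one))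
  suffices hfix : j * x * j⁻¹ = x by
    have hj1 : j = 1 := R.lam_inj j hjH (by
      have := R.act1 j hjH x hx
      rw [hfix, hx1, mul_one] at this
      exact this.symm)
    have hn1 : θ n = n := by
      rw [hθn, show n * k = j * n by rw [hj]; group, hj1, one_mul]
    have := hgen (MonoidHom.eqLocus θ.toMonoidHom (MonoidHom.id G)) hidU hn1
    ext g
    exact (this ▸ Subgroup.mem_top g : g ∈ MonoidHom.eqLocus θ.toMonoidHom (MonoidHom.id G))
  -- an element of the opposite with right component `x`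
  obtain ⟨v, hv, u, hu, h, hh, e⟩ : ∃ v ∈ Vopp A R.w₀, ∃ u ∈ A.U, ∃ h ∈ A.H,
      v = u * h * n * x := by
    -- decompose `n x⁻¹ n⁻¹`, an element of the opposite
    obtain ⟨a, ha, h, hh, w, b, hb, e⟩ := A.exists_eq (n * x⁻¹ * n⁻¹)
    have hV' : n * x⁻¹ * n⁻¹ ∈ Vopp A R.w₀ := by
      rw [mem_Vopp, show (A.n R.w₀)⁻¹ * (n * x⁻¹ * n⁻¹) * A.n R.w₀ = x⁻¹ by simp only [hn]; group]
      exact inv_mem hx
    rcases R.w₀_only w with rfl | rfl
    · rw [A.n_one, mul_one] at e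
      rw [A.Uw_one, Subgroup.mem_bot] at hb
      rw [hb, mul_one] at e
      have := R.opp.V_inter_B hV' (e ▸ ⟨a, ha, h, hh, rfl⟩)
      rw [conj_eq_one_iff, inv_eq_one] at this
      exact absurd this hxne
    have hbU : b ∈ A.U := A.Uw_le _ hb
    obtain ⟨k2, hk2, e2⟩ := A.n_inv R.w₀
    rw [R.opp.inv_eq] at e2
    change n⁻¹ = k2 * n at e2
    set m := k2 * (n * h⁻¹ * n⁻¹) * (n * n) with hm
    have hnn : n * n ∈ A.H := by
      rw [show n * n = k2⁻¹ by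
        refine eq_inv_of_mul_eq_one_right ?_
        rw [← mul_assoc, ← e2, inv_mul_cancel]]
      exact inv_mem hk2
    have hmH : m ∈ A.H := mul_mem (mul_mem hk2 (A.n_conj_H R.w₀ _ (inv_mem hh))) hnn
    have hcV : ∀ g ∈ A.H, ∀ z ∈ Vopp A R.w₀, g * z * g⁻¹ ∈ Vopp A R.w₀ := by
      intro g hg z hz
      rw [mem_Vopp] at hz ⊢
      rw [show (A.n R.w₀)⁻¹ * (g * z * g⁻¹) * A.n R.w₀ = ((A.n R.w₀)⁻¹ * g * A.n R.w₀) *
        ((A.n R.w₀)⁻¹ * z * A.n R.w₀) * ((A.n R.w₀)⁻¹ * g * A.n R.w₀)⁻¹ by group]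
      exact A.H_conj_U _ (A.n_conj_H' R.w₀ hg) _ hz
    have hk3 : k2 * (n * h⁻¹ * n⁻¹) ∈ A.H := mul_mem hk2 (A.n_conj_H R.w₀ _ (inv_mem hh))
    have hva : n * a⁻¹ * n⁻¹ ∈ Vopp A R.w₀ := by
      rw [mem_Vopp, show (A.n R.w₀)⁻¹ * (n * a⁻¹ * n⁻¹) * A.n R.w₀ = a⁻¹ by simp only [hn]; group]
      exact inv_mem ha
    refine ⟨m⁻¹ * (k2 * (n * h⁻¹ * n⁻¹) * (n * a⁻¹ * n⁻¹) * (k2 * (n * h⁻¹ * n⁻¹))⁻¹) * m⁻¹⁻¹,
      hcV _ (inv_mem hmH) _ (hcV _ hk3 _ hva), m⁻¹ * b * m, ?_, m⁻¹, inv_mem hmH, ?_⟩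
    · simpa using A.H_conj_U _ (inv_mem hmH) _ hbU
    · have hx' : n * x = b⁻¹ * (n⁻¹ * h⁻¹ * a⁻¹ * n) := by
        have := congrArg (fun z => z⁻¹) e
        simp only [mul_inv_rev, inv_inv] at this
        calc n * x = n * (x * n⁻¹) * n := by group
          _ = _ := by rw [this]; simp only [hn]; group
      rw [e2] at hx'
      calc m⁻¹ * (k2 * (n * h⁻¹ * n⁻¹) * (n * a⁻¹ * n⁻¹) * (k2 * (n * h⁻¹ * n⁻¹))⁻¹) * m⁻¹⁻¹
          = m⁻¹ * (k2 * n * h⁻¹ * a⁻¹ * n) := by rw [hm]; group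
        _ = m⁻¹ * b * (n * x) := by rw [hx']; group
        _ = _ := by group
  have hvn : θ v = j * v * j⁻¹ := by
    set y := n⁻¹ * v * n with hy
    have hyU : y ∈ A.U := (mem_Vopp A).1 hv
    have hvy : v = n * y * n⁻¹ := by rw [hy]; group
    rw [hvy, map_mul, map_mul, map_inv, hidU y hyU, hθn, hj]
    group
  rw [e, map_mul, map_mul, map_mul, hidU u hu, hidU x hx, hidH h hh, hθn] at hvn
  have e3 : u * h * (n * k) * x = u * (h * j) * n * x := by rw [hj]; group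
  have e4 : j * (u * h * n * x) * j⁻¹
      = j * u * j⁻¹ * (j * h * (n * j⁻¹ * n⁻¹)) * n * (j * x * j⁻¹) := by group
  rw [e3, e4] at hvn
  exact (A.unique hu (A.H_conj_U j hjH u hu) (mul_mem hh hjH)
    (mul_mem (mul_mem hjH hh) (A.n_conj_H R.w₀ _ (inv_mem hjH)))
    (R.opp.Uw_eq.symm ▸ hx : x ∈ A.Uw R.w₀)
    (R.opp.Uw_eq.symm ▸ A.H_conj_U j hjH x hx : j * x * j⁻¹ ∈ A.Uw R.w₀) hvn).2.2.2.symm

/-- `|Out G| = |Aut K|`. -/
theorem card_out [Finite K] (hgen : ∀ L : Subgroup G, A.U ≤ L → A.n R.w₀ ∈ L → L = ⊤)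
    (hinner : ∀ θ : G ≃* G, ∃ g, Fix (θ.trans (MulAut.conj g)) A.U ∧
      Fix (θ.trans (MulAut.conj g)) (Vopp A R.w₀))
    (field : RingAut K → MulAut G)
    (hfield : ∀ f, Fix (field f) A.U ∧ Fix (field f) (Vopp A R.w₀) ∧
      ∀ x ∈ A.U, R.c1 (field f x) = f (R.c1 x)) :
    Nat.card (Cfsg.Out G) = Nat.card (RingAut K) := by
  have hH : ∀ h ∈ A.H, Fix (MulAut.conj h) A.U ∧ Fix (MulAut.conj h) (Vopp A R.w₀) := by
    intro h hh
    refine ⟨fun x => ?_, fun x => ?_⟩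
    · exact ⟨fun hx => by simpa [mul_assoc] using A.H_conj_U _ (inv_mem hh) _ hx,
        A.H_conj_U h hh x⟩
    · have hk := A.n_conj_H' R.w₀ hh
      rw [MulAut.conj_apply, mem_Vopp, mem_Vopp]
      set n := A.n R.w₀
      rw [show n⁻¹ * (h * x * h⁻¹) * n = (n⁻¹ * h * n) * (n⁻¹ * x * n) * (n⁻¹ * h * n)⁻¹ by group]
      exact ⟨fun hx => by simpa [mul_assoc, n] using A.H_conj_U _ (inv_mem hk) _ hx,
        A.H_conj_U _ hk _⟩
  have hex : ∀ θ : G ≃* G, Fix θ A.U → Fix θ (Vopp A R.w₀) →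
      ∃ h ∈ A.H, ∃ f, θ = MulAut.conj h * field f := by
    intro θ hU hV
    choose r hrU hr using R.surj1
    have hc0 : R.c1 (θ (r 1)) ≠ 0 := by
      intro e
      have h1 : θ (r 1) ∈ R.U1 := (R.ker1 _ ((hU _).2 (hrU 1))).1 e
      have h2 := R.fix_U1 hU.symm h1
      rw [MulEquiv.symm_apply_apply] at h2
      exact one_ne_zero ((hr 1).symm.trans ((R.ker1 _ (hrU 1)).2 h2))
    set c := R.c1 (θ (r 1))
    obtain ⟨h0, hh0, hl0⟩ := R.lam_surj c⁻¹ (inv_ne_zero hc0)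
    set η := θ.trans (MulAut.conj h0) with hη
    have hηU : Fix η A.U := hU.trans (hH h0 hh0).1
    have hηV : Fix η (Vopp A R.w₀) := hV.trans (hH h0 hh0).2
    let a : K → K := fun t => R.c1 (η (r t))
    have hw : ∀ x ∈ A.U, R.c1 (η x) = a (R.c1 x) := by
      intro x hx
      have h1 := R.fix_U1 hηU (R.eq_of_c1 (hrU (R.c1 x)) hx (hr _))
      have h2 := R.add1 _ ((hηU _).2 (hrU (R.c1 x))) _ (R.le1 h1)
      rw [← map_mul, mul_inv_cancel_left, (R.ker1 _ (R.le1 h1)).2 h1, add_zero] at h2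
      exact h2
    have hadd : ∀ s t, a (s + t) = a s + a t := fun s t => by
      have := hw _ (mul_mem (hrU s) (hrU t))
      rw [map_mul, R.add1 _ ((hηU _).2 (hrU s)) _ ((hηU _).2 (hrU t)), R.add1 _ (hrU s) _ (hrU t),
        hr, hr] at this
      exact this.symm
    have h1 : a 1 = 1 := by
      show R.c1 (η (r 1)) = 1
      rw [hη, MulEquiv.trans_apply, MulAut.conj_apply, R.act1 _ hh0 _ ((hU _).2 (hrU 1)), hl0,
        inv_mul_cancel₀ hc0]
    have hscale : ∀ h ∈ A.H, ∀ t, a (R.lam h * t) = R.lam (η h) * a t := fun h hh t => by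
      have := hw _ (A.H_conj_U h hh _ (hrU t))
      rw [map_mul, map_mul, map_inv, R.act1 _ (R.fix_H hηU hηV hh) _ ((hηU _).2 (hrU t)),
        R.act1 h hh _ (hrU t), hr] at this
      exact this.symm
    have hmul : ∀ s t, a (s * t) = a s * a t := by
      intro s t
      by_cases hs : s = 0
      · subst hs
        have h0 : a 0 = 0 := map_zero (AddMonoidHom.mk' a hadd)
        rw [zero_mul, h0, zero_mul]
      obtain ⟨h, hh, hl⟩ := R.lam_surj s hs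
      have e1 := hscale h hh 1
      have e2 := hscale h hh t
      rw [hl, mul_one, h1, mul_one] at e1
      rw [hl, ← e1] at e2
      exact e2
    have hinj : Function.Injective a := by
      have hker : ∀ t, a t = 0 → t = 0 := fun t e => by
        by_contra ht
        have e2 := hmul t t⁻¹
        rw [mul_inv_cancel₀ ht, h1, e, zero_mul] at e2
        exact one_ne_zero e2
      exact (injective_iff_map_eq_zero (AddMonoidHom.mk' a hadd)).2 hker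
    let f : RingAut K := RingEquiv.ofBijective
      (RingHom.mk' ⟨⟨a, h1⟩, hmul⟩ hadd) (Finite.injective_iff_bijective.1 hinj)
    obtain ⟨fU, fV, fc⟩ := hfield f
    have hid : η.trans (field f).symm = MulEquiv.refl G := by
      refine R.eq_refl_of hgen (hηU.trans fU.symm) (hηV.trans fV.symm) fun x hx => ?_
      have hz : η x ∈ A.U := (hηU x).2 hx
      have h2 := fc _ ((fU.symm _).2 hz)
      rw [MulEquiv.apply_symm_apply, hw x hx] at h2
      exact (f.injective (h2 : f (R.c1 x) = f _)).symm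
    refine ⟨h0⁻¹, inv_mem hh0, f, MulEquiv.ext fun z => ?_⟩
    have e := congrArg (fun g : G ≃* G => field f (g z)) hid
    simp only [MulEquiv.trans_apply, MulEquiv.apply_symm_apply, MulEquiv.refl_apply] at e
    rw [MulAut.mul_apply, MulAut.conj_apply, ← e, hη, MulEquiv.trans_apply, MulAut.conj_apply]
    group
  let m : RingAut K → Cfsg.Out G := fun f => QuotientGroup.mk (field f)
  have hsurj : Function.Surjective m := by
    intro o
    obtain ⟨θ, rfl⟩ := QuotientGroup.mk_surjective o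
    obtain ⟨g, hU, hV⟩ := hinner θ
    obtain ⟨h, -, f, e⟩ := hex _ hU hV
    refine ⟨f, ?_⟩
    have hθ : θ = MulAut.conj (g⁻¹ * h) * field f := by
      rw [map_mul, map_inv, mul_assoc, ← e, eq_inv_mul_iff_mul_eq]
      rfl
    show QuotientGroup.mk (field f) = _
    rw [hθ, QuotientGroup.mk_mul,
      (QuotientGroup.eq_one_iff _).2 (show MulAut.conj (g⁻¹ * h) ∈ Cfsg.Inn G from ⟨_, rfl⟩),
      one_mul]
  have hinj : Function.Injective m := by
    intro f f' e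
    obtain ⟨g, hg⟩ : (field f) * (field f')⁻¹ ∈ Cfsg.Inn G := by
      rw [← QuotientGroup.eq_one_iff (N := Cfsg.Inn G), QuotientGroup.mk_mul, QuotientGroup.mk_inv,
        show (QuotientGroup.mk (field f) : Cfsg.Out G) = QuotientGroup.mk (field f') from e,
        mul_inv_cancel]
    obtain ⟨fU, fV, fc⟩ := hfield f
    obtain ⟨fU', fV', fc'⟩ := hfield f'
    have hg2 : MulAut.conj g = (field f').symm.trans (field f) := by rw [hg]; rfl
    have hgH : g ∈ A.H := mem_H_of_fix A R.opp (hg2 ▸ fU'.symm.trans fU) (hg2 ▸ fV'.symm.trans fV)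
    have e2 : ∀ x ∈ A.U, f (R.c1 x) = R.lam g * f' (R.c1 x) := by
      intro x hx
      have hx' : field f' x ∈ A.U := (fU' x).2 hx
      have e3 : field f x = g * field f' x * g⁻¹ := by
        rw [← MulAut.conj_apply, hg2, MulEquiv.trans_apply, MulEquiv.symm_apply_apply]
      rw [← fc x hx, ← fc' x hx, e3, R.act1 g hgH _ hx']
    refine RingEquiv.ext fun t => ?_
    obtain ⟨x1, hx1, ex1⟩ := R.surj1 1
    obtain ⟨x, hx, ex⟩ := R.surj1 t
    have h1 := e2 x1 hx1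
    rw [ex1, map_one, map_one, mul_one] at h1
    have h2 := e2 x hx
    rw [ex, ← h1, one_mul] at h2
    exact h2
  exact (Nat.card_eq_of_bijective m ⟨hinj, hsurj⟩).symm

end ReeType

end Cfsg.Agent.H56.TwAut
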