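import Cfsg.Agent.H56.TwAut.TwBasic
import Cfsg.Agent.H56.TwAut.Orbits
import Cfsg.Agent.H56.TwAut.Out
import Cfsg.Agent.H56.ChevAut.Out
import Cfsg.Agent.H37.Twist.Pieces
import Cfsg.Agent.H37.Twist.Result
import Cfsg.Agent.H37.Twist.Torus

/-!
A twisted group whose fundamental root groups are products over orbits of orthogonal fundamental
roots with parameters `t, t^q, t^(q²), …`: root frames, diagonal and field automorphisms.
-/
set_option autoImplicit false

namespace Cfsg.Agent.H56.TwAut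

open Cfsg.Lie Cfsg.Agent.H37 Cfsg.Agent.H37.NormalForm Cfsg.Agent.H37.RootSys Cfsg.Agent.H37.Twist
  Cfsg.Agent.H56.ChevAut

variable {D : ChevalleyDatum} {K : Type*} [Field K] [Finite K] {S : Setup D K} {E : Endo S.Q}
  {W' : Type*} [Group W'] {Φ : Fold E W'}

/-- The data of the fundamental root groups of a twisted group. -/
structure Spec (Md : Model Φ) (q : ℕ) where
  ow : Fin D.rank → Fin Φ.k
  O : Fin Φ.k → List (Fin D.rank)
  mem_O : ∀ a i, a ∈ O i ↔ ow a = i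
  orth : ∀ i, OrthList D (O i)
  hd : Fin Φ.k → Fin D.rank
  hd_mem : ∀ i, hd i ∈ O i
  pw : Fin D.rank → ℕ
  pw_hd : ∀ i, pw (hd i) = 0
  k : Fin Φ.k → Subfield K
  k_map : ∀ (f : RingAut K) i (t : K), t ∈ k i → f t ∈ k i
  card_k : ∀ i, Nat.card (k i) ^ Md.e = Nat.card K ^ S.Q.X.good.inv (Φ.ι (Φ.gens i))
  e_pos : Md.e ≠ 0
  add_pow : ∀ t u : K, (t + u) ^ q = t ^ q + u ^ q
  word_eq : ∀ i, Φ.word i = (O i).map fun a => a.val
  gens_inj : Function.Injective Φ.gens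
  x_mem : ∀ i, ∀ t ∈ k i, (px S (O i) fun a => t ^ q ^ pw a).1 ∈ Md.T
  y_mem : ∀ i, ∀ t ∈ k i, (py S (O i) fun a => t ^ q ^ pw a).1 ∈ Md.T
  gen : ∀ L : Subgroup (GL D.Idx K),
    (∀ i, ∀ t ∈ k i, (px S (O i) fun a => t ^ q ^ pw a).1 ∈ L) →
    (∀ i, ∀ t ∈ k i, (py S (O i) fun a => t ^ q ^ pw a).1 ∈ L) → Md.T ≤ L
  flip_mem : ∀ a, D.simple a.val ∈ Sys.flip S.Q.X.good (Φ.ι (Φ.gens (ow a)))
  w0_flip : ∀ a : Fin D.rank, ∀ h : D.neg (D.simple a.val) < D.nroots,
    (S.Q.X.good.hom S.Q.X.w0 ⟨D.neg (D.simple a.val), h⟩).val ∈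
      Sys.flip S.Q.X.good (Φ.ι (Φ.gens (ow a)))
  faith : ∀ h ∈ S.Q.sys.H, E.σ h = h →
    (∀ v ∈ S.Q.sys.U, E.σ v = v → h * v = v * h) → h = 1

namespace Spec

variable {Md : Model Φ} {q : ℕ} (P : Spec Md q)

/-- The parameters along the orbits. -/
def par (t : K) (a : Fin D.rank) : K := t ^ q ^ P.pw a

include P in
omit [Finite K] in
theorem pow_pos_q : 0 < q := by
  refine Nat.pos_of_ne_zero fun h => ?_
  subst h
  simpa using P.add_pow (1 : K) 1

omit [Finite K] in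
theorem par_add (t u : K) (a : Fin D.rank) : P.par (t + u) a = P.par t a + P.par u a := by
  simp only [par]
  induction P.pw a generalizing t u with
  | zero => simp
  | succ n ih => rw [pow_succ', pow_mul, pow_mul, pow_mul, P.add_pow, ih]

omit [Finite K] in
theorem par_zero (a : Fin D.rank) : P.par 0 a = 0 :=
  zero_pow (pow_ne_zero _ (Nat.pos_iff_ne_zero.1 P.pow_pos_q))

omit [Finite K] in
theorem par_neg (t : K) (a : Fin D.rank) : P.par (-t) a = -P.par t a := by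
  have := P.par_add (-t) t a
  rw [neg_add_cancel, P.par_zero] at this
  exact eq_neg_of_add_eq_zero_left this.symm

omit [Finite K] in
theorem par_mul (t u : K) (a : Fin D.rank) : P.par (t * u) a = P.par t a * P.par u a := mul_pow ..

omit [Finite K] in
theorem par_one (a : Fin D.rank) : P.par 1 a = 1 := one_pow _

omit [Finite K] in
theorem par_inv (t : K) (a : Fin D.rank) : P.par t⁻¹ a = (P.par t a)⁻¹ := inv_pow ..

omit [Finite K] in
theorem par_hd (t : K) (i : Fin Φ.k) : P.par t (P.hd i) = t := by simp [par, P.pw_hd]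

/-- The positive root elements. -/
def tx (i : Fin Φ.k) (t : P.k i) : ↥Md.T := ⟨_, P.x_mem i t t.2⟩

/-- The negative root elements. -/
def ty (i : Fin Φ.k) (t : P.k i) : ↥Md.T := ⟨_, P.y_mem i t t.2⟩

omit [Finite K] in
theorem lift_tx (i : Fin Φ.k) (t : P.k i) : lift Md (P.tx i t) = px S (P.O i) (P.par t) := rfl

omit [Finite K] in
theorem lift_ty (i : Fin Φ.k) (t : P.k i) : lift Md (P.ty i t) = py S (P.O i) (P.par t) := rfl

theorem tx_add (i : Fin Φ.k) (t u : P.k i) : P.tx i t * P.tx i u = P.tx i (t + u) :=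
  lift_injective Md (by
    rw [lift_mul, lift_tx, lift_tx, lift_tx, px_add S (P.orth i)]
    exact px_congr S fun a _ => (P.par_add _ _ a).symm)

theorem ty_add (i : Fin Φ.k) (t u : P.k i) : P.ty i t * P.ty i u = P.ty i (t + u) :=
  lift_injective Md (by
    rw [lift_mul, lift_ty, lift_ty, lift_ty, py_add S (P.orth i)]
    exact py_congr S fun a _ => (P.par_add _ _ a).symm)

theorem tx_inj (i : Fin Φ.k) : Function.Injective (P.tx i) := fun t u h => by
  have := px_inj S (P.orth i) (congrArg (lift Md) h) (P.hd i) (P.hd_mem i)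
  exact Subtype.ext (by rwa [← P.par_hd (t : K) i, ← P.par_hd (u : K) i])

theorem ty_inj (i : Fin Φ.k) : Function.Injective (P.ty i) := fun t u h => by
  have := py_inj S (P.orth i) (congrArg (lift Md) h) (P.hd i) (P.hd_mem i)
  exact Subtype.ext (by rwa [← P.par_hd (t : K) i, ← P.par_hd (u : K) i])

theorem px_mem_Uw (i : Fin Φ.k) (p : Fin D.rank → K) :
    px S (P.O i) p ∈ S.Q.sys.Uw (Φ.ι (Φ.gens i)) := list_prod_mem fun z hz => by
  obtain ⟨a, ha, rfl⟩ := List.mem_map.1 hz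
  exact x_mem_XS (Finset.mem_coe.2 ((P.mem_O a i).1 ha ▸ P.flip_mem a)) _

theorem tx_mem_Uw (i : Fin Φ.k) (t : P.k i) : P.tx i t ∈ Md.tw.Uw (Φ.gens i) :=
  (mem_Uw Md).2 (P.px_mem_Uw i _)

theorem mem_tw_Uw (i : Fin Φ.k) (v : ↥Md.T) (hv : v ∈ Md.tw.Uw (Φ.gens i)) :
    ∃ t, v = P.tx i t := by
  let f : P.k i → ↥(Md.tw.Uw (Φ.gens i)) := fun t => ⟨_, P.tx_mem_Uw i t⟩
  have hcard : Nat.card (P.k i) = Nat.card ↥(Md.tw.Uw (Φ.gens i)) :=
    Nat.pow_left_injective P.e_pos ((P.card_k i).trans (Md.card_tw_Uw _).symm)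
  obtain ⟨t, ht⟩ := ((Nat.bijective_iff_injective_and_card f).2
    ⟨fun a b e => P.tx_inj i (congrArg Subtype.val e), hcard⟩).2 ⟨v, hv⟩
  exact ⟨t, (congrArg Subtype.val ht).symm⟩

/-- The value of a `H`-element on the root groups. -/
theorem H_conj (h : ↥Md.T) (hh : h ∈ Md.tw.H) (i : Fin Φ.k) : ∃ c : (P.k i)ˣ, ∀ t : P.k i,
    h * P.tx i t * h⁻¹ = P.tx i ((c : P.k i) * t) ∧
      h * P.ty i t * h⁻¹ = P.ty i ((c⁻¹ : (P.k i)ˣ) * t) := by
  obtain ⟨c, hc⟩ := exists_tG S.Q ((mem_H Md).1 hh)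
  have hx : ∀ p : Fin D.rank → K, lift Md h * px S (P.O i) p * (lift Md h)⁻¹ =
      px S (P.O i) fun a => (chT c (D.simple a.val) : K) * p a := fun p =>
    map_px S (MulAut.conj (lift Md h)).toMonoidHom fun a _ => by
      show lift Md h * S.xs a (p a) * (lift Md h)⁻¹ = _
      rw [← hc]
      exact tG_conj S.Q c (S.simple_lt a) _
  have hmem : h * P.tx i 1 * h⁻¹ ∈ Md.tw.Uw (Φ.gens i) := by
    rw [mem_Uw, lift_mul, lift_mul, lift_inv, lift_tx, hx]
    exact P.px_mem_Uw i _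
  obtain ⟨d, hd⟩ := P.mem_tw_Uw i _ hmem
  have hd0 : d ≠ 0 := by
    intro e
    rw [e] at hd
    have h0 : P.tx i 0 = 1 := mul_eq_left.1 ((P.tx_add i 0 0).trans (by rw [add_zero]))
    rw [h0, conj_eq_one_iff, ← h0] at hd
    exact one_ne_zero (P.tx_inj i hd)
  have hd' : ∀ a ∈ P.O i, (chT c (D.simple a.val) : K) = P.par d a := by
    intro a ha
    have h1 := congrArg (lift Md) hd
    rw [lift_mul, lift_mul, lift_inv, lift_tx, lift_tx, hx] at h1
    have h2 := px_inj S (P.orth i) h1 a ha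
    rwa [show ((1 : P.k i) : K) = 1 from rfl, P.par_one, mul_one] at h2
  refine ⟨Units.mk0 d hd0, fun t => ⟨lift_injective Md ?_, lift_injective Md ?_⟩⟩
  · rw [lift_mul, lift_mul, lift_inv, lift_tx, lift_tx, hx]
    exact px_congr S fun a ha => by
      rw [hd' a ha, Units.val_mk0, Subfield.coe_mul, P.par_mul]
  · rw [lift_mul, lift_mul, lift_inv, lift_ty, lift_ty]
    refine map_py S (MulAut.conj (lift Md h)).toMonoidHom fun a ha => ?_
    show lift Md h * S.ys a _ * (lift Md h)⁻¹ = _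
    rw [← hc]
    refine (tG_conj S.Q c (S.Q.K.neg_lt (S.simple_lt a)) _).trans ?_
    have hneg : chT c (D.neg (D.simple a.val)) = (chT c (D.simple a.val))⁻¹ := by
      have e : ∀ m : Fin D.rank, D.cartan m.val (D.neg (D.simple a.val))
          = -D.cartan m.val (D.simple a.val) := by
        intro m
        rw [S.Q.K.cartan_lin m.val m.isLt _ (S.Q.K.neg_lt (S.simple_lt a)),
          S.Q.K.cartan_lin m.val m.isLt _ (S.simple_lt a), Chevalley.list_sum_range_map,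
          Chevalley.list_sum_range_map, ← Finset.sum_neg_distrib]
        refine Finset.sum_congr rfl fun j hj => ?_
        rw [S.Q.K.cf_neg _ (S.simple_lt a) j (Finset.mem_range.1 hj)]
        ring
      simp only [chT, e, zpow_neg, Finset.prod_inv_distrib]
    rw [hneg, Units.val_inv_eq_inv_val, hd' a ha, ← P.par_inv, ← P.par_mul]
    congr 2

theorem ty_mem_V (i : Fin Φ.k) (t : P.k i) : P.ty i t ∈ Vopp Md.tw Md.w0 := by
  rw [mem_Vopp' Md]
  exact list_prod_mem fun z hz => by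
    obtain ⟨a, -, rfl⟩ := List.mem_map.1 hz
    exact S.ys_mem_V a _

theorem lift_nt (i : Fin Φ.k) (t : P.k i) :
    lift Md (P.tx i t * P.ty i (-t⁻¹) * P.tx i t) = pn S (P.O i) (P.par t) := by
  rw [lift_mul, lift_mul, lift_tx, lift_ty, ← pn_eq S (P.orth i)]
  congr 2
  exact py_congr S fun a _ => by
    rw [Subfield.coe_neg, Subfield.coe_inv, P.par_neg, P.par_inv]

theorem lift_nt' (i : Fin Φ.k) :
    lift Md (P.tx i (-1) * P.ty i 1 * P.tx i (-1)) = pn S (P.O i) fun _ => -1 := by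
  have := P.lift_nt i (-1)
  rw [inv_neg, inv_one, neg_neg] at this
  rw [this, pn, pn]
  exact congrArg List.prod (List.map_congr_left fun a _ => by
    rw [Subfield.coe_neg, P.par_neg, OneMemClass.coe_one, P.par_one])

theorem nt_mem (i : Fin Φ.k) (t : P.k i) (ht : t ≠ 0) :
    ∃ h ∈ Md.tw.H, P.tx i t * P.ty i (-t⁻¹) * P.tx i t = h * Md.tw.n (Φ.gens i) := by
  refine ⟨P.tx i t * P.ty i (-t⁻¹) * P.tx i t * (Md.tw.n (Φ.gens i))⁻¹, ?_,
    (inv_mul_cancel_right _ _).symm⟩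
  obtain ⟨h, hh, e⟩ := pn_mem S (L := P.O i) (P.par t) fun a _ =>
    pow_ne_zero _ (fun e => ht (Subtype.ext e))
  obtain ⟨k, hk, e'⟩ := lift_n Md (Φ.gens i)
  rw [mem_H, lift_mul, lift_inv, P.lift_nt, e, e', Φ.ι_gens, P.word_eq, mul_inv_rev, ← mul_assoc,
    mul_inv_cancel_right]
  exact mul_mem hh (inv_mem hk)

theorem n_conj (i : Fin Φ.k) (t : P.k i) : ∃ t', Md.tw.n (Φ.gens i) * P.tx i t *
    (Md.tw.n (Φ.gens i))⁻¹ = P.ty i t' := by
  obtain ⟨h, hh, e⟩ := P.nt_mem i 1 one_ne_zero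
  obtain ⟨c, hc⟩ := P.H_conj h⁻¹ (inv_mem hh) i
  refine ⟨(c⁻¹ : (P.k i)ˣ) * -t, ?_⟩
  rw [show Md.tw.n (Φ.gens i) = h⁻¹ * (P.tx i 1 * P.ty i (-(1 : P.k i)⁻¹) * P.tx i 1) by
    rw [e, inv_mul_cancel_left], ← (hc (-t)).2]
  have hn : P.tx i 1 * P.ty i (-(1 : P.k i)⁻¹) * P.tx i 1 * P.tx i t *
      (P.tx i 1 * P.ty i (-(1 : P.k i)⁻¹) * P.tx i 1)⁻¹ = P.ty i (-t) := by
    refine lift_injective Md ?_
    rw [lift_mul _ _ _⁻¹, lift_mul _ _ (P.tx i t), lift_inv, P.lift_nt, lift_tx, lift_ty]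
    have h1 : pn S (P.O i) (P.par ((1 : P.k i) : K)) = pn S (P.O i) fun _ => 1 :=
      congrArg List.prod (List.map_congr_left fun a _ => by rw [OneMemClass.coe_one, P.par_one])
    rw [h1, pn_conj S (P.orth i)]
    exact py_congr S fun a _ => by rw [Subfield.coe_neg, P.par_neg]
  rw [← hn]
  group

theorem w0_conj (i : Fin Φ.k) (t : P.k i) :
    ∃ t', Md.tw.n Md.w0 * P.ty i t * (Md.tw.n Md.w0)⁻¹ = P.tx i t' := by
  refine P.mem_tw_Uw i _ ((mem_Uw Md).2 ?_)
  obtain ⟨k, hk, e⟩ := lift_n Md Md.w0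
  rw [lift_mul, lift_mul, lift_inv, e, Md.ι_w0, lift_ty]
  have hle : ∀ g ∈ S.Q.sys.Uw (Φ.ι (Φ.gens i)),
      k * g * k⁻¹ ∈ S.Q.sys.Uw (Φ.ι (Φ.gens i)) := fun g hg =>
    conj_mem_XS (fun r hr u => by
      obtain ⟨u', eu⟩ := S.Q.sys.h_conj k hk r (Sys.mem_flip.1 hr).1 u
      rw [eu]; exact x_mem_XS (Finset.mem_coe.2 hr) u') hg
  suffices S.Q.amb.n S.Q.X.w0 * py S (P.O i) (P.par t) * (S.Q.amb.n S.Q.X.w0)⁻¹
      ∈ S.Q.sys.Uw (Φ.ι (Φ.gens i)) by
    convert hle _ this using 1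
    group
  rw [← MulAut.conj_apply, py, map_list_prod]
  refine list_prod_mem fun z hz => ?_
  obtain ⟨w, hw, rfl⟩ := List.mem_map.1 hz
  obtain ⟨a, ha, rfl⟩ := List.mem_map.1 hw
  obtain ⟨u, eu⟩ := S.Q.sys.rep_conj S.Q.X.w0 _ (S.Q.K.neg_lt (S.simple_lt a)) (P.par t a)
  show S.Q.amb.n S.Q.X.w0 * S.Q.sys.x (D.neg (D.simple a.val)) (P.par t a) *
    (S.Q.amb.n S.Q.X.w0)⁻¹ ∈ _
  rw [show S.Q.amb.n S.Q.X.w0 = S.Q.sys.rep S.Q.X.w0 from rfl, eu]
  exact x_mem_XS (Finset.mem_coe.2 ((P.mem_O a i).1 ha ▸ P.w0_flip a _)) _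

/-- The torus character. -/
def chi (i j : Fin Φ.k) (t : K) : K :=
  ((P.O i).map fun a : Fin D.rank => P.par t a ^ D.cartan a (D.simple (P.hd j))).prod

theorem torus' (i j : Fin Φ.k) (t : P.k i) (ht : t ≠ 0) : ∃ c : P.k j, (c : K) = P.chi i j t ∧
    ∀ u : P.k j, P.tx i t * P.ty i (-t⁻¹) * P.tx i t * (P.tx i (-1) * P.ty i 1 * P.tx i (-1)) *
      P.tx j u *
      (P.tx i t * P.ty i (-t⁻¹) * P.tx i t * (P.tx i (-1) * P.ty i 1 * P.tx i (-1)))⁻¹
        = P.tx j (c * u) := by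
  obtain ⟨h1, hh1, e1⟩ := P.nt_mem i t ht
  obtain ⟨h2, hh2, e2⟩ := P.nt_mem i (-1) (neg_ne_zero.2 one_ne_zero)
  rw [inv_neg, inv_one, neg_neg] at e2
  set n := Md.tw.n (Φ.gens i) with hn
  have hn2 : n * n ∈ Md.tw.H := by
    obtain ⟨h, hh, e⟩ := Md.tw.n_mul (Φ.gens i) (Φ.gens i)
    rw [Φ.sq_gens, Md.tw.n_one, mul_one] at e
    exact e ▸ hh
  set g := P.tx i t * P.ty i (-t⁻¹) * P.tx i t * (P.tx i (-1) * P.ty i 1 * P.tx i (-1)) with hg
  have hgH : g ∈ Md.tw.H := by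
    rw [hg, e1, e2, show h1 * n * (h2 * n) = h1 * (n * h2 * n⁻¹) * (n * n) by group]
    exact mul_mem (mul_mem hh1 (Md.tw.n_conj_H _ _ hh2)) hn2
  obtain ⟨c, hc⟩ := P.H_conj g hgH j
  refine ⟨(c : P.k j), ?_⟩
  -- compare with the product over the orbit
  let tu : Fin D.rank → Kˣ := fun a =>
    Units.mk0 (P.par t a) (pow_ne_zero _ fun e => ht (Subtype.ext e))
  have hbig : ∀ b u, lift Md g * S.xs b u * (lift Md g)⁻¹ = S.xs b
      (((((P.O i).map fun a : Fin D.rank => tu a ^ D.cartan a (D.simple b)).prod : Kˣ) : K) * u) := by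
    intro b u
    have hl : lift Md g = pn S (P.O i) (fun a => (tu a : K)) * pn S (P.O i) fun _ => -1 := by
      rw [hg, lift_mul, P.lift_nt, P.lift_nt']
      rfl
    rw [hl]
    exact pn_torus S (P.orth i) tu b u
  have h3 := congrArg (lift Md) (hc 1).1
  rw [lift_mul, lift_mul, lift_inv, lift_tx, lift_tx, mul_one] at h3
  have h4 : lift Md g * px S (P.O j) (P.par ((1 : P.k j) : K)) * (lift Md g)⁻¹ =
      px S (P.O j) fun b =>
        ((((P.O i).map fun a : Fin D.rank => tu a ^ D.cartan a (D.simple b)).prod : Kˣ) : K) *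
          P.par ((1 : P.k j) : K) b :=
    map_px S (MulAut.conj (lift Md g)).toMonoidHom fun b _ => hbig b _
  have h5 := px_inj S (P.orth j) (h3.symm.trans h4) (P.hd j) (P.hd_mem j)
  rw [P.par_hd, P.par_hd, OneMemClass.coe_one, mul_one] at h5
  refine ⟨h5.trans ?_, fun u => (hc u).1⟩
  refine ((map_list_prod (Units.coeHom K) _).trans ?_)
  rw [List.map_map, chi]
  congr 1
  refine List.map_congr_left fun a _ => ?_
  exact Units.val_zpow_eq_zpow_val _ _

open Classical in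
/-- The torus character on the subfields. -/
noncomputable def chiK (i j : Fin Φ.k) (t : P.k i) : P.k j :=
  if h : P.chi i j t ∈ P.k j then ⟨_, h⟩ else 0

theorem coe_chiK (i j : Fin Φ.k) {t : P.k i} (ht : t ≠ 0) :
    (P.chiK i j t : K) = P.chi i j t := by
  obtain ⟨c, hc, -⟩ := P.torus' i j t ht
  have h : P.chi i j t ∈ P.k j := hc ▸ c.2
  rw [chiK, dif_pos h]

theorem chi_self (i : Fin Φ.k) (t : P.k i) : P.chi i i t = (t : K) ^ 2 := by
  rw [chi, ← List.prod_toFinset _ (P.orth i).1,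
    Finset.prod_eq_single (P.hd i) (fun a ha hne => ?_)
      (fun h => absurd (List.mem_toFinset.2 (P.hd_mem i)) h),
    P.par_hd, S.Q.K.cartan_self _ (P.hd i).isLt, zpow_ofNat]
  have h := (P.orth i).2 a (List.mem_toFinset.1 ha) (P.hd i) (P.hd_mem i) hne
  simp only [orthSB, Bool.and_eq_true, beq_iff_eq] at h
  rw [h.2, zpow_zero]

/-- The parametrised root groups of the twisted group. -/
noncomputable def frames : Frames Md.tw K (Fin Φ.k) where
  w₀ := Md.w0
  opp := tw_opp Md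
  sw := Φ.gens
  sw_inj := P.gens_inj
  S_eq := rfl
  k := P.k
  x := P.tx
  y := P.ty
  x_add := P.tx_add
  y_add := P.ty_add
  x_inj := P.tx_inj
  y_inj := P.ty_inj
  x_mem i t := (mem_U Md).2 (list_prod_mem fun z hz => by
    obtain ⟨a, -, rfl⟩ := List.mem_map.1 hz
    exact S.xs_mem_U a _)
  y_mem := P.ty_mem_V
  mem_Uw := P.mem_tw_Uw
  sl2 i t ht := by
    obtain ⟨h, hh, e⟩ := P.nt_mem i (-t⁻¹) (by simp [ht])
    rw [inv_neg, inv_inv, neg_neg] at e
    refine ⟨t⁻¹, t⁻¹, h, hh, ?_⟩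
    have h1 : P.tx i (t⁻¹) * P.tx i (-t⁻¹) = 1 := by
      rw [P.tx_add, add_neg_cancel]
      exact mul_eq_left.1 ((P.tx_add i 0 0).trans (by rw [add_zero]))
    calc P.ty i t = P.tx i t⁻¹ * (P.tx i (-t⁻¹) * P.ty i t * P.tx i (-t⁻¹)) * P.tx i t⁻¹ := by
          rw [show P.tx i (-t⁻¹) = (P.tx i t⁻¹)⁻¹ from eq_inv_of_mul_eq_one_right h1]
          group
      _ = _ := by rw [e]; group
  n_conj := P.n_conj
  w₀_conj := P.w0_conj
  nt_mem := P.nt_mem
  χ := P.chiK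
  χ_self i t ht := Subtype.ext (by rw [P.coe_chiK i i ht, P.chi_self]; rfl)
  torus i j t u ht := by
    obtain ⟨c, hc, h⟩ := P.torus' i j t ht
    rw [h u, show P.chiK i j t = c from Subtype.ext ((P.coe_chiK i j ht).trans hc.symm)]
  H_conj := P.H_conj

/-- The restriction of an automorphism of the Chevalley group mapping the generators to generators. -/
theorem restrict_aux (φ : MulAut ↥(D.group K))
    (hx : ∀ i (t : P.k i), ∃ t' : P.k i, φ (lift Md (P.tx i t)) = lift Md (P.tx i t'))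
    (hy : ∀ i (t : P.k i), ∃ t' : P.k i, φ (lift Md (P.ty i t)) = lift Md (P.ty i t')) :
    Md.TG.map φ.toMonoidHom = Md.TG := by
  refine Subgroup.eq_of_le_of_card_ge ?_
    (Nat.card_congr (Subgroup.equivMapOfInjective _ _ φ.injective).toEquiv).le
  rw [Subgroup.map_le_iff_le_comap]
  have hle := P.gen ((Md.TG.comap φ.toMonoidHom).map (D.group K).subtype) (fun i t ht => ?_)
    (fun i t ht => ?_)
  · intro g hg
    obtain ⟨z, hz, e⟩ := hle (show (g : GL D.Idx K) ∈ Md.T from hg)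
    rwa [← Subtype.ext (a1 := z) (a2 := g) e]
  · obtain ⟨t', e⟩ := hx i ⟨t, ht⟩
    exact ⟨lift Md (P.tx i ⟨t, ht⟩), by
      show φ _ ∈ Md.TG
      rw [e]; exact (P.tx i t').2, rfl⟩
  · obtain ⟨t', e⟩ := hy i ⟨t, ht⟩
    exact ⟨lift Md (P.ty i ⟨t, ht⟩), by
      show φ _ ∈ Md.TG
      rw [e]; exact (P.ty i t').2, rfl⟩

/-- An automorphism of the Chevalley group stabilising the twisted group, restricted to it. -/
noncomputable def restrict (φ : MulAut ↥(D.group K)) (h : Md.TG.map φ.toMonoidHom = Md.TG) :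
    MulAut ↥Md.T :=
  (Subgroup.subgroupOfEquivOfLe Md.le_group).symm.trans
    (((φ.subgroupMap Md.TG).trans (MulEquiv.subgroupCongr h)).trans
      (Subgroup.subgroupOfEquivOfLe Md.le_group))

omit [Finite K] in
theorem lift_restrict (φ : MulAut ↥(D.group K)) (h : Md.TG.map φ.toMonoidHom = Md.TG) (g : ↥Md.T) :
    lift Md (restrict φ h g) = φ (lift Md g) := rfl

theorem ext_gen {θ η : ↥Md.T ≃* ↥Md.T} (hx : ∀ i t, θ (P.tx i t) = η (P.tx i t))
    (hy : ∀ i t, θ (P.ty i t) = η (P.ty i t)) : θ = η := by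
  have hle := P.gen ((MonoidHom.eqLocus θ.toMonoidHom η.toMonoidHom).map Md.T.subtype)
    (fun i t ht => ⟨P.tx i ⟨t, ht⟩, hx i _, rfl⟩) (fun i t ht => ⟨P.ty i ⟨t, ht⟩, hy i _, rfl⟩)
  refine MulEquiv.ext fun g => ?_
  obtain ⟨z, hz, e⟩ := hle g.2
  rwa [← Subtype.ext (a1 := z) (a2 := g) e]

/-- The coordinates of a diagonal automorphism of the Chevalley group. -/
noncomputable def cU (c : ∀ i, (P.k i)ˣ) (a : Fin D.rank) : Kˣ :=
  Units.mk0 (P.par ((c (P.ow a) : P.k (P.ow a)) : K) a)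
    (pow_ne_zero _ fun e => (c (P.ow a)).ne_zero (Subtype.ext e))

theorem cU_val (c : ∀ i, (P.k i)ˣ) {i : Fin Φ.k} {a : Fin D.rank} (ha : a ∈ P.O i) :
    (P.cU c a : K) = P.par ((c i : P.k i) : K) a := by
  obtain rfl := (P.mem_O a i).1 ha
  rfl

theorem diag_px (c : ∀ i, (P.k i)ˣ) (i : Fin Φ.k) (t : P.k i) :
    S.diagAut (P.cU c) (lift Md (P.tx i t)) = lift Md (P.tx i ((c i : P.k i) * t)) :=
  map_px S (S.diagAut (P.cU c)).toMonoidHom fun a ha => by
    show S.diagAut (P.cU c) (S.xs a _) = _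
    rw [S.diagAut_xs, P.cU_val c ha]
    simp only [Spec.par, Subfield.coe_mul, mul_pow]

theorem diag_py (c : ∀ i, (P.k i)ˣ) (i : Fin Φ.k) (t : P.k i) :
    S.diagAut (P.cU c) (lift Md (P.ty i t)) = lift Md (P.ty i (((c i)⁻¹ : (P.k i)ˣ) * t)) :=
  map_py S (S.diagAut (P.cU c)).toMonoidHom fun a ha => by
    show S.diagAut (P.cU c) (S.ys a _) = _
    rw [S.diagAut_ys, Units.val_inv_eq_inv_val, P.cU_val c ha]
    simp only [Spec.par, Subfield.coe_mul, mul_pow, inv_pow, Units.val_inv_eq_inv_val, Subfield.coe_inv]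

theorem field_px (f : RingAut K) (i : Fin Φ.k) (t : P.k i) :
    S.fieldOf f (lift Md (P.tx i t)) = lift Md (P.tx i ⟨f t, P.k_map f i t t.2⟩) :=
  map_px S (S.fieldOf f).toMonoidHom fun a _ => by
    show S.fieldOf f (S.xs a _) = _
    rw [(S.fieldOf_xs f a _).1]
    simp only [Spec.par, map_pow]

theorem field_py (f : RingAut K) (i : Fin Φ.k) (t : P.k i) :
    S.fieldOf f (lift Md (P.ty i t)) = lift Md (P.ty i ⟨f t, P.k_map f i t t.2⟩) :=
  map_py S (S.fieldOf f).toMonoidHom fun a _ => by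
    show S.fieldOf f (S.ys a _) = _
    rw [(S.fieldOf_xs f a _).2]
    simp only [Spec.par, map_pow]

/-- A diagonal automorphism of the twisted group. -/
noncomputable def tdiag (c : ∀ i, (P.k i)ˣ) : MulAut ↥Md.T :=
  restrict (S.diagAut (P.cU c))
    (P.restrict_aux _ (fun i t => ⟨_, P.diag_px c i t⟩) fun i t => ⟨_, P.diag_py c i t⟩)

/-- A field automorphism of the twisted group. -/
noncomputable def tfield (f : RingAut K) : MulAut ↥Md.T :=
  restrict (S.fieldOf f)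
    (P.restrict_aux _ (fun i t => ⟨_, P.field_px f i t⟩) fun i t => ⟨_, P.field_py f i t⟩)

theorem t_std (c : ∀ i, (P.k i)ˣ) (f : RingAut K) :
    Fix (P.tdiag c * P.tfield f) Md.tw.U ∧
      Fix (P.tdiag c * P.tfield f) (Vopp Md.tw Md.w0) := by
  refine ⟨fun g => ?_, fun g => ?_⟩
  · rw [mem_U, mem_U, MulAut.mul_apply, tdiag, lift_restrict, tfield, lift_restrict]
    exact ((S.field_std f).1.trans (S.diag_std (P.cU c)).1) (lift Md g)
  · rw [mem_Vopp' Md, mem_Vopp' Md, MulAut.mul_apply, tdiag, lift_restrict, tfield, lift_restrict]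
    exact ((S.field_std f).2.trans (S.diag_std (P.cU c)).2) (lift Md g)

/-- The automorphisms of the twisted group. -/
noncomputable def auts (hr : P.frames.Rigid)
    (hglue : ∀ s : ∀ i, P.k i ≃+* P.k i,
      (∀ i j (t : P.k i), t ≠ 0 →
        ∀ c : P.k j, (c : K) = P.chi i j t → (s j c : K) = P.chi i j (s i t)) →
        ∃ f : RingAut K, ∀ i (t : P.k i), (s i t : K) = f t)
    (hf : ∀ f f' : RingAut K, (∀ i (t : P.k i), f (t : K) = f' t) → f = f') :
    Auts P.frames where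
  rigid := hr
  ext _ _ := P.ext_gen
  inner := exists_inner Md
  centre h hh hc := Md.tw_faithful P.faith h hh fun u _ => by
    have := congrArg (fun a : MulAut ↥Md.T => a u) hc
    exact mul_inv_eq_iff_eq_mul.1 this
  diag := P.tdiag
  diag_x c i t := lift_injective Md (P.diag_px c i t)
  diag_y c i t := lift_injective Md (P.diag_py c i t)
  k_map := P.k_map
  field := P.tfield
  field_x f i t := lift_injective Md (P.field_px f i t)
  field_y f i t := lift_injective Md (P.field_py f i t)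
  glue s hs := hglue s fun i j t ht c hc => by
    have e : c = P.chiK i j t := Subtype.ext (hc.trans (P.coe_chiK i j ht).symm)
    rw [e]
    refine (congrArg Subtype.val (hs i j t ht)).trans ?_
    exact P.coe_chiK i j ((map_ne_zero_iff _ (s i).injective).2 ht)
  std := P.t_std
  faithful := hf

end Spec

end Cfsg.Agent.H56.TwAut
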